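import Groth.Agent.AlgSpLib.EtLocalInst

/-! Unramified morphisms are locally quasi-finite. -/

set_option autoImplicit false
set_option backward.isDefEq.respectTransparency.types false

universe u

open CategoryTheory AlgebraicGeometry

namespace Groth.Agent.Stk19

theorem ringHom_quasiFinite_of_unramified {R A : Type u} [CommRing R] [CommRing A] (φ : R →+* A)
    (h₁ : φ.FiniteType) (h₂ : φ.FormallyUnramified) : φ.QuasiFinite := by
  algebraize [φ]
  exact (inferInstance : Algebra.QuasiFinite R A)

theorem locallyQuasiFinite_of_unramified {X Y : Scheme.{u}} (f : X ⟶ Y) [LocallyOfFiniteType f]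
    [FormallyUnramified f] : LocallyQuasiFinite f := by
  rw [HasRingHomProperty.eq_affineLocally @LocallyQuasiFinite, affineLocally_iff_forall_isAffineOpen]
  intro U hU V hV e
  exact ringHom_quasiFinite_of_unramified _ (HasRingHomProperty.appLE @LocallyOfFiniteType f inferInstance ⟨U, hU⟩ ⟨V, hV⟩ e)
    (HasRingHomProperty.appLE @FormallyUnramified f inferInstance ⟨U, hU⟩ ⟨V, hV⟩ e)

theorem unramified_le_lqf :
    (@LocallyOfFiniteType ⊓ @FormallyUnramified : MorphismProperty Scheme.{u}) ≤
      (@LocallyQuasiFinite ⊓ @LocallyOfFiniteType : MorphismProperty Scheme.{u}) := fun _ _ f h => by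
  obtain ⟨h₁, h₂⟩ := h
  exact ⟨locallyQuasiFinite_of_unramified f, h₁⟩

end Groth.Agent.Stk19
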