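import Groth.Agent.Stk19.AlgSt.Props
import Groth.Agent.Stk19.AlgSt.Unram
import Groth.Agent.AlgSpLib.FppfLocal

/-! Facts about diagonals, closed immersions and covers of algebraic spaces. -/

set_option autoImplicit false
set_option backward.isDefEq.respectTransparency.types false

universe u

open CategoryTheory CategoryTheory.Limits AlgebraicGeometry Opposite Topology AlgSp

namespace Groth.Agent.Stk19

open Groth.Agent.AlgSpLib

variable {S : Scheme.{u}} {X Y : Sp S}

theorem formallyUnramified_of_mono {A B : Scheme.{u}} (f : A ⟶ B) [Mono f] : FormallyUnramified f := by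
  have : IsIso (pullback.diagonal f) := inferInstance
  infer_instance

theorem locP_lft_diagonal (hX : IsAlgSpace X) (f : X ⟶ Y) :
    LocP @LocallyOfFiniteType (pullback.diagonal f) :=
  locP_of_repWith etLocal_lft hX (repWith_diagonal f (repWith_diag_lft hX))

theorem locP_unram_diagonal (hX : IsAlgSpace X) (f : X ⟶ Y) :
    LocP (@LocallyOfFiniteType ⊓ @FormallyUnramified) (pullback.diagonal f) := by
  refine locP_of_repWith etLocal_unramified hX (RepWith.and (repWith_diagonal f (repWith_diag_lft hX)) ?_)
  exact RepWith.mono (fun _ _ g (hg : Mono g) => formallyUnramified_of_mono g)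
    (repWith_monomorphisms_of_mono (representable_diagonal hX f))

theorem locP_lqf_diagonal (hX : IsAlgSpace X) (f : X ⟶ Y) :
    LocP (@LocallyQuasiFinite ⊓ @LocallyOfFiniteType) (pullback.diagonal f) :=
  locP_of_repWith etLocal_lqf hX (repWith_diagonal f (repWith_diag_lqf hX))

theorem diagWith_of_mono {Q : MorphismProperty Scheme.{u}} [Q.IsStableUnderBaseChange] [Q.IsMultiplicative]
    (f : X ⟶ Y) [Mono f] : DiagWith Q f :=
  repWith_of_isIso Q (pullback.diagonal f)

theorem diagonal_isSeparatedMor (f : X ⟶ Y) : IsSeparatedMor (pullback.diagonal f) :=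
  diagWith_of_mono (Q := @IsClosedImmersion) (pullback.diagonal f)

theorem diagonal_isQuasiSeparatedMor (f : X ⟶ Y) : IsQuasiSeparatedMor (pullback.diagonal f) :=
  diagWith_of_mono (Q := @QuasiCompact) (pullback.diagonal f)

theorem isQuasiCompactMor_of_repWith {f : X ⟶ Y} (hf : RepWith @QuasiCompact f) : IsQuasiCompactMor f := by
  intro Z Z' hZ hqc g fst snd sq
  obtain ⟨U, q, hqe, hqs, hU⟩ := hqc
  have sqm := isPullback_chart sq q
  have hsn : RepWith @QuasiCompact (pullback.snd f (q ≫ g)) :=
    RepWith.baseChange (IsPullback.of_hasPullback f (q ≫ g)) hf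
  obtain ⟨W, σ, -⟩ := exists_scheme_pullback hsn.1 (IsPullback.of_horiz_isIso
    (⟨by simp⟩ : CommSq (𝟙 (pullback f (q ≫ g))) (pullback.snd f (q ≫ g)) (pullback.snd f (q ≫ g)) (𝟙 _)))
  obtain ⟨l, hl⟩ := (yon S).map_surjective (σ.hom ≫ pullback.snd f (q ≫ g))
  have hlq : QuasiCompact l.left := by
    refine (repWith_yon_map_iff @QuasiCompact l).1 ?_
    rw [hl]
    exact MorphismProperty.RespectsIso.precomp _ σ.hom _ hsn
  have : CompactSpace ↥U.left := hU
  have : CompactSpace ↥W.left := QuasiCompact.compactSpace_of_compactSpace l.left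
  refine ⟨W, σ.hom ≫ _, MorphismProperty.RespectsIso.precomp _ σ.hom _ (RepWith.baseChange sqm.flip hqe),
    MorphismProperty.RespectsIso.precomp _ σ.hom _ (RepWith.baseChange sqm.flip hqs), this⟩

theorem isClosedMap_points {f : X ⟶ Y} (hY : IsAlgSpace Y) (hf : RepWith @IsClosedImmersion f) :
    IsClosedMap (Points.map f) := by
  have hi : RepWith @IsImmersion f :=
    RepWith.mono (fun _ _ g (_ : IsClosedImmersion g) => (inferInstance : IsImmersion g)) hf
  refine ((isEmbedding_map_of_immersion hY hi).1.isInducing).isClosedMap ?_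
  obtain ⟨U, q, hqe, hqs⟩ := hY.atlas
  refine (isOpenQuotientMap_ofPt q hqe hqs).isQuotientMap.isClosed_preimage.1 ?_
  have sq := hf.1.isPullback q
  have : IsClosedImmersion (hf.1.snd q).left := hf.property_snd q
  have e : Points.ofPt q ⁻¹' Set.range (Points.map f) = Set.range (hf.1.snd q).left := by
    ext t
    constructor
    · rintro ⟨z, hz⟩
      rw [Points.ofPt_eq_map_ofScheme] at hz
      obtain ⟨r, -, hr⟩ := exists_point_of_isPullback sq hz
      obtain ⟨r', rfl⟩ := (Points.schemeEquiv _).surjective r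
      exact ⟨r', (Points.schemeEquiv U).injective ((map_yon_map_ofScheme _ r').symm.trans hr)⟩
    · rintro ⟨r, rfl⟩
      exact ⟨Points.ofPt (hf.1.fst q) r, by rw [Points.map_ofPt, sq.w, ofPt_map]⟩
  rw [e]
  exact (hf.1.snd q).left.isClosedEmbedding.isClosed_range

theorem isProperMor_of_closedImm (hX : IsAlgSpace X) {f : X ⟶ Y} (hf : RepWith @IsClosedImmersion f) :
    IsProperMor f := by
  have : Mono f := mono_of_repWith (fun _ _ g (_ : IsClosedImmersion g) => (inferInstance : Mono g)) hf
  refine ⟨diagWith_of_mono (Q := @IsClosedImmersion) f, ⟨?_, ?_⟩, ?_⟩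
  · exact locP_of_repWith etLocal_lft hX
      (RepWith.mono (fun _ _ g (_ : IsClosedImmersion g) => (inferInstance : LocallyOfFiniteType g)) hf)
  · exact isQuasiCompactMor_of_repWith
      (RepWith.mono (fun _ _ g (_ : IsClosedImmersion g) => (inferInstance : QuasiCompact g)) hf)
  · exact fun Z Z' hZ g fst snd sq => isClosedMap_points hZ (RepWith.baseChange sq hf)

theorem diagonal_isProperMor (hX : IsAlgSpace X) {f : X ⟶ Y} (hf : IsSeparatedMor f) :
    IsProperMor (pullback.diagonal f) := isProperMor_of_closedImm hX hf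

theorem diagonal_qcqs {f : X ⟶ Y} (hf : IsQuasiSeparatedMor f) :
    (IsQuasiCompactMor ⊓ IsQuasiSeparatedMor : MorphismProperty (Sp S)) (pullback.diagonal f) :=
  ⟨isQuasiCompactMor_of_repWith hf, diagonal_isQuasiSeparatedMor f⟩

theorem pbStable_qcqs : PbStable (IsQuasiCompactMor ⊓ IsQuasiSeparatedMor : MorphismProperty (Sp S)) := by
  rw [qcqs_eq]; exact pbStable_qcMor.inf pbStable_diagWith

theorem compStable_qcqs : CompStable (IsQuasiCompactMor ⊓ IsQuasiSeparatedMor : MorphismProperty (Sp S)) := by
  rw [qcqs_eq]; exact compStable_qcMor.inf compStable_diagWith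

theorem schemeTested_qcqs : SchemeTested (IsQuasiCompactMor ⊓ IsQuasiSeparatedMor : MorphismProperty (Sp S)) := by
  rw [qcqs_eq]; exact schemeTested_qcMor.inf schemeTested_diagWith

/-- Descent of a property along a flat surjection of schemes. -/
theorem locP_of_scheme_cover {P : MorphismProperty Scheme.{u}} (hP : EtLocal P) {T W : Over S} (c : W ⟶ T)
    [Flat c.left] [LocallyOfFinitePresentation c.left] [Surjective c.left] (hX : IsAlgSpace X)
    (a : X ⟶ (yon S).obj T) {Q : Sp S} {fst : Q ⟶ X} {snd : Q ⟶ (yon S).obj W}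
    (sq : IsPullback fst snd a ((yon S).map c)) (h : LocP P snd) : LocP P a := by
  have := hP.localTarget
  have := hP.bc
  have := hP.comp
  obtain ⟨V, a₀, hae, has⟩ := hX.atlas
  obtain ⟨v, hv⟩ := (yon S).map_surjective (a₀ ≫ a)
  have sq' := (IsPullback.of_hasPullback v c).map (yon S)
  rw [hv] at sq'
  have hQ : IsAlgSpace Q := isAlgSpace_of_isPullback (IsAlgSpace.yon_obj T).diag hX (IsAlgSpace.yon_obj W) sq
  let m := sq.lift ((yon S).map (pullback.fst v c) ≫ a₀) ((yon S).map (pullback.snd v c))
    (by rw [Category.assoc]; exact sq'.w)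
  have hm : RepWith @Etale m := RepWith.baseChange
    (IsPullback.of_bot (h₁₁ := (yon S).map (pullback.fst v c)) (v₁₁ := m) (v₁₂ := a₀) (by simpa [m] using sq') (by simp [m]) sq) hae
  have hW : P (pullback.snd v c).left :=
    (repWith_yon_map_iff P _).1 (by
      have := repWith_comp_of_locP hP (IsAlgSpace.yon_obj W) h m hm
      simpa [m] using this)
  have hVT : P v.left := by
    refine of_covering v (mem_J_of_flat_lfp_surjective c (R := Sieve.generate (Presieve.singleton c))
      (Sieve.le_generate _ _ _ (Presieve.singleton_self c))) ?_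
    rintro T' u ⟨_, k, _, ⟨⟩, rfl⟩
    have hsq := (IsPullback.of_hasPullback (pullback.snd v c) k).paste_horiz (IsPullback.of_hasPullback v c)
    have hk : P (pullback.snd (pullback.snd v c) k).left :=
      MorphismProperty.of_isPullback ((IsPullback.of_hasPullback (pullback.snd v c) k).map (Over.forget S)) hW
    rw [← hsq.isoPullback_inv_snd, Over.comp_left]
    exact (P.cancel_left_of_respectsIso _ _).2 hk
  refine locP_of_atlas hP hX a₀ hae has ?_
  rw [← hv]
  exact (repWith_yon_map_iff P v).2 hVT

end Groth.Agent.Stk19
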