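import Groth.Agent.AlgSpLib.LocPMore
import Groth.Agent.AlgSpLib.PointsTop
import Groth.Prelude.Def_AlgSp4

/-! Formal stability properties of properties of morphisms of algebraic spaces. -/

set_option autoImplicit false
set_option backward.isDefEq.respectTransparency.types false

universe u

open CategoryTheory CategoryTheory.Limits AlgebraicGeometry Opposite Topology AlgSp

namespace Groth.Agent.Stk19

open Groth.Agent.AlgSpLib

variable {S : Scheme.{u}}

/-- Stable under base change between algebraic spaces. -/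
def PbStable (P : MorphismProperty (Sp S)) : Prop :=
  ∀ ⦃X₁ Y₁ X₂ Y₂ : Sp S⦄, IsAlgSpace X₁ → IsAlgSpace Y₁ → IsAlgSpace X₂ → IsAlgSpace Y₂ →
    ∀ (a : X₁ ⟶ Y₁) (b : Y₂ ⟶ Y₁) (a' : X₂ ⟶ Y₂) (b' : X₂ ⟶ X₁), IsPullback b' a' a b → P a → P a'

/-- Stable under composition of morphisms of algebraic spaces. -/
def CompStable (P : MorphismProperty (Sp S)) : Prop :=
  ∀ ⦃X Y Z : Sp S⦄, IsAlgSpace X → IsAlgSpace Y → IsAlgSpace Z → ∀ (a : X ⟶ Y) (b : Y ⟶ Z), P a → P b → P (a ≫ b)

/-- Testable on base changes to schemes. -/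
def SchemeTested (P : MorphismProperty (Sp S)) : Prop :=
  ∀ ⦃V Z : Space S⦄ (a : V.obj ⟶ Z.obj),
    (∀ ⦃W : Over S⦄ (p : (yon S).obj W ⟶ Z.obj), P (pullback.snd a p)) → P a

variable {X Y Z : Sp S}

theorem isAlgSpace_pullback_yon {V Z : Space S} (a : V.obj ⟶ Z.obj) {W : Over S} (p : (yon S).obj W ⟶ Z.obj) :
    IsAlgSpace (pullback a p) :=
  isAlgSpace_pullback (Y := ⟨_, IsAlgSpace.yon_obj W⟩) a p

section Inf

variable {P Q : MorphismProperty (Sp S)}

theorem PbStable.inf (h : PbStable P) (h' : PbStable Q) : PbStable (P ⊓ Q) :=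
  fun _ _ _ _ a b c d x y z w sq hx => ⟨h a b c d x y z w sq hx.1, h' a b c d x y z w sq hx.2⟩

theorem CompStable.inf (h : CompStable P) (h' : CompStable Q) : CompStable (P ⊓ Q) :=
  fun _ _ _ a b c x y hx hy => ⟨h a b c x y hx.1 hy.1, h' a b c x y hx.2 hy.2⟩

theorem SchemeTested.inf (h : SchemeTested P) (h' : SchemeTested Q) : SchemeTested (P ⊓ Q) :=
  fun _ _ a hx => ⟨h a fun W p => (hx p).1, h' a fun W p => (hx p).2⟩

end Inf

section LocP

variable {P : MorphismProperty Scheme.{u}}

theorem pbStable_locP (hP : EtLocal P) : PbStable (LocP (S := S) P) :=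
  fun _ _ _ _ h₁ h₂ h₃ _ _ _ _ _ sq ha => locP_of_isPullback hP h₁ h₂ h₃ sq ha

theorem compStable_locP (hP : EtLocal P) : CompStable (LocP (S := S) P) :=
  fun _ _ _ hX hY hZ _ _ ha hb => locP_comp hP hX hY hZ ha hb

theorem schemeTested_locP (hP : EtLocal P) : SchemeTested (LocP (S := S) P) := fun V Z a h => by
  obtain ⟨W, p, hpe, hps⟩ := Z.property.atlas
  exact locP_of_target_cover hP V.property Z.property p hpe hps (IsPullback.of_hasPullback a p) (h p)

end LocP

section RepWith

variable {Q : MorphismProperty Scheme.{u}}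

theorem pbStable_repWith : PbStable (RepWith (S := S) Q) :=
  fun _ _ _ _ _ _ _ _ _ _ _ _ sq ha => RepWith.baseChange sq ha

theorem compStable_repWith [Q.IsStableUnderComposition] : CompStable (RepWith (S := S) Q) :=
  fun _ _ _ _ _ _ _ _ ha hb => RepWith.comp ha hb

theorem schemeTested_repWith [Q.RespectsIso] : SchemeTested (RepWith (S := S) Q) := fun V Z a h => by
  refine MorphismProperty.relative.of_exists fun W p => ?_
  have hr := h p
  have sq := (hr.1.isPullback (𝟙 _)).paste_horiz (IsPullback.of_hasPullback a p)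
  rw [Category.id_comp] at sq
  exact ⟨_, _, _, sq, hr.property_snd _⟩

end RepWith

section Diagonal

variable {Q : MorphismProperty Scheme.{u}}

/-- Diagonal representable with a property. -/
abbrev DiagWith (Q : MorphismProperty Scheme.{u}) : MorphismProperty (Sp S) := fun _ _ f =>
  RepWith Q (pullback.diagonal f)

theorem pbStable_diagWith : PbStable (DiagWith (S := S) Q) :=
  fun _ _ _ _ _ _ _ _ _ _ _ _ sq ha => RepWith.baseChange (isPullback_diagonal_map sq) ha

theorem compStable_diagWith [Q.IsStableUnderComposition] : CompStable (DiagWith (S := S) Q) := by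
  intro A B D _ _ _ a b ha hb
  show RepWith Q (pullback.diagonal (a ≫ b))
  rw [pullback.diagonal_comp]
  refine RepWith.comp ha ?_
  exact MorphismProperty.RespectsIso.precomp _ _ _ (RepWith.baseChange (IsPullback.of_hasPullback _ _) hb)

theorem schemeTested_diagWith [Q.RespectsIso] : SchemeTested (DiagWith (S := S) Q) := fun V Z a h => by
  refine MorphismProperty.relative.of_exists fun T g => ?_
  obtain ⟨y, hy⟩ : ∃ y : (yon S).obj T ⟶ Z.obj, y = g ≫ pullback.fst a a ≫ a := ⟨_, rfl⟩
  have sq := IsPullback.of_hasPullback a y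
  have sqd := isPullback_diagonal_map sq
  have hsn : RepWith Q (pullback.diagonal (pullback.snd a y)) := h y
  obtain ⟨x₁, h₁, h₁'⟩ := sq.exists_lift (g ≫ pullback.fst a a) (𝟙 _)
    (by rw [hy, Category.id_comp, Category.assoc])
  obtain ⟨x₂, h₂, h₂'⟩ := sq.exists_lift (g ≫ pullback.snd a a) (𝟙 _)
    (by rw [hy, Category.id_comp, Category.assoc, pullback.condition])
  let g' : (yon S).obj T ⟶ pullback (pullback.snd a y) (pullback.snd a y) :=
    pullback.lift x₁ x₂ (h₁'.trans h₂'.symm)
  have hg : g' ≫ pullback.map (pullback.snd a y) (pullback.snd a y) a a (pullback.fst a y) (pullback.fst a y) y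
      sq.w.symm sq.w.symm = g := by
    apply pullback.hom_ext
    · rw [Category.assoc, pullback.lift_fst, pullback.lift_fst_assoc]
      exact h₁
    · rw [Category.assoc, pullback.lift_snd, pullback.lift_snd_assoc]
      exact h₂
  have sq' := (hsn.1.isPullback g').paste_horiz sqd
  rw [hg] at sq'
  exact ⟨_, _, _, sq', hsn.property_snd g'⟩

end Diagonal

section Affine

/-- The common shape of affine, integral and finite morphisms. -/
def AffineWith (Q : MorphismProperty Scheme.{u}) : MorphismProperty (Sp S) := fun F G f =>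
  ∀ ⦃Z : Over S⦄, IsAffine Z.left → ∀ (g : (yon S).obj Z ⟶ G),
    ∃ (W : Over S) (i : W ⟶ Z) (fst : (yon S).obj W ⟶ F),
      IsPullback fst ((yon S).map i) f g ∧ IsAffine W.left ∧ Q i.left

variable {Q : MorphismProperty Scheme.{u}}

theorem pbStable_affineWith : PbStable (AffineWith (S := S) Q) := by
  intro _ _ _ _ _ _ _ _ a b a' b' sq ha Z hZ g
  obtain ⟨W, i, fst, sq', hW, hi⟩ := ha hZ (g ≫ b)
  refine ⟨W, i, sq.lift fst ((yon S).map i ≫ g) (by rw [sq'.w, Category.assoc]), ?_, hW, hi⟩
  exact IsPullback.of_right (by simpa using sq') (by simp) sq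

theorem compStable_affineWith [Q.IsStableUnderComposition] : CompStable (AffineWith (S := S) Q) := by
  intro _ _ _ _ _ _ a b ha hb Z hZ g
  obtain ⟨W, i, fst, sq, hW, hi⟩ := hb hZ g
  obtain ⟨W', i', fst', sq', hW', hi'⟩ := ha hW fst
  refine ⟨W', i' ≫ i, fst', ?_, hW', ?_⟩
  · rw [Functor.map_comp]
    exact sq'.paste_vert sq
  · rw [Over.comp_left]
    exact Q.comp_mem _ _ hi' hi

theorem schemeTested_affineWith : SchemeTested (AffineWith (S := S) Q) := by
  intro V Z a h T hT g
  obtain ⟨W, i, fst, sq, hW, hi⟩ := h g hT (𝟙 _)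
  have sq' := sq.paste_horiz (IsPullback.of_hasPullback a g)
  rw [Category.id_comp] at sq'
  exact ⟨W, i, _, sq', hW, hi⟩

theorem isAffineMor_eq : (IsAffineMor (S := S)) = AffineWith ⊤ := by
  ext F G f
  exact ⟨fun h Z hZ g => (h hZ g).imp fun W ⟨i, fst, sq, hW⟩ => ⟨i, fst, sq, hW, trivial⟩,
    fun h Z hZ g => (h hZ g).imp fun W ⟨i, fst, sq, hW, _⟩ => ⟨i, fst, sq, hW⟩⟩

theorem isIntegralMor_eq : (IsIntegralMor (S := S)) = AffineWith @IsIntegralHom := rfl

theorem isFiniteMor_eq : (IsFiniteMor (S := S)) = AffineWith @IsFinite := rfl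

end Affine

section QuasiCompact

theorem isQuasiCompactSp_yon (U : Over S) [CompactSpace ↥U.left] : IsQuasiCompactSp ((yon S).obj U) :=
  ⟨U, 𝟙 _, repWith_id _ U, repWith_id _ U, inferInstance⟩

theorem pbStable_qcMor : PbStable (IsQuasiCompactMor (S := S)) := by
  intro _ _ _ _ _ _ _ _ a b a' b' sq ha Z Z' hZ hqc g fst snd sq'
  exact ha hZ hqc (g ≫ b) (fst ≫ b') snd (sq'.paste_horiz sq)

theorem compStable_qcMor : CompStable (IsQuasiCompactMor (S := S)) := by
  intro A B D hA hB hD a b ha hb Z Z' hZ hqc g fst snd sq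
  have sq₁ := IsPullback.of_hasPullback b g
  have hm : IsAlgSpace (pullback b g) := isAlgSpace_of_isPullback hD.diag hB hZ sq₁
  have hmq := hb hZ hqc g _ _ sq₁
  exact ha hm hmq (pullback.fst b g) fst (sq₁.lift (fst ≫ a) snd (by rw [Category.assoc]; exact sq.w))
    (IsPullback.of_bot (by simpa using sq) (by simp) sq₁)

/-- A chart of the target gives a chart-sized piece of the base change. -/
theorem isPullback_chart {V Z T T' U : Sp S} {a : V ⟶ Z} {g : T ⟶ Z} {fst : T' ⟶ V} {snd : T' ⟶ T}
    (sq : IsPullback fst snd a g) (q : U ⟶ T) :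
    IsPullback (sq.lift (pullback.fst a (q ≫ g)) (pullback.snd a (q ≫ g) ≫ q)
      (by rw [Category.assoc]; exact pullback.condition)) (pullback.snd a (q ≫ g)) snd q :=
  IsPullback.of_right (by simpa using IsPullback.of_hasPullback a (q ≫ g)) (by simp) sq

theorem schemeTested_qcMor : SchemeTested (IsQuasiCompactMor (S := S)) := by
  intro V Z a h T T' hT hqc g fst snd sq
  obtain ⟨U, q, hqe, hqs, hU⟩ := hqc
  have := hU
  have h0 : IsQuasiCompactSp (pullback a (q ≫ g)) :=
    h (q ≫ g) (IsAlgSpace.yon_obj U) (isQuasiCompactSp_yon U) (𝟙 _) (𝟙 _) (pullback.snd a (q ≫ g))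
      (IsPullback.of_horiz_isIso ⟨by simp⟩)
  obtain ⟨W, w, hwe, hws, hW⟩ := h0
  have sqm := isPullback_chart sq q
  exact ⟨W, _, RepWith.comp hwe (RepWith.baseChange sqm.flip hqe),
    RepWith.comp hws (RepWith.baseChange sqm.flip hqs), hW⟩

theorem pbStable_univClosed : PbStable (IsUnivClosedMor (S := S)) := by
  intro _ _ _ _ _ _ _ _ a b a' b' sq ha Z Z' hZ g fst snd sq'
  exact ha hZ (g ≫ b) (fst ≫ b') snd (sq'.paste_horiz sq)

theorem compStable_univClosed : CompStable (IsUnivClosedMor (S := S)) := by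
  intro A B D hA hB hD a b ha hb Z Z' hZ g fst snd sq
  have sq₁ := IsPullback.of_hasPullback b g
  have hm : IsAlgSpace (pullback b g) := isAlgSpace_of_isPullback hD.diag hB hZ sq₁
  let l := sq₁.lift (fst ≫ a) snd (by rw [Category.assoc]; exact sq.w)
  have h₁ : IsClosedMap (Points.map l) :=
    ha hm (pullback.fst b g) fst l (IsPullback.of_bot (by simpa [l] using sq) (by simp [l]) sq₁)
  have h₂ : IsClosedMap (Points.map (pullback.snd b g)) := hb hZ g _ _ sq₁
  show IsClosedMap (Points.map snd)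
  have e : Points.map snd = Points.map (pullback.snd b g) ∘ Points.map l := by
    funext x
    rw [Function.comp_apply, ← Points.map_comp]
    simp [l]
  rw [e]
  exact h₂.comp h₁

theorem schemeTested_univClosed : SchemeTested (IsUnivClosedMor (S := S)) := by
  intro V Z a h T T' hT g fst snd sq C hC
  obtain ⟨U, q, hqe, hqs⟩ := hT.atlas
  have h0 : IsClosedMap (Points.map (pullback.snd a (q ≫ g))) :=
    h (q ≫ g) (IsAlgSpace.yon_obj U) (𝟙 _) (𝟙 _) (pullback.snd a (q ≫ g))
      (IsPullback.of_horiz_isIso ⟨by simp⟩)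
  have sqm := isPullback_chart sq q
  refine (isOpenQuotientMap_ofPt q hqe hqs).isQuotientMap.isClosed_preimage.1 ?_
  have e : Points.ofPt q ⁻¹' (Points.map snd '' C) = Points.schemeHomeo U ⁻¹'
      (Points.map (pullback.snd a (q ≫ g)) '' (Points.map (sq.lift (pullback.fst a (q ≫ g))
        (pullback.snd a (q ≫ g) ≫ q) (by rw [Category.assoc]; exact pullback.condition)) ⁻¹' C)) := by
    ext t
    constructor
    · rintro ⟨c, hc, e⟩
      rw [Points.ofPt_eq_map_ofScheme] at e
      obtain ⟨r, hr₁, hr₂⟩ := exists_point_of_isPullback sqm e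
      exact ⟨r, by rw [Set.mem_preimage, hr₁]; exact hc, hr₂⟩
    · rintro ⟨r, hr, e⟩
      refine ⟨_, hr, ?_⟩
      rw [← Points.map_comp, sqm.w, Points.map_comp, e, Points.ofPt_eq_map_ofScheme]
      rfl
  rw [e]
  exact (h0 _ (hC.preimage (Points.continuous_map _))).preimage (Points.schemeHomeo U).continuous

end QuasiCompact

theorem isFiniteTypeMor_eq : (IsFiniteTypeMor (S := S)) = LocP @LocallyOfFiniteType ⊓ IsQuasiCompactMor := rfl

theorem isProperMor_eq : (IsProperMor (S := S)) = DiagWith @IsClosedImmersion ⊓ (IsFiniteTypeMor ⊓ IsUnivClosedMor) := rfl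

theorem pbStable_proper : PbStable (IsProperMor (S := S)) := by
  rw [isProperMor_eq, isFiniteTypeMor_eq]
  exact pbStable_diagWith.inf (((pbStable_locP etLocal_lft).inf pbStable_qcMor).inf pbStable_univClosed)

theorem compStable_proper : CompStable (IsProperMor (S := S)) := by
  rw [isProperMor_eq, isFiniteTypeMor_eq]
  exact compStable_diagWith.inf (((compStable_locP etLocal_lft).inf compStable_qcMor).inf compStable_univClosed)

theorem schemeTested_proper : SchemeTested (IsProperMor (S := S)) := by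
  rw [isProperMor_eq, isFiniteTypeMor_eq]
  exact schemeTested_diagWith.inf (((schemeTested_locP etLocal_lft).inf schemeTested_qcMor).inf schemeTested_univClosed)

/-- Quasi-compact and quasi-separated. -/
theorem qcqs_eq : (IsQuasiCompactMor ⊓ IsQuasiSeparatedMor : MorphismProperty (Sp S)) =
    IsQuasiCompactMor ⊓ DiagWith @QuasiCompact := rfl

end Groth.Agent.Stk19
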