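import Groth.Agent.Stk19.AlgSt.Over
import Groth.Agent.Stk19.Yoneda
import Groth.Agent.Stk19.DiagCalc
import Groth.Prelude.Def_AlgSt3
import Groth.Prelude.Def_AlgSt4

/-! Monomorphisms of algebraic stacks are fully faithful. -/

set_option autoImplicit false
set_option backward.isDefEq.respectTransparency false
set_option backward.isDefEq.respectTransparency.types false

universe v₄ u₄ v₃ u₃ v₂ u₂ v u

open CategoryTheory CategoryTheory.Limits AlgebraicGeometry Opposite FibCat Groth.Agent.Desc19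

namespace Groth.Agent.Stk19

variable {S : Scheme.{u}}

section

variable {𝒳 : BasedCategory.{v₂, u₂} (Over S)} {𝒴 : BasedCategory.{v₃, u₃} (Over S)}

/-- Two points of a scheme-indexed fibre of a monomorphism are isomorphic. -/
theorem nonempty_iso_of_mono {U : Over S} {j : 𝒳 ⥤ᵇ 𝒴} {y : overCat U ⥤ᵇ 𝒴}
    (hj : AlgSt.RepByAlgSpWith (MorphismProperty.monomorphisms (AlgSp.Sp S)) j) (s₁ s₂ : overCat U ⥤ᵇ fp y j)
    (h₁ : BasedFunctor.comp s₁ (fpFst y j) = BasedFunctor.id _)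
    (h₂ : BasedFunctor.comp s₂ (fpFst y j) = BasedFunctor.id _) : Nonempty (s₁ ≅ s₂) := by
  obtain ⟨F, e, ⟨Ψ, ⟨u⟩, ⟨c⟩⟩, ha⟩ := hj U y
  have hm : Mono (AlgSt.spMapOfOver (BasedFunctor.comp e (fpFst y j))) := ha
  have key : ∀ (s : overCat U ⥤ᵇ fp y j), BasedFunctor.comp s (fpFst y j) = BasedFunctor.id _ →
      spHom (BasedFunctor.comp (AlgSt.toOverCat U) (BasedFunctor.comp s Ψ)) ≫
        AlgSt.spMapOfOver (BasedFunctor.comp e (fpFst y j)) = 𝟙 _ := fun s hs => by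
    rw [← spMapOfOver_comp]
    have i : BasedFunctor.comp (BasedFunctor.comp (AlgSt.toOverCat U) (BasedFunctor.comp s Ψ))
        (BasedFunctor.comp e (fpFst y j)) ≅ AlgSt.toOverCat U :=
      (Stk.restr (BasedFunctor.comp (AlgSt.toOverCat U) s) _).mapIso ((postB _ (fpFst y j)).mapIso c) ≪≫
        eqToIso (by
          show BasedFunctor.comp (AlgSt.toOverCat U) (BasedFunctor.comp s (fpFst y j)) = AlgSt.toOverCat U
          rw [hs]; rfl)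
    rw [spMapOfOver_congr i.hom, spMapOfOver_toOverCat]
  have hu := (cancel_mono _).1 ((key s₁ h₁).trans (key s₂ h₂).symm)
  obtain ⟨i₁⟩ := spHom_iso (BasedFunctor.comp (AlgSt.toOverCat U) (BasedFunctor.comp s₁ Ψ))
  obtain ⟨i₂⟩ := spHom_iso (BasedFunctor.comp (AlgSt.toOverCat U) (BasedFunctor.comp s₂ Ψ))
  let k : BasedFunctor.comp (AlgSt.toOverCat U) (BasedFunctor.comp s₁ Ψ) ≅
      BasedFunctor.comp (AlgSt.toOverCat U) (BasedFunctor.comp s₂ Ψ) := i₁ ≪≫ eqToIso (by rw [hu]) ≪≫ i₂.symm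
  let k' : BasedFunctor.comp s₁ Ψ ≅ BasedFunctor.comp s₂ Ψ := (Stk.restr (AlgSt.ofOverCat U) _).mapIso k
  exact ⟨(Stk.restr s₁ _).mapIso c.symm ≪≫ (postB _ e).mapIso k' ≪≫ (Stk.restr s₂ _).mapIso c⟩

theorem fullyFaithful_of_mono (h𝒳 : IsFibGrpd 𝒳.p) (h𝒴 : IsFibGrpd 𝒴.p) {j : 𝒳 ⥤ᵇ 𝒴}
    (hj : AlgSt.RepByAlgSpWith (MorphismProperty.monomorphisms (AlgSp.Sp S)) j) :
    j.toFunctor.Full ∧ j.toFunctor.Faithful := by
  have hfaith := faithful_of_repByAlgSp1 h𝒳 h𝒴 (repByAlgSp1_of_with hj)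
  refine fullyFaithful_of_fiberFunctor j h𝒳 h𝒴 (fun U => ⟨fun {a b} k => ?_⟩) fun U => fiberFunctor_faithful j U
  obtain ⟨x₁, i₁, h₁⟩ := exists_classifying h𝒳 a.1 a.2
  obtain ⟨x₂, i₂, h₂⟩ := exists_classifying h𝒳 b.1 b.2
  have hk := k.2
  have := fibGrpd_isIso_vert h𝒴 (R := U) k.1
  let t : j.obj (x₁.obj (Over.mk (𝟙 U))) ≅ j.obj (x₂.obj (Over.mk (𝟙 U))) :=
    j.toFunctor.mapIso i₁ ≪≫ asIso k.1 ≪≫ j.toFunctor.mapIso i₂.symm
  have ht : 𝒴.p.IsHomLift (𝟙 U) t.hom :=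
    vert_comp 𝒴.p _ _ (BasedFunctor.preserves_isHomLift j (𝟙 U) i₁.hom)
      (vert_comp 𝒴.p _ _ hk (have := vert_inv 𝒳.p i₂ h₂; BasedFunctor.preserves_isHomLift j (𝟙 U) i₂.inv))
  obtain ⟨i, hi⟩ := yoneda_iso h𝒴 (BasedFunctor.comp x₁ j) (BasedFunctor.comp x₂ j) t ht
  let s₁ : overCat U ⥤ᵇ fp (BasedFunctor.comp x₂ j) j :=
    fpLift (BasedFunctor.id _) x₁ (show BasedFunctor.comp (BasedFunctor.id _) (BasedFunctor.comp x₂ j) ≅ _ from i.symm)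
  let s₂ : overCat U ⥤ᵇ fp (BasedFunctor.comp x₂ j) j := fpLift (BasedFunctor.id _) x₂ (Iso.refl _)
  obtain ⟨σ⟩ := nonempty_iso_of_mono hj s₁ s₂ rfl rfl
  let m := σ.hom.toNatTrans.app (Over.mk (𝟙 U))
  let o : (overCat U).obj := Over.mk (𝟙 U)
  have hv : (fp (BasedFunctor.comp x₂ j) j).p.IsHomLift (𝟙 U) m :=
    vert_change (fp (BasedFunctor.comp x₂ j) j).p _ (based_vert σ o) rfl
  have hv₁ : (overCat U).p.IsHomLift (𝟙 U) m.hom.fst :=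
    BasedFunctor.preserves_isHomLift (fpFst (BasedFunctor.comp x₂ j) j) (𝟙 U) m
  have hv₂ : 𝒳.p.IsHomLift (𝟙 U) m.hom.snd :=
    BasedFunctor.preserves_isHomLift (fpSnd (BasedFunctor.comp x₂ j) j) (𝟙 U) m
  have hm₁ : m.hom.fst = 𝟙 o := overCat_map_eq _ _
    ((map_eq_of_vert (overCat U).p (R := U) m.hom.fst).trans ((overCat U).p.map_id o).symm)
  have hw : j.map (x₂.map m.hom.fst) ≫ 𝟙 _ = i.inv.toNatTrans.app o ≫ j.map m.hom.snd := m.hom.w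
  have hinv : i.inv.toNatTrans.app o = t.inv := by
    rw [← cancel_epi t.hom, t.hom_inv_id, ← hi]
    exact (appIso i o).hom_inv_id
  rw [hm₁] at hw
  have he : j.map (x₂.map (𝟙 o)) = 𝟙 _ :=
    (congrArg j.map (x₂.toFunctor.map_id o)).trans (j.toFunctor.map_id _)
  have hw' : 𝟙 _ = t.inv ≫ j.map m.hom.snd := by
    rw [← hinv]
    exact ((congrArg (· ≫ 𝟙 _) he).trans (Category.id_comp _)).symm.trans hw
  refine ⟨⟨i₁.inv ≫ m.hom.snd ≫ i₂.hom, vert_comp 𝒳.p _ _ (vert_inv 𝒳.p i₁ h₁) (vert_comp 𝒳.p _ _ hv₂ h₂)⟩,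
    Subtype.ext ?_⟩
  show j.map (i₁.inv ≫ m.hom.snd ≫ i₂.hom) = k.1
  have hs : j.map m.hom.snd = t.hom := by
    rw [← cancel_epi t.inv, t.inv_hom_id]; exact hw'.symm
  rw [j.toFunctor.map_comp, j.toFunctor.map_comp, hs]
  simp [t]
  exact Category.comp_id _

end

section TwoCart

variable {C : Type u} [Category.{v} C] {𝒳 : BasedCategory.{v₂, u₂} C} {𝒳' : BasedCategory.{v₃, u₃} C}
  {𝒴 : BasedCategory.{v₄, u₄} C}

theorem isTwoCartOver_diag_of_ff (i : 𝒳 ⥤ᵇ 𝒳') [i.toFunctor.Full] [i.toFunctor.Faithful] (g : 𝒳' ⥤ᵇ 𝒴) :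
    FibCat.IsTwoCartOver
      (F := (fpLift (BasedFunctor.comp (fpFst (BasedFunctor.comp i g) (BasedFunctor.comp i g)) i)
        (BasedFunctor.comp (fpSnd (BasedFunctor.comp i g) (BasedFunctor.comp i g)) i)
        (fpIso (BasedFunctor.comp i g) (BasedFunctor.comp i g))))
      (G := FibCat.diag g) (FibCat.diag (BasedFunctor.comp i g)) i (Iso.refl _) := by
  refine EqvData.isEquivOver ⟨⟨fun {s t} k => ?_⟩, ⟨fun {s t} k k' h => ?_⟩, fun z => ?_⟩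
  · have h1 : i.map k.hom.fst.hom.fst ≫ 𝟙 _ = 𝟙 _ ≫ k.hom.snd := congrArg (fun m => m.hom.fst) k.hom.w
    have h2 : i.map k.hom.fst.hom.snd ≫ 𝟙 _ = 𝟙 _ ≫ k.hom.snd := congrArg (fun m => m.hom.snd) k.hom.w
    rw [Category.comp_id, Category.id_comp] at h1 h2
    exact ⟨k.hom.fst.hom.fst, fp_hom_ext (fp_hom_ext rfl (i.toFunctor.map_injective (h1.trans h2.symm))) h1⟩
  · exact congrArg (fun m => m.hom.fst.hom.fst) h
  · let i₁ : i.obj z.obj.fst.obj.fst ≅ z.obj.snd := (fpFst g g).toFunctor.mapIso z.obj.iso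
    let i₂ : i.obj z.obj.fst.obj.snd ≅ z.obj.snd := (fpSnd g g).toFunctor.mapIso z.obj.iso
    have hw : g.map i₁.hom ≫ 𝟙 _ = z.obj.fst.obj.iso.hom ≫ g.map i₂.hom := z.obj.iso.hom.hom.w
    rw [Category.comp_id] at hw
    let j : z.obj.fst.obj.fst ≅ z.obj.fst.obj.snd := i.toFunctor.preimageIso (i₁ ≪≫ i₂.symm)
    have hj : i.map j.hom = i₁.hom ≫ i₂.inv := i.toFunctor.map_preimage _
    refine ⟨z.obj.fst.obj.fst, fpIsoMk (fpIsoMk (Iso.refl _) j ?_) i₁ ?_,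
      fpIsoMk_vert _ _ _ (fpIsoMk_vert _ _ _ (IsHomLift.id rfl))⟩
    · show g.map (i.map (𝟙 _)) ≫ z.obj.fst.obj.iso.hom = 𝟙 _ ≫ g.map (i.map j.hom)
      have : g.map i₂.hom ≫ g.map i₂.inv = 𝟙 _ := (g.toFunctor.mapIso i₂).hom_inv_id
      rw [hj, g.toFunctor.map_comp, hw, i.toFunctor.map_id, g.toFunctor.map_id]
      simp [this]
      exact (Category.comp_id _).symm
    · apply fp_hom_ext
      · show i.map (𝟙 _) ≫ i₁.hom = 𝟙 _ ≫ i₁.hom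
        rw [i.toFunctor.map_id]
      · show i.map j.hom ≫ i₂.hom = 𝟙 _ ≫ i₁.hom
        rw [hj]
        simp

end TwoCart

section Points

variable {𝒳 : BasedCategory.{v₂, u₂} (Over S)} {𝒴 : BasedCategory.{v₃, u₃} (Over S)}

/-- The relation on field-valued points is transitive. -/
theorem fptRel_trans (h : IsFibGrpd 𝒴.p) {p q r : AlgSt.FPt 𝒴} (h₁ : AlgSt.FPt.Rel p q) (h₂ : AlgSt.FPt.Rel q r) :
    AlgSt.FPt.Rel p r := by
  obtain ⟨x, a₁, b₁, -⟩ := h₁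
  obtain ⟨y, a₂, b₂, -⟩ := h₂
  let φ₁ := eqToHom x.lies.symm ≫ 𝒴.p.map b₁ ≫ eqToHom q.lies
  let φ₂ := eqToHom y.lies.symm ≫ 𝒴.p.map a₂ ≫ eqToHom q.lies
  obtain ⟨z⟩ : Nonempty ↥(pullback φ₁.left φ₂.left) := by
    obtain ⟨z, -⟩ := Scheme.Pullback.exists_preimage_pullback (f := φ₁.left) (g := φ₂.left)
      (default : ↥(Spec (CommRingCat.of x.K))) (default : ↥(Spec (CommRingCat.of y.K))) (Subsingleton.elim (α := ↥(Spec (CommRingCat.of q.K))) _ _)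
    exact ⟨z⟩
  let Z := (pullback φ₁.left φ₂.left)
  let o := Over.mk (Z.fromSpecResidueField z ≫ pullback.fst φ₁.left φ₂.left ≫ x.str)
  let c₁ : o ⟶ Over.mk x.str := Over.homMk (Z.fromSpecResidueField z ≫ pullback.fst φ₁.left φ₂.left)
    (Category.assoc _ _ _)
  let c₂ : o ⟶ Over.mk y.str := Over.homMk (Z.fromSpecResidueField z ≫ pullback.snd φ₁.left φ₂.left) (by
    show (Z.fromSpecResidueField z ≫ pullback.snd φ₁.left φ₂.left) ≫ y.str = _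
    have e₁ := Over.w φ₁
    have e₂ := Over.w φ₂
    simp only [Over.mk_hom, Over.mk_left] at e₁ e₂
    simp only [o, Over.mk_hom, Category.assoc, ← e₁, ← e₂]
    simp only [← Category.assoc (pullback.fst φ₁.left φ₂.left), ← Category.assoc (pullback.snd φ₁.left φ₂.left),
      pullback.condition])
  have hc : c₁ ≫ φ₁ = c₂ ≫ φ₂ := Over.OverMorphism.ext (by
    show (Z.fromSpecResidueField z ≫ pullback.fst φ₁.left φ₂.left) ≫ φ₁.left = _ ≫ φ₂.left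
    simp [c₂, pullback.condition])
  obtain ⟨w, l₁, e₁, hl₁⟩ := fibGrpd_lift h x.obj (c₁ ≫ eqToHom x.lies.symm)
  obtain ⟨w', l₂, e₂, hl₂⟩ := fibGrpd_lift h y.obj (c₂ ≫ eqToHom y.lies.symm)
  obtain ⟨χ, -⟩ := (fibGrpd_fac h (l₂ ≫ a₂) (l₁ ≫ b₁) (eqToHom (e₁.trans e₂.symm)) (by
    simp only [Functor.map_comp, hl₁, hl₂, Category.assoc]
    rw [← cancel_mono (eqToHom q.lies)]
    simp only [Category.assoc, eqToHom_trans_assoc]
    exact congrArg (eqToHom e₁ ≫ ·) hc.symm)).exists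
  exact ⟨{ K := ↥(Z.residueField z), str := _, obj := w, lies := e₁ }, l₁ ≫ a₁, χ ≫ l₂ ≫ b₂, trivial⟩

theorem fptRel_refl (p : AlgSt.FPt 𝒴) : AlgSt.FPt.Rel p p := ⟨p, 𝟙 _, 𝟙 _, trivial⟩

theorem fptRel_symm {p q : AlgSt.FPt 𝒴} (h : AlgSt.FPt.Rel p q) : AlgSt.FPt.Rel q p := by
  obtain ⟨x, a, b, -⟩ := h
  exact ⟨x, b, a, trivial⟩

theorem points_mk_eq_iff (h : IsFibGrpd 𝒴.p) {p q : AlgSt.FPt 𝒴} :
    AlgSt.Points.mk p = AlgSt.Points.mk q ↔ AlgSt.FPt.Rel p q :=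
  ⟨fun e => ((⟨fptRel_refl, fptRel_symm, fptRel_trans h⟩ : Equivalence (@AlgSt.FPt.Rel S 𝒴)).eqvGen_iff).1
    (Quot.eqvGen_exact e), AlgSt.Points.sound⟩

theorem points_injective_of_mono (h𝒳 : IsFibGrpd 𝒳.p) (h𝒴 : IsFibGrpd 𝒴.p) {j : 𝒳 ⥤ᵇ 𝒴}
    (hj : AlgSt.RepByAlgSpWith (MorphismProperty.monomorphisms (AlgSp.Sp S)) j) :
    Function.Injective (AlgSt.Points.map j) := by
  obtain ⟨_, _⟩ := fullyFaithful_of_mono h𝒳 h𝒴 hj
  rintro P Q e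
  obtain ⟨p, rfl⟩ := AlgSt.Points.mk_surjective P
  obtain ⟨q, rfl⟩ := AlgSt.Points.mk_surjective Q
  rw [AlgSt.Points.map_mk, AlgSt.Points.map_mk, points_mk_eq_iff h𝒴] at e
  obtain ⟨r, a, b, -⟩ := e
  refine AlgSt.Points.sound ?_
  let c : Over.mk r.str ⟶ 𝒳.p.obj p.obj :=
    eqToHom r.lies.symm ≫ 𝒴.p.map a ≫ eqToHom (j.w_obj p.obj)
  obtain ⟨w, l, e₁, hl⟩ := fibGrpd_lift h𝒳 p.obj c
  obtain ⟨χ, -⟩ := (fibGrpd_fac h𝒴 a (j.map l) (eqToHom ((j.w_obj w).trans (e₁.trans r.lies.symm))) (by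
    rw [based_map j, hl]
    simp [c])).exists
  exact ⟨{ K := r.K, str := r.str, obj := w, lies := e₁ }, l, j.toFunctor.preimage (χ ≫ b), trivial⟩

end Points

end Groth.Agent.Stk19
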