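import Groth.Agent.Stk19.AlgSt.AlgMisc
import Groth.Agent.AlgSpLib.PointsTop

/-! Points of algebraic stacks: charts, spaces, surjectivity. -/

set_option autoImplicit false
set_option backward.isDefEq.respectTransparency false
set_option backward.isDefEq.respectTransparency.types false

universe v₄ u₄ v₃ u₃ v₂ u₂ u

open CategoryTheory CategoryTheory.Limits AlgebraicGeometry Opposite FibCat Groth.Agent.Desc19

namespace Groth.Agent.Stk19

variable {S : Scheme.{u}}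

section Functorial

variable {𝒳 : BasedCategory.{v₂, u₂} (Over S)} {𝒴 : BasedCategory.{v₃, u₃} (Over S)}
  {𝒵 : BasedCategory.{v₄, u₄} (Over S)}

theorem points_map_comp (f : 𝒳 ⥤ᵇ 𝒴) (g : 𝒴 ⥤ᵇ 𝒵) (x : AlgSt.Points 𝒳) :
    AlgSt.Points.map (BasedFunctor.comp f g) x = AlgSt.Points.map g (AlgSt.Points.map f x) := by
  obtain ⟨p, rfl⟩ := AlgSt.Points.mk_surjective x
  rfl

theorem points_map_id (x : AlgSt.Points 𝒳) : AlgSt.Points.map (BasedFunctor.id 𝒳) x = x := by
  obtain ⟨p, rfl⟩ := AlgSt.Points.mk_surjective x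
  rfl

theorem points_map_congr {f g : 𝒳 ⥤ᵇ 𝒴} (α : f ≅ g) (x : AlgSt.Points 𝒳) :
    AlgSt.Points.map f x = AlgSt.Points.map g x := by
  obtain ⟨p, rfl⟩ := AlgSt.Points.mk_surjective x
  exact AlgSt.Points.sound ⟨p.map f, 𝟙 _, α.hom.toNatTrans.app p.obj, trivial⟩

theorem points_bijective_of_equiv {e : 𝒳 ⥤ᵇ 𝒴} (he : IsEquivOver e) :
    Function.Bijective (AlgSt.Points.map e) := by
  obtain ⟨G, ⟨a⟩, ⟨b⟩⟩ := he
  exact Function.bijective_iff_has_inverse.2 ⟨AlgSt.Points.map G,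
    fun x => (points_map_comp e G x).symm.trans ((points_map_congr a x).trans (points_map_id x)),
    fun x => (points_map_comp G e x).symm.trans ((points_map_congr b x).trans (points_map_id x))⟩

theorem ofChart_eq_map {U : Over S} (x : overCat U ⥤ᵇ 𝒳) (t : ↥U.left) :
    AlgSt.Points.ofChart x t = AlgSt.Points.map x (AlgSt.Points.ofChart (BasedFunctor.id _) t) := rfl

theorem map_ofChart {U : Over S} (x : overCat U ⥤ᵇ 𝒳) (f : 𝒳 ⥤ᵇ 𝒴) (t : ↥U.left) :
    AlgSt.Points.map f (AlgSt.Points.ofChart x t) = AlgSt.Points.ofChart (BasedFunctor.comp x f) t := rfl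

theorem ofChart_congr {U : Over S} {x y : overCat U ⥤ᵇ 𝒳} (α : x ≅ y) (t : ↥U.left) :
    AlgSt.Points.ofChart x t = AlgSt.Points.ofChart y t := by
  exact points_map_congr α (AlgSt.Points.ofChart (BasedFunctor.id _) t)

end Functorial

section Spaces

variable {F G : AlgSp.Sp S}

/-- A field-valued point of a sheaf as one of its category. -/
noncomputable def stFieldPt (p : AlgSp.FieldPt F) : AlgSt.FPt (AlgSt.ofSp F) :=
  { K := p.K, str := p.str, obj := ⟨Over.mk p.str, p.val⟩, lies := rfl }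

theorem rel_stFieldPt_iff (p q : AlgSp.FieldPt F) :
    AlgSt.FPt.Rel (stFieldPt p) (stFieldPt q) ↔ AlgSp.FieldPt.Rel p q := by
  constructor
  · rintro ⟨⟨K, str, ⟨B, v⟩, hl⟩, a, b, -⟩
    obtain rfl : B = Over.mk str := hl
    exact ⟨K, inferInstance, str, a.hom, b.hom, a.map_sec.trans b.map_sec.symm⟩
  · rintro ⟨Ω, hΩ, w, a, b, h⟩
    exact ⟨@AlgSt.FPt.mk S (AlgSt.ofSp F) Ω hΩ w ⟨Over.mk w, F.obj.map a.op p.val⟩ rfl,
      ⟨a, rfl⟩, ⟨b, h.symm⟩, trivial⟩

/-- The points of a sheaf, as points of its category. -/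
noncomputable def stPt : AlgSp.Points F → AlgSt.Points (AlgSt.ofSp F) :=
  Quotient.lift (fun p => AlgSt.Points.mk (stFieldPt p))
    (fun p q h => AlgSt.Points.sound ((rel_stFieldPt_iff p q).2 h))

theorem stPt_bijective : Function.Bijective (stPt : AlgSp.Points F → AlgSt.Points (AlgSt.ofSp F)) := by
  refine ⟨fun x y h => ?_, fun x => ?_⟩
  · obtain ⟨p, rfl⟩ := AlgSp.Points.mk_surjective x
    obtain ⟨q, rfl⟩ := AlgSp.Points.mk_surjective y
    exact AlgSp.Points.sound ((rel_stFieldPt_iff p q).1 ((points_mk_eq_iff (setoid_ofSp F).1).1 h))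
  · obtain ⟨⟨K, str, ⟨B, v⟩, hl⟩, rfl⟩ := AlgSt.Points.mk_surjective x
    obtain rfl : B = Over.mk str := hl
    exact ⟨AlgSp.Points.mk ⟨K, str, v⟩, rfl⟩

theorem map_stPt (a : F ⟶ G) (z : AlgSp.Points F) :
    AlgSt.Points.map (AlgSt.ofSpMap a) (stPt z) = stPt (AlgSp.Points.map a z) := by
  obtain ⟨p, rfl⟩ := AlgSp.Points.mk_surjective z
  rfl

/-- The chart of a space defined by a morphism from a scheme. -/
theorem ofChart_sp {T : Over S} (g : (AlgSp.yon S).obj T ⟶ F) (t : ↥T.left) :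
    AlgSt.Points.ofChart (BasedFunctor.comp (AlgSt.ofOverCat T) (AlgSt.ofSpMap g)) t =
      stPt (AlgSp.Points.ofPt g t) := rfl

theorem ofChart_id (U : Over S) (t : ↥U.left) :
    AlgSt.Points.ofChart (BasedFunctor.id (overCat U)) t =
      AlgSt.Points.map (AlgSt.toOverCat U) (stPt (AlgSp.Points.ofScheme U t)) := rfl

/-- The points of a slice are those of the scheme. -/
theorem ofChart_id_bijective (U : Over S) :
    Function.Bijective (AlgSt.Points.ofChart (BasedFunctor.id (overCat U))) := by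
  rw [show AlgSt.Points.ofChart (BasedFunctor.id (overCat U)) =
    AlgSt.Points.map (AlgSt.toOverCat U) ∘ stPt ∘ AlgSp.Points.schemeEquiv U from funext (ofChart_id U)]
  exact (points_bijective_of_equiv (isEquivOver_toOverCat U)).comp
    (stPt_bijective.comp (AlgSp.Points.schemeEquiv U).bijective)

theorem map_toOver_stPt {U : Over S} (e : AlgSt.ofSp F ⥤ᵇ overCat U) (z : AlgSp.Points F) :
    AlgSt.Points.map e (stPt z) =
      AlgSt.Points.map (AlgSt.toOverCat U) (stPt (AlgSp.Points.map (AlgSt.spMapOfOver e) z)) := by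
  obtain ⟨i⟩ := spMapOfOver_iso e
  rw [points_map_congr i, points_map_comp, map_stPt]

end Spaces

section Charts

variable {𝒳 : BasedCategory.{v₂, u₂} (Over S)}

theorem ofChart_overMap {U V : Over S} (h : U ⟶ V) (x : overCat V ⥤ᵇ 𝒳) (t : ↥U.left) :
    AlgSt.Points.ofChart (BasedFunctor.comp (AlgSt.overMap h) x) t = AlgSt.Points.ofChart x (h.left t) := by
  rw [ofChart_eq_map x, ofChart_id]
  show AlgSt.Points.map x (AlgSt.Points.map (AlgSt.toOverCat V)
    (AlgSt.Points.map (AlgSt.ofSpMap ((AlgSp.yon S).map h)) (stPt (AlgSp.Points.ofScheme U t)))) = _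
  rw [map_stPt, AlgSpLib.map_yon_map_ofScheme]

theorem exists_ofChart_eq (x : AlgSt.Points 𝒳) (h : IsFibGrpd 𝒳.p) :
    ∃ (K : Type u) (_ : Field K) (str : Spec (CommRingCat.of K) ⟶ S) (y : overCat (Over.mk str) ⥤ᵇ 𝒳),
      ∀ t, AlgSt.Points.ofChart y t = x := by
  obtain ⟨⟨K, str, o, hl⟩, rfl⟩ := AlgSt.Points.mk_surjective x
  obtain ⟨y, i, -⟩ := exists_classifying h o hl
  refine ⟨K, inferInstance, str, y, fun t => ?_⟩
  let P : AlgSt.Points (overCat (Over.mk str)) :=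
    AlgSt.Points.mk { K := K, str := str, obj := Over.mk (𝟙 _), lies := rfl }
  obtain ⟨t', ht⟩ := (ofChart_id_bijective (Over.mk str)).2 P
  have : Subsingleton ↥(Over.mk str).left := inferInstanceAs (Subsingleton ↥(Spec (CommRingCat.of K)))
  rw [Subsingleton.elim t t', ofChart_eq_map, ht]
  exact AlgSt.Points.sound ⟨{ K := K, str := str, obj := y.obj (Over.mk (𝟙 _)), lies := y.w_obj _ }, 𝟙 _, i.hom, trivial⟩

end Charts

section Surjective

variable {𝒳 𝒴 : AlgSt.Cat S}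

theorem isSurjective_of_with (h𝒴 : IsFibGrpd 𝒴.p) {f : 𝒳 ⥤ᵇ 𝒴}
    (hf : AlgSt.RepByAlgSpWith AlgSp.IsSurjectiveMor f) : AlgSt.IsSurjective f := fun x => by
  obtain ⟨K, _, str, y, hy⟩ := exists_ofChart_eq x h𝒴
  obtain ⟨F, e, -, ha⟩ := hf (Over.mk str) y
  let t : ↥(Over.mk str).left := IsLocalRing.closedPoint K
  obtain ⟨z, hz⟩ := ha (AlgSp.Points.ofScheme (Over.mk str) t)
  refine ⟨AlgSt.Points.map (fpSnd y f) (AlgSt.Points.map e (stPt z)), ?_⟩
  rw [← points_map_comp, ← points_map_congr (fpIso y f), points_map_comp, ← points_map_comp e,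
    map_toOver_stPt, hz, ← ofChart_id, ← ofChart_eq_map, hy]

theorem with_surjective_of_isSurjective (h𝒳 : IsFibGrpd 𝒳.p) (h𝒴 : IsFibGrpd 𝒴.p) {f : 𝒳 ⥤ᵇ 𝒴}
    (hf : AlgSt.RepByAlgSp1 f) (hs : AlgSt.IsSurjective f) :
    AlgSt.RepByAlgSpWith AlgSp.IsSurjectiveMor f := fun U y => by
  obtain ⟨F, e, he⟩ := hf U y
  refine ⟨F, e, he, fun p => ?_⟩
  obtain ⟨w, hw⟩ := isSurjective_fpFst h𝒳 h𝒴 (isFibGrpd_overCat U) f y hs
    (AlgSt.Points.map (AlgSt.toOverCat U) (stPt p))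
  obtain ⟨q, rfl⟩ := (points_bijective_of_equiv he).2 w
  obtain ⟨z, rfl⟩ := stPt_bijective.2 q
  rw [← points_map_comp, map_toOver_stPt] at hw
  exact ⟨z, stPt_bijective.1 ((points_bijective_of_equiv (isEquivOver_toOverCat U)).1 hw)⟩

theorem ofChart_surjective {U : Over S} (h𝒳 : IsFibGrpd 𝒳.p) {x : overCat U ⥤ᵇ 𝒳}
    (hx : AlgSt.RepByAlgSpWith AlgSp.IsSurjectiveMor x) : Function.Surjective (AlgSt.Points.ofChart x) :=
  fun p => by
    obtain ⟨q, rfl⟩ := isSurjective_of_with h𝒳 hx p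
    obtain ⟨t, rfl⟩ := (ofChart_id_bijective U).2 q
    exact ⟨t, ofChart_eq_map x t⟩

theorem with_surjective_of_ofChart {U : Over S} (h𝒳 : IsFibGrpd 𝒳.p) {x : overCat U ⥤ᵇ 𝒳}
    (hx : AlgSt.RepByAlgSp1 x) (hs : Function.Surjective (AlgSt.Points.ofChart x)) :
    AlgSt.RepByAlgSpWith AlgSp.IsSurjectiveMor x :=
  with_surjective_of_isSurjective (isFibGrpd_overCat U) h𝒳 hx fun p => by
    obtain ⟨t, rfl⟩ := hs p
    exact ⟨_, (ofChart_eq_map x t).symm⟩

end Surjective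

end Groth.Agent.Stk19
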