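import Groth.Agent.Stk19.AlgSt.SepDiag
import Groth.Agent.AlgSpLib.MorTop
import Groth.Agent.AlgSpLib.PointsCompact
import Mathlib.AlgebraicGeometry.Morphisms.Proper
import Mathlib.AlgebraicGeometry.ZariskisMainTheorem

/-! Separation axioms for functors representable by algebraic spaces. -/

set_option autoImplicit false
set_option backward.isDefEq.respectTransparency false
set_option backward.isDefEq.respectTransparency.types false

universe u

open CategoryTheory CategoryTheory.Limits AlgebraicGeometry Opposite FibCat Groth.Agent.Desc19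

namespace Groth.Agent.Stk19

variable {S : Scheme.{u}} {P Q : MorphismProperty (AlgSp.Sp S)} {𝒳 𝒴 : AlgSt.Cat S}

/-- The property of a representation over an algebraic space, when it can be tested on schemes. -/
theorem rep_prop_tested (hR : RespSrc P) (hS : SchemeTested P) {f : 𝒳 ⥤ᵇ 𝒴} (hf : AlgSt.RepByAlgSpWith P f)
    {V Z : AlgSp.Space S} (z : AlgSt.ofSp Z.obj ⥤ᵇ 𝒴)
    {e : AlgSt.ofSp V.obj ⥤ᵇ fp z f} (he : IsEquivOver e) {a : V.obj ⟶ Z.obj}
    (i : BasedFunctor.comp e (fpFst z f) ≅ AlgSt.ofSpMap a) : P a :=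
  hS a fun W p => prop_of_chart hR (isAlgSpace_pullback_yon a p) z he i (IsPullback.of_hasPullback a p) (Iso.refl _)
    (hf W _)

/-- The converse of `repByAlgSpWith_ofSpMap`. -/
theorem prop_of_repByAlgSpWith_ofSpMap (hPb : PbStable P) (hS : SchemeTested P) {V Z : AlgSp.Space S}
    (d : V.obj ⟶ Z.obj) (h : AlgSt.RepByAlgSpWith P (AlgSt.ofSpMap d)) : P d := by
  obtain ⟨E, hE, hE₁, -⟩ := exists_fp_equiv (a := 𝟙 Z.obj) (b := d) (fst := d) (snd := 𝟙 V.obj)
    (IsPullback.of_vert_isIso ⟨by simp⟩)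
  exact rep_prop_tested (respSrc_of_baseChange hPb) hS h (AlgSt.ofSpMap (𝟙 Z.obj)) hE (eqToIso hE₁)

/-- The converse of `diag_ofSpMap`. -/
theorem prop_of_diag_ofSpMap (hPb : PbStable P) (hS : SchemeTested P) {V Z : AlgSp.Space S} (a : V.obj ⟶ Z.obj)
    (h : AlgSt.RepByAlgSpWith P (FibCat.diag (AlgSt.ofSpMap a))) : P (pullback.diagonal a) := by
  obtain ⟨E, hE, hE₁, hE₂⟩ := exists_fp_equiv (IsPullback.of_hasPullback a a)
  have h₁ : BasedFunctor.comp (BasedFunctor.comp (AlgSt.ofSpMap (pullback.diagonal a)) E) (fpFst _ _) =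
      BasedFunctor.comp (FibCat.diag (AlgSt.ofSpMap a)) (fpFst _ _) := by
    show BasedFunctor.comp (AlgSt.ofSpMap (pullback.diagonal a)) (BasedFunctor.comp E (fpFst _ _)) = BasedFunctor.id _
    rw [hE₁, show BasedFunctor.comp (AlgSt.ofSpMap (pullback.diagonal a)) (AlgSt.ofSpMap (pullback.fst a a)) = AlgSt.ofSpMap (pullback.diagonal a ≫ pullback.fst a a) from rfl, pullback.diagonal_fst, ofSpMap_id]
  have h₂ : BasedFunctor.comp (BasedFunctor.comp (AlgSt.ofSpMap (pullback.diagonal a)) E) (fpSnd _ _) =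
      BasedFunctor.comp (FibCat.diag (AlgSt.ofSpMap a)) (fpSnd _ _) := by
    show BasedFunctor.comp (AlgSt.ofSpMap (pullback.diagonal a)) (BasedFunctor.comp E (fpSnd _ _)) = BasedFunctor.id _
    rw [hE₂, show BasedFunctor.comp (AlgSt.ofSpMap (pullback.diagonal a)) (AlgSt.ofSpMap (pullback.snd a a)) = AlgSt.ofSpMap (pullback.diagonal a ≫ pullback.snd a a) from rfl, pullback.diagonal_snd, ofSpMap_id]
  obtain ⟨i⟩ := nonempty_iso_fp (eqToIso h₁) (eqToIso h₂)
  exact prop_of_repByAlgSpWith_ofSpMap hPb hS (V := V) (Z := ⟨_, AlgSpLib.isAlgSpace_pullback (X := V) (Y := V) a a⟩) _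
    ((repByAlgSpWith_iff_of_square (f' := AlgSt.ofSpMap (pullback.diagonal a))
      (f := FibCat.diag (AlgSt.ofSpMap a)) (a := BasedFunctor.id _) (b := E) (isEquivOver_id _) hE i).2 h)

/-- Properties of the diagonal pass to the representing morphisms. -/
theorem with_of_diag (hPb : PbStable P) (hS : SchemeTested P) {f : 𝒳 ⥤ᵇ 𝒴} (hf : AlgSt.RepByAlgSp1 f)
    (hQ : ∀ (V Z : AlgSp.Space S) (a : V.obj ⟶ Z.obj), P (pullback.diagonal a) → Q a)
    (h : AlgSt.RepByAlgSpWith P (FibCat.diag f)) : AlgSt.RepByAlgSpWith Q f := fun T y => by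
  obtain ⟨V, e, he⟩ := hf T y
  obtain ⟨i⟩ := spMapOfOver_iso (BasedFunctor.comp e (fpFst y f))
  refine ⟨V, e, he, hQ V ⟨_, AlgSp.IsAlgSpace.yon_obj T⟩ _ (prop_of_diag_ofSpMap hPb hS (V := V)
    (Z := ⟨_, AlgSp.IsAlgSpace.yon_obj T⟩) _ ?_)⟩
  exact (diag_transport (f' := AlgSt.ofSpMap (AlgSt.spMapOfOver (BasedFunctor.comp e (fpFst y f))))
    (f := fpFst y f) (a := e) (b := AlgSt.toOverCat T) he (isEquivOver_toOverCat T) i.symm).2 (diag_fpFst y h)

theorem compactSpace_of_yon_qc {T : Over S} (h : AlgSp.IsQuasiCompactSp ((AlgSp.yon S).obj T)) :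
    CompactSpace ↥T.left := by
  have := AlgSpLib.compactSpace_points_of_isQuasiCompactSp h
  exact (AlgSp.Points.schemeHomeo T).symm.compactSpace

/-- Quasi-compact morphisms of schemes from quasi-compact morphisms of sheaves. -/
theorem quasiCompact_of_yon {T W : Over S} (c : W ⟶ T) (h : AlgSp.IsQuasiCompactMor ((AlgSp.yon S).map c)) :
    QuasiCompact c.left := by
  refine quasiCompact_iff_forall_isAffineOpen.2 fun O hO => ?_
  have : IsAffine O.toScheme := hO
  have : CompactSpace ↥(Over.mk (O.ι ≫ T.hom)).left := (inferInstance : CompactSpace ↥O.toScheme)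
  let j : Over.mk (O.ι ≫ T.hom) ⟶ T := Over.homMk O.ι
  have sq := (IsPullback.of_hasPullback c j).map (AlgSp.yon S)
  have hc := compactSpace_of_yon_qc (h (AlgSp.IsAlgSpace.yon_obj _) (isQuasiCompactSp_yon _) _ _ _ sq)
  have sq' := (IsPullback.of_hasPullback c j).map (Over.forget S)
  have hr : Set.range (pullback.fst c j).left = c.left ⁻¹' (O : Set T.left) := by
    have hs := sq'.isoPullback.hom.surjective
    rw [show (pullback.fst c j).left = (Over.forget S).map (pullback.fst c j) from rfl,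
      ← sq'.isoPullback_hom_fst]
    refine ((hs.range_comp _).trans (Scheme.Pullback.range_fst ..)).trans ?_
    show c.left ⁻¹' Set.range O.ι = _
    rw [Scheme.Opens.range_ι]
  show IsCompact (c.left ⁻¹' (O : Set T.left))
  rw [← hr]
  exact isCompact_range (pullback.fst c j).left.continuous

theorem diagWith_qc_of_qcMor {V Z : AlgSp.Space S} (a : V.obj ⟶ Z.obj)
    (h : AlgSp.IsQuasiCompactMor (pullback.diagonal a)) : AlgSp.IsQuasiSeparatedMor a := by
  have hΔ := AlgSpLib.representable_diagonal V.property a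
  refine MorphismProperty.relative.of_exists fun T g => ⟨_, _, _, hΔ.isPullback g, ?_⟩
  exact quasiCompact_of_yon _ (fun Z Z' hZ hqc k fst snd sq =>
    h hZ hqc (k ≫ g) _ snd (sq.paste_horiz (hΔ.isPullback g)))

theorem repWith_closedImm_diagonal {V Z : AlgSp.Space S} (a : V.obj ⟶ Z.obj)
    (h : AlgSp.IsUnivClosedMor (pullback.diagonal a)) : AlgSp.RepWith @IsClosedImmersion (pullback.diagonal a) := by
  have hΔ := AlgSpLib.representable_diagonal V.property a
  have hl := AlgSpLib.RepWith.and (AlgSpLib.repWith_diagonal a (AlgSpLib.repWith_diag_lft V.property))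
    (AlgSpLib.repWith_monomorphisms_of_mono hΔ)
  have hu : AlgSp.RepWith @UniversallyClosed (pullback.diagonal a) :=
    (AlgSpLib.repWith_universallyClosed_iff hΔ).2 h
  refine AlgSpLib.RepWith.mono (fun _ _ g hg => ?_) (AlgSpLib.RepWith.and hu hl)
  obtain ⟨h₁, h₂, h₃⟩ := hg
  have : Mono g := h₃
  have : IsProper g := {}
  exact (IsClosedImmersion.iff_isProper_and_mono g).2 ⟨inferInstance, inferInstance⟩

theorem with_qs_iff {f : 𝒳 ⥤ᵇ 𝒴} (hf : AlgSt.RepByAlgSp1 f) :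
    [AlgSt.RepByAlgSpWith AlgSp.IsQuasiSeparatedMor f,
      AlgSt.RepByAlgSpWith AlgSp.IsQuasiCompactMor (FibCat.diag f),
      AlgSt.RepByAlgSpWith AlgSp.IsFiniteTypeMor (FibCat.diag f)].TFAE := by
  tfae_have 1 → 3 := fun h => diag_of_with (P := AlgSp.IsFiniteTypeMor)
    (isFiniteTypeMor_eq (S := S) ▸ (pbStable_locP AlgSpLib.etLocal_lft).inf pbStable_qcMor) h
    fun V Z a ha => ⟨locP_lft_diagonal V.property a, isQuasiCompactMor_of_repWith ha⟩
  tfae_have 3 → 2 := fun h => repByAlgSpWith_mono (fun _ _ _ _ ha => ha.2) h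
  tfae_have 2 → 1 := fun h => with_of_diag pbStable_qcMor schemeTested_qcMor hf
    (fun _ _ a => diagWith_qc_of_qcMor a) h
  tfae_finish

theorem with_sep_iff {f : 𝒳 ⥤ᵇ 𝒴} (hf : AlgSt.RepByAlgSp1 f) :
    [AlgSt.RepByAlgSpWith AlgSp.IsSeparatedMor f, AlgSt.IsClosedImm (FibCat.diag f),
      AlgSt.IsSeparatedMor f, AlgSt.RepByAlgSpWith AlgSp.IsUnivClosedMor (FibCat.diag f)].TFAE := by
  tfae_have 1 → 2 := fun h => diag_of_with (P := AlgSp.RepWith @IsClosedImmersion) pbStable_repWith h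
    fun _ _ _ ha => ha
  tfae_have 2 → 3 := fun h => repByAlgSpWith_mono (fun _ _ _ hX ha => isProperMor_of_closedImm hX ha) h
  tfae_have 3 → 4 := fun h => repByAlgSpWith_mono (fun _ _ _ _ ha => ha.2.2) h
  tfae_have 4 → 1 := fun h => with_of_diag pbStable_univClosed schemeTested_univClosed hf
    (fun _ _ a => repWith_closedImm_diagonal a) h
  tfae_finish

theorem isQuasiSeparatedMor_iff_of_rep {f : 𝒳 ⥤ᵇ 𝒴} (hf : AlgSt.RepByAlgSp1 f) :
    AlgSt.IsQuasiSeparatedMor f ↔ AlgSt.RepByAlgSpWith AlgSp.IsQuasiSeparatedMor f :=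
  ⟨fun h => ((with_qs_iff hf).out 0 1).2 (repByAlgSpWith_mono (fun _ _ _ _ ha => ha.1) h),
    fun h => diag_of_with pbStable_qcqs h fun _ _ _ ha => diagonal_qcqs ha⟩

theorem isQuasiSeparatedMor_iff {f : 𝒳 ⥤ᵇ 𝒴} (hf : AlgSt.RepByAlgSp1 (FibCat.diag f)) :
    AlgSt.IsQuasiSeparatedMor f ↔ AlgSt.RepByAlgSpWith AlgSp.IsQuasiCompactMor (FibCat.diag f) ∧
      AlgSt.RepByAlgSpWith AlgSp.IsQuasiCompactMor (FibCat.diag (FibCat.diag f)) := by
  constructor
  · intro h
    refine ⟨repByAlgSpWith_mono (fun _ _ _ _ ha => ha.1) h, ?_⟩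
    exact ((with_qs_iff hf).out 0 1).1 (repByAlgSpWith_mono (fun _ _ _ _ ha => ha.2) h)
  · rintro ⟨h₁, h₂⟩
    exact repByAlgSpWith_and (respSrc_of_baseChange pbStable_diagWith) h₁ (((with_qs_iff hf).out 0 1).2 h₂)

/-- The diagonal of a functor representable by algebraic spaces is representable. -/
theorem isRepresentable1_diag {f : 𝒳 ⥤ᵇ 𝒴} (hf : AlgSt.RepByAlgSp1 f) :
    FibCat.IsRepresentable1 (FibCat.diag f) := fun U y => by
  obtain ⟨F, e, ⟨Ψ, hΨ⟩, hr⟩ := diag_of_rep1 (P := AlgSp.RepWith ⊤) pbStable_repWith hf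
    (fun V Z a => ⟨AlgSpLib.representable_diagonal V.property a, fun _ _ _ _ _ _ => trivial⟩) U y
  obtain ⟨W, ⟨σ⟩⟩ := scheme_of_repWith _ hr
  exact ⟨W, BasedFunctor.comp Ψ (BasedFunctor.comp (AlgSt.ofSpMap σ.inv) (AlgSt.toOverCat W)),
    isEquivOver_comp ⟨e, hΨ.2, hΨ.1⟩ (isEquivOver_comp (isEquivOver_ofSpMap σ.inv) (isEquivOver_toOverCat W))⟩

end Groth.Agent.Stk19
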