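import Groth.Agent.Stk19.AlgSt.Points
import Groth.Agent.AlgSpLib.PointsCompact
import Groth.Agent.AlgSpLib.LocPMore
import Groth.Agent.Stk19.AlgSt.SepRep
import Mathlib.AlgebraicGeometry.Morphisms.UniversallyOpen
import Mathlib.AlgebraicGeometry.Morphisms.FlatDescent

/-! The topology on the points of an algebraic stack. -/

set_option autoImplicit false
set_option backward.isDefEq.respectTransparency false
set_option backward.isDefEq.respectTransparency.types false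

universe u

open CategoryTheory CategoryTheory.Limits AlgebraicGeometry Opposite FibCat Groth.Agent.Desc19

namespace Groth.Agent.Stk19

variable {S : Scheme.{u}} {𝒳 𝒴 𝒵 : AlgSt.Cat S}

theorem locP_atlas {Q : MorphismProperty Scheme.{u}} (hQ : AlgSpLib.EtLocal Q) {W : Over S} {F : AlgSp.Sp S}
    {w : (AlgSp.yon S).obj W ⟶ F} (hw : AlgSp.RepWith @Etale w) : AlgSp.LocP Q w :=
  AlgSpLib.locP_of_repWith hQ (AlgSp.IsAlgSpace.yon_obj W) (AlgSpLib.RepWith.mono hQ.of_etale hw)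

/-- Two charts, one of them representable, meet in a scheme lying over both. -/
theorem exists_chart_fp {U V : Over S} (h𝒳 : IsFibGrpd 𝒳.p) {x : overCat U ⥤ᵇ 𝒳} (y : overCat V ⥤ᵇ 𝒳)
    (hx : AlgSt.RepByAlgSp1 x) :
    ∃ (W : Over S) (p : W ⟶ U) (q : W ⟶ V),
      Nonempty (BasedFunctor.comp (AlgSt.overMap p) x ≅ BasedFunctor.comp (AlgSt.overMap q) y) ∧
      (∀ {Q : MorphismProperty Scheme.{u}}, AlgSpLib.EtLocal Q →
        AlgSt.RepByAlgSpWith (AlgSp.LocP Q) x → Q q.left) ∧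
      (∀ {Q : MorphismProperty Scheme.{u}}, AlgSpLib.EtLocal Q →
        AlgSt.RepByAlgSpWith (AlgSp.LocP Q) y → Q p.left) ∧
      ∀ s t, AlgSt.Points.ofChart x s = AlgSt.Points.ofChart y t → ∃ w, p.left w = s ∧ q.left w = t := by
  obtain ⟨F, e, he⟩ := hx V y
  obtain ⟨W, w, hwe, hws⟩ := F.property.atlas
  obtain ⟨q, hq⟩ := (AlgSp.yon S).map_surjective (w ≫ AlgSt.spMapOfOver (BasedFunctor.comp e (fpFst y x)))
  obtain ⟨p, hp⟩ := (AlgSp.yon S).map_surjective (w ≫ AlgSt.spMapOfOver (BasedFunctor.comp e (fpSnd y x)))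
  let π := BasedFunctor.comp (BasedFunctor.comp (AlgSt.ofOverCat W) (AlgSt.ofSpMap w)) e
  have key : ∀ {T : Over S} (r : W ⟶ T) (d : AlgSt.ofSp F.obj ⥤ᵇ overCat T),
      (AlgSp.yon S).map r = w ≫ AlgSt.spMapOfOver d →
      Nonempty (BasedFunctor.comp (BasedFunctor.comp (AlgSt.ofOverCat W) (AlgSt.ofSpMap w)) d ≅
        AlgSt.overMap r) := fun {T} r d hr => by
    obtain ⟨i⟩ := spMapOfOver_iso d
    refine ⟨(Stk.restr (BasedFunctor.comp (AlgSt.ofOverCat W) (AlgSt.ofSpMap w)) _).mapIso i ≪≫ eqToIso ?_⟩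
    show BasedFunctor.comp (BasedFunctor.comp (AlgSt.ofOverCat W) (AlgSt.ofSpMap w))
      (BasedFunctor.comp (AlgSt.ofSpMap (AlgSt.spMapOfOver d)) (AlgSt.toOverCat T)) = _
    rw [show AlgSt.overMap r =
      BasedFunctor.comp (BasedFunctor.comp (AlgSt.ofOverCat W) (AlgSt.ofSpMap ((AlgSp.yon S).map r)))
        (AlgSt.toOverCat T) from rfl, hr]
    rfl
  obtain ⟨iq⟩ := key q _ hq
  obtain ⟨ip⟩ := key p _ hp
  refine ⟨W, p, q, ⟨(postB _ x).mapIso ip.symm ≪≫ (Stk.restr π _).mapIso (fpIso y x).symm ≪≫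
      (postB _ y).mapIso iq⟩, fun {Q} hQ h => ?_, fun {Q} hQ h => ?_, fun s t hst => ?_⟩
  · obtain ⟨F', e', he', ha⟩ := h V y
    refine AlgSp.locP_yon_map ?_
    rw [hq]
    exact AlgSpLib.locP_comp hQ (AlgSp.IsAlgSpace.yon_obj W) F.property (AlgSp.IsAlgSpace.yon_obj V)
      (locP_atlas hQ hwe) (repWith_any (respSrc_locP hQ) he' ha e he)
  · obtain ⟨F', e', he', ha⟩ := h U x
    refine AlgSp.locP_yon_map ?_
    rw [hp]
    exact AlgSpLib.locP_comp hQ (AlgSp.IsAlgSpace.yon_obj W) F.property (AlgSp.IsAlgSpace.yon_obj U)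
      (locP_atlas hQ hwe)
      (repWith_any (respSrc_locP hQ) he' ha (BasedFunctor.comp e (fpSwap y x))
        (isEquivOver_comp he (isEquivOver_fpSwap y x)))
  · obtain ⟨v, hv₁, hv₂⟩ := exists_points_fp (isFibGrpd_overCat U) h𝒳 (isFibGrpd_overCat V) x y
      (AlgSt.Points.ofChart (BasedFunctor.id _) t) (AlgSt.Points.ofChart (BasedFunctor.id _) s)
      (by rw [← ofChart_eq_map, ← ofChart_eq_map]; exact hst.symm)
    obtain ⟨z', rfl⟩ := (points_bijective_of_equiv he).2 v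
    obtain ⟨z, rfl⟩ := stPt_bijective.2 z'
    obtain ⟨r', rfl⟩ := AlgSpLib.surjective_map_of_repWith hws z
    obtain ⟨r, rfl⟩ := (AlgSp.Points.schemeEquiv W).surjective r'
    refine ⟨r, (ofChart_id_bijective U).1 ?_, (ofChart_id_bijective V).1 ?_⟩
    · rw [← hv₂, ← ofChart_overMap, show BasedFunctor.comp (AlgSt.overMap p) (BasedFunctor.id _) = AlgSt.overMap p from rfl,
        ofChart_congr ip.symm, ← points_map_comp, ← map_stPt]
      rfl
    · rw [← hv₁, ← ofChart_overMap, show BasedFunctor.comp (AlgSt.overMap q) (BasedFunctor.id _) = AlgSt.overMap q from rfl,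
        ofChart_congr iq.symm, ← points_map_comp, ← map_stPt]
      rfl

theorem ofChart_eq_of_iso {W U V : Over S} {p : W ⟶ U} {q : W ⟶ V} {x : overCat U ⥤ᵇ 𝒳} {y : overCat V ⥤ᵇ 𝒳}
    (α : BasedFunctor.comp (AlgSt.overMap p) x ≅ BasedFunctor.comp (AlgSt.overMap q) y) (w : ↥W.left) :
    AlgSt.Points.ofChart x (p.left w) = AlgSt.Points.ofChart y (q.left w) := by
  rw [← ofChart_overMap, ← ofChart_overMap, ofChart_congr α]

theorem isOpenMap_of_flat_lfp {X Y : Scheme.{u}} (f : X ⟶ Y) [Flat f] [LocallyOfFinitePresentation f] :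
    IsOpenMap f := f.isOpenMap

/-- Every chart from a scheme is continuous on points. -/
theorem continuous_ofChart (h : AlgSt.IsAlgStack Scheme.fppfPrecoverage 𝒳) {U : Over S} (x : overCat U ⥤ᵇ 𝒳) :
    Continuous (AlgSt.Points.ofChart x) := by
  obtain ⟨V, y, hy, hys⟩ := h.atlas
  obtain ⟨W, p, q, ⟨α⟩, hq, -, hsurj⟩ := exists_chart_fp h.isStack.1 x (repByAlgSp1_of_with hy)
  refine continuous_def.2 fun A hA => ?_
  have := hq AlgSpLib.etLocal_smooth hy
  have e : AlgSt.Points.ofChart x ⁻¹' A = q.left '' (p.left ⁻¹' (AlgSt.Points.ofChart y ⁻¹' A)) := by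
    ext s
    constructor
    · intro hs
      obtain ⟨t, ht⟩ := ofChart_surjective h.isStack.1 hys (AlgSt.Points.ofChart x s)
      obtain ⟨w, rfl, rfl⟩ := hsurj t s ht
      exact ⟨w, show AlgSt.Points.ofChart y (p.left w) ∈ A from ht ▸ hs, rfl⟩
    · rintro ⟨w, hw, rfl⟩
      show AlgSt.Points.ofChart x (q.left w) ∈ A
      rw [← ofChart_eq_of_iso α]
      exact hw
  rw [e]
  exact q.left.isOpenMap _ ((AlgSt.Points.isOpen_iff.1 hA V y hy).preimage p.left.continuous)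

/-- Flat charts locally of finite presentation are open on points. -/
theorem isOpenMap_ofChart (h : IsFibGrpd 𝒳.p) {U : Over S} {x : overCat U ⥤ᵇ 𝒳}
    (h₁ : AlgSt.RepByAlgSpWith (AlgSp.LocP @Flat) x)
    (h₂ : AlgSt.RepByAlgSpWith (AlgSp.LocP @LocallyOfFinitePresentation) x) :
    IsOpenMap (AlgSt.Points.ofChart x) := by
  intro A hA
  refine AlgSt.Points.isOpen_iff.2 fun V y _ => ?_
  obtain ⟨W, p, q, ⟨α⟩, hq, -, hsurj⟩ := exists_chart_fp h y (repByAlgSp1_of_with h₁)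
  have := hq AlgSpLib.etLocal_flat h₁
  have := hq AlgSpLib.etLocal_lfp h₂
  have e : AlgSt.Points.ofChart y ⁻¹' (AlgSt.Points.ofChart x '' A) = q.left '' (p.left ⁻¹' A) := by
    ext t
    constructor
    · rintro ⟨s, hs, hst⟩
      obtain ⟨w, rfl, rfl⟩ := hsurj s t hst
      exact ⟨w, hs, rfl⟩
    · rintro ⟨w, hw, rfl⟩
      exact ⟨p.left w, hw, ofChart_eq_of_iso α w⟩
  rw [e]
  exact q.left.isOpenMap _ (hA.preimage p.left.continuous)

/-- The map on points of a functor between algebraic stacks is continuous. -/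
theorem continuous_points_map (h𝒴 : AlgSt.IsAlgStack Scheme.fppfPrecoverage 𝒴) (f : 𝒳 ⥤ᵇ 𝒴) :
    Continuous (AlgSt.Points.map f) :=
  continuous_def.2 fun _ hA => AlgSt.Points.isOpen_iff.2 fun _ x _ =>
    hA.preimage (continuous_ofChart h𝒴 (BasedFunctor.comp x f))

/-- A surjective chart of an algebraic space by a scheme, with every etale-local property. -/
theorem exists_sp_chart (F : AlgSp.Space S) :
    ∃ (U : Over S) (c : overCat U ⥤ᵇ AlgSt.ofSp F.obj), Function.Surjective (AlgSt.Points.ofChart c) ∧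
      (∀ {Q : MorphismProperty Scheme.{u}}, AlgSpLib.EtLocal Q → AlgSt.RepByAlgSpWith (AlgSp.LocP Q) c) ∧
      (AlgSp.IsQuasiCompactSp F.obj → CompactSpace ↥U.left) := by
  have key : ∀ {U : Over S} (a : (AlgSp.yon S).obj U ⟶ F.obj), AlgSp.RepWith @Etale a →
      AlgSp.RepWith @Surjective a →
      Function.Surjective (AlgSt.Points.ofChart (BasedFunctor.comp (AlgSt.ofOverCat U) (AlgSt.ofSpMap a))) ∧
        ∀ {Q : MorphismProperty Scheme.{u}}, AlgSpLib.EtLocal Q →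
          AlgSt.RepByAlgSpWith (AlgSp.LocP Q) (BasedFunctor.comp (AlgSt.ofOverCat U) (AlgSt.ofSpMap a)) := by
    intro U a hae has
    refine ⟨fun x => ?_, fun {Q} hQ => ?_⟩
    · obtain ⟨z, rfl⟩ := stPt_bijective.2 x
      obtain ⟨t, rfl⟩ := AlgSpLib.surjective_ofPt a has z
      exact ⟨t, ofChart_sp a t⟩
    · exact repByAlgSpWith_comp_desc (respSrc_locP hQ) (atlasDescent_locP hQ) (compStable_locP hQ)
        (isFibGrpd_overCat U)
        (fibGrpd_of_repByAlgSp (repByAlgSp_ofSp (⟨_, AlgSp.IsAlgSpace.yon_obj U⟩ : AlgSp.Space S)))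
        (repByAlgSpWith_of_isEquivOver (isEquivOver_ofOverCat U) fun T =>
          locP_atlas hQ (AlgSp.repWith_id _ T))
        (repByAlgSpWith_ofSpMap (pbStable_locP hQ) (V := ⟨_, AlgSp.IsAlgSpace.yon_obj U⟩) a (locP_atlas hQ hae))
  by_cases hq : AlgSp.IsQuasiCompactSp F.obj
  · obtain ⟨U, a, hae, has, hU⟩ := hq
    obtain ⟨k₁, k₂⟩ := key a hae has
    exact ⟨U, _, k₁, k₂, fun _ => hU⟩
  · obtain ⟨U, a, hae, has⟩ := F.property.atlas
    obtain ⟨k₁, k₂⟩ := key a hae has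
    exact ⟨U, _, k₁, k₂, fun h => absurd h hq⟩

theorem with_comp_locP {Q : MorphismProperty Scheme.{u}} (hQ : AlgSpLib.EtLocal Q) {U : Over S}
    (h𝒳 : IsFibGrpd 𝒳.p) {c : overCat U ⥤ᵇ 𝒳} {f : 𝒳 ⥤ᵇ 𝒴} (hc : AlgSt.RepByAlgSpWith (AlgSp.LocP Q) c)
    (hf : AlgSt.RepByAlgSpWith (AlgSp.LocP Q) f) : AlgSt.RepByAlgSpWith (AlgSp.LocP Q) (BasedFunctor.comp c f) :=
  repByAlgSpWith_comp_desc (respSrc_locP hQ) (atlasDescent_locP hQ) (compStable_locP hQ)
    (isFibGrpd_overCat U) h𝒳 hc hf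

/-- A flat morphism locally of finite presentation from a space is open on points. -/
theorem isOpenMap_map_sp (h : AlgSt.IsAlgStack Scheme.fppfPrecoverage 𝒳) (F : AlgSp.Space S)
    {u : AlgSt.ofSp F.obj ⥤ᵇ 𝒳} (h₁ : AlgSt.RepByAlgSpWith (AlgSp.LocP @Flat) u)
    (h₂ : AlgSt.RepByAlgSpWith (AlgSp.LocP @LocallyOfFinitePresentation) u) :
    IsOpenMap (AlgSt.Points.map u) := by
  obtain ⟨U, c, hcs, hc, -⟩ := exists_sp_chart F
  intro A hA
  rw [← Set.image_preimage_eq A hcs, Set.image_image]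
  simp only [map_ofChart]
  exact isOpenMap_ofChart h.isStack.1
    (with_comp_locP AlgSpLib.etLocal_flat (setoid_ofSp _).1 (hc AlgSpLib.etLocal_flat) h₁)
    (with_comp_locP AlgSpLib.etLocal_lfp (setoid_ofSp _).1 (hc AlgSpLib.etLocal_lfp) h₂) _
    (hA.preimage (continuous_ofChart (isDM_ofSp F).1 c))

theorem with_flat_of_smooth {𝒵 : AlgSt.Cat S} {f : 𝒵 ⥤ᵇ 𝒳} (h : AlgSt.RepByAlgSpWith (AlgSp.LocP @Smooth) f) :
    AlgSt.RepByAlgSpWith (AlgSp.LocP @Flat) f ∧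
      AlgSt.RepByAlgSpWith (AlgSp.LocP @LocallyOfFinitePresentation) f :=
  ⟨repByAlgSpWith_mono (fun _ _ _ _ ha => AlgSpLib.locP_mono (Q := @Flat) (fun _ _ g (hg : Smooth g) => inferInstance) ha) h,
    repByAlgSpWith_mono (fun _ _ _ _ ha =>
      AlgSpLib.locP_mono (Q := @LocallyOfFinitePresentation) (fun _ _ g (hg : Smooth g) => inferInstance) ha) h⟩

theorem isOpenMap_ofChart_smooth (h : IsFibGrpd 𝒳.p) {U : Over S} {x : overCat U ⥤ᵇ 𝒳}
    (hx : AlgSt.RepByAlgSpWith (AlgSp.LocP @Smooth) x) : IsOpenMap (AlgSt.Points.ofChart x) :=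
  isOpenMap_ofChart h (with_flat_of_smooth hx).1 (with_flat_of_smooth hx).2

theorem exists_compact_nhd (h : AlgSt.IsAlgStack Scheme.fppfPrecoverage 𝒳) {x : AlgSt.Points 𝒳}
    {A : Set (AlgSt.Points 𝒳)} (hA : IsOpen A) (hx : x ∈ A) :
    ∃ V : Set (AlgSt.Points 𝒳), IsOpen V ∧ IsCompact V ∧ x ∈ V ∧ V ⊆ A := by
  obtain ⟨U, y, hy, hys⟩ := h.atlas
  obtain ⟨t, rfl⟩ := ofChart_surjective h.isStack.1 hys x
  obtain ⟨_, ⟨O, hO, rfl⟩, ht, hOA⟩ :=
    U.left.isBasis_affineOpens.exists_subset_of_mem_open hx (hA.preimage (continuous_ofChart h y))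
  exact ⟨_, isOpenMap_ofChart_smooth h.isStack.1 hy _ O.2, hO.isCompact.image (continuous_ofChart h y),
    ⟨t, ht, rfl⟩, Set.image_subset_iff.2 hOA⟩

theorem compactSpace_points_of_chart (h : AlgSt.IsAlgStack Scheme.fppfPrecoverage 𝒳) {U : Over S}
    [CompactSpace ↥U.left] (x : overCat U ⥤ᵇ 𝒳) (hx : Function.Surjective (AlgSt.Points.ofChart x)) :
    CompactSpace (AlgSt.Points 𝒳) :=
  ⟨hx.range_eq ▸ isCompact_range (continuous_ofChart h x)⟩

theorem compactSpace_points_of_qc (h : AlgSt.IsAlgStack Scheme.fppfPrecoverage 𝒳) (hq : AlgSt.IsQuasiCompact 𝒳) :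
    CompactSpace (AlgSt.Points 𝒳) := by
  obtain ⟨U, x, hU, -, hs⟩ := hq
  exact compactSpace_points_of_chart h x (ofChart_surjective h.isStack.1 hs)

/-- Refine a chart by finitely many affine opens covering the points. -/
theorem isQuasiCompact_of_compactSpace (h : AlgSt.IsAlgStack Scheme.fppfPrecoverage 𝒳)
    [CompactSpace (AlgSt.Points 𝒳)] : AlgSt.IsQuasiCompact 𝒳 := by
  obtain ⟨U, x, hx, hxs⟩ := h.atlas
  obtain ⟨σ, hσ⟩ := isCompact_univ.elim_finite_subcover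
    (fun i : U.left.affineOpens => AlgSt.Points.ofChart x '' (i.1 : Set U.left))
    (fun i => isOpenMap_ofChart_smooth h.isStack.1 hx _ i.1.2) (fun p _ => by
      obtain ⟨s, rfl⟩ := ofChart_surjective h.isStack.1 hxs p
      obtain ⟨_, ⟨V, hV, rfl⟩, hs, -⟩ :=
        U.left.isBasis_affineOpens.exists_subset_of_mem_open (Set.mem_univ s) isOpen_univ
      exact Set.mem_iUnion.2 ⟨⟨V, hV⟩, s, hs, rfl⟩)
  let U' : Over S := Over.mk (Sigma.desc (fun i : σ => i.1.1.ι) ≫ U.hom)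
  let π : U' ⟶ U := Over.homMk (Sigma.desc fun i : σ => i.1.1.ι)
  have hπ : Smooth π.left := IsZariskiLocalAtSource.sigmaDesc (P := @Smooth) fun i => inferInstance
  have h' : AlgSt.RepByAlgSpWith (AlgSp.LocP @Smooth) (BasedFunctor.comp (AlgSt.overMap π) x) := by
    refine with_comp_locP AlgSpLib.etLocal_smooth (isFibGrpd_overCat U) ?_ hx
    refine (repByAlgSpWith_iff_of_square (f' := AlgSt.overMap π) (f := AlgSt.ofSpMap ((AlgSp.yon S).map π))
      (a := AlgSt.ofOverCat U') (b := AlgSt.ofOverCat U) (isEquivOver_ofOverCat U') (isEquivOver_ofOverCat U)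
      (eqToIso (ofOver_overMap π))).2 ?_
    have k : AlgSp.RepWith @Smooth ((AlgSp.yon S).map π) := (AlgSp.repWith_yon_map_iff @Smooth π).2 hπ
    exact repByAlgSpWith_ofSpMap (pbStable_locP AlgSpLib.etLocal_smooth)
      (V := ⟨_, AlgSp.IsAlgSpace.yon_obj U'⟩) (Z := ⟨_, AlgSp.IsAlgSpace.yon_obj U⟩) _
      (AlgSpLib.locP_of_repWith AlgSpLib.etLocal_smooth (AlgSp.IsAlgSpace.yon_obj U') k)
  refine ⟨U', BasedFunctor.comp (AlgSt.overMap π) x, ?_, h',
    with_surjective_of_ofChart h.isStack.1 (repByAlgSp1_of_with h') fun p => ?_⟩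
  · have : ∀ i : σ, IsAffine i.1.1.toScheme := fun i => i.1.2
    exact (inferInstance : IsAffine (∐ fun i : σ => i.1.1.toScheme))
  · obtain ⟨i, hi, v, hv, rfl⟩ := Set.mem_iUnion₂.1 (hσ (Set.mem_univ p))
    refine ⟨Sigma.ι (fun i : σ => i.1.1.toScheme) ⟨i, hi⟩ ⟨v, hv⟩, ?_⟩
    rw [ofChart_overMap]
    congr 1
    show ((Sigma.ι (fun i : σ => i.1.1.toScheme) ⟨i, hi⟩) ≫ Sigma.desc fun i : σ => i.1.1.ι) ⟨v, hv⟩ = v
    rw [Sigma.ι_desc]
    rfl

theorem isQuasiCompact_iff_compactSpace (h : AlgSt.IsAlgStack Scheme.fppfPrecoverage 𝒳) :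
    AlgSt.IsQuasiCompact 𝒳 ↔ CompactSpace (AlgSt.Points 𝒳) :=
  ⟨compactSpace_points_of_qc h, fun _ => isQuasiCompact_of_compactSpace h⟩

theorem isQuasiCompact_of_surjective (h𝒳 : AlgSt.IsAlgStack Scheme.fppfPrecoverage 𝒳)
    (h𝒴 : AlgSt.IsAlgStack Scheme.fppfPrecoverage 𝒴) (f : 𝒳 ⥤ᵇ 𝒴) (hf : AlgSt.IsSurjective f)
    (hq : AlgSt.IsQuasiCompact 𝒳) : AlgSt.IsQuasiCompact 𝒴 := by
  have := compactSpace_points_of_qc h𝒳 hq
  have : CompactSpace (AlgSt.Points 𝒴) := ⟨hf.range_eq ▸ isCompact_range (continuous_points_map h𝒴 f)⟩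
  exact isQuasiCompact_of_compactSpace h𝒴

end Groth.Agent.Stk19
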