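import Groth.Agent.Stk19.AlgSt.Qc
import Groth.Agent.Stk19.SpectralQuot
import Mathlib.AlgebraicGeometry.Morphisms.QuasiCompact

/-! Spectral spaces of points of algebraic stacks with quasi-compact diagonal. -/

set_option autoImplicit false
set_option backward.isDefEq.respectTransparency false
set_option backward.isDefEq.respectTransparency.types false

universe u

open CategoryTheory CategoryTheory.Limits AlgebraicGeometry Opposite FibCat Groth.Agent.Desc19 Topology TopologicalSpace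

namespace Groth.Agent.Stk19

variable {S : Scheme.{u}} {𝒳 : AlgSt.Cat S}

local notation "AS" => AlgSt.IsAlgStack Scheme.fppfPrecoverage
local notation "QC" => AlgSt.IsQuasiCompactMor Scheme.fppfPrecoverage

theorem spectralSpace_of_isAffine (X : Scheme.{u}) [IsAffine X] : SpectralSpace ↥X :=
  have : SpectralSpace ↥(Spec Γ(X, ⊤)) := inferInstanceAs (SpectralSpace (PrimeSpectrum Γ(X, ⊤)))
  (Scheme.homeoOfIso X.isoSpec).isOpenEmbedding.spectralSpace

/-- The self-intersection of an affine chart is covered by an affine scheme. -/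
theorem exists_affine_fp [QuasiSeparatedSpace ↥S] (h : AS 𝒳)
    (hΔ : AlgSt.RepByAlgSpWith AlgSp.IsQuasiCompactMor (FibCat.diag (toSelf 𝒳)))
    {V : Over S} [IsAffine V.left] (x : overCat V ⥤ᵇ 𝒳) :
    ∃ (W : Over S) (p q : W ⟶ V), IsAffine W.left ∧
      Nonempty (BasedFunctor.comp (AlgSt.overMap p) x ≅ BasedFunctor.comp (AlgSt.overMap q) x) ∧
      ∀ s t, AlgSt.Points.ofChart x s = AlgSt.Points.ofChart x t → ∃ w, p.left w = s ∧ q.left w = t := by
  have hV := isAlgStack_overCat V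
  have hP := isAlgStack_fp isAlgStack_selfOver.isStack isAlgStack_selfOver.diag hV hV (toSelf _) (toSelf _)
  have h1 : AlgSt.IsQuasiCompact (fp (toSelf (overCat V)) (toSelf (overCat V))) :=
    qcMor_toSelf hV (isQuasiCompact_overCat V) _ hV (isQuasiCompact_overCat V) _
  have hX2 := isAlgStack_fp isAlgStack_selfOver.isStack isAlgStack_selfOver.diag h h (toSelf _) (toSelf _)
  obtain ⟨G, hG, -, -⟩ := exists_inverse (isEquivOver_magicSquare x x)
  have h2 : AlgSt.IsQuasiCompact (fp x x) :=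
    isQuasiCompact_of_equiv hG (qcMor_of_with hX2 h hΔ _ hP h1 (prodPair x x))
  obtain ⟨F, e, he⟩ := repByAlgSp1_of_diag h.isStack.1 h.diag (repByAlgSp_overCat V) x V x
  obtain ⟨G', hG', -, -⟩ := exists_inverse he
  have := AlgSpLib.compactSpace_points_of_isQuasiCompactSp
    (isQuasiCompactSp_of_ofSp F (isQuasiCompact_of_equiv hG' h2))
  obtain ⟨W, w, hW, -, hws⟩ := AlgSpLib.exists_affine_chart F.property
  obtain ⟨p, hp⟩ := (AlgSp.yon S).map_surjective (w ≫ AlgSt.spMapOfOver (BasedFunctor.comp e (fpFst x x)))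
  obtain ⟨q, hq⟩ := (AlgSp.yon S).map_surjective (w ≫ AlgSt.spMapOfOver (BasedFunctor.comp e (fpSnd x x)))
  let π := BasedFunctor.comp (BasedFunctor.comp (AlgSt.ofOverCat W) (AlgSt.ofSpMap w)) e
  have key : ∀ {T : Over S} (r : W ⟶ T) (d : AlgSt.ofSp F.obj ⥤ᵇ overCat T),
      (AlgSp.yon S).map r = w ≫ AlgSt.spMapOfOver d →
      Nonempty (BasedFunctor.comp (BasedFunctor.comp (AlgSt.ofOverCat W) (AlgSt.ofSpMap w)) d ≅
        AlgSt.overMap r) := fun {T} r d hr => by
    obtain ⟨i⟩ := spMapOfOver_iso d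
    refine ⟨(Stk.restr (BasedFunctor.comp (AlgSt.ofOverCat W) (AlgSt.ofSpMap w)) _).mapIso i ≪≫ eqToIso ?_⟩
    show BasedFunctor.comp (BasedFunctor.comp (AlgSt.ofOverCat W) (AlgSt.ofSpMap w))
      (BasedFunctor.comp (AlgSt.ofSpMap (AlgSt.spMapOfOver d)) (AlgSt.toOverCat T)) = _
    rw [show AlgSt.overMap r =
      BasedFunctor.comp (BasedFunctor.comp (AlgSt.ofOverCat W) (AlgSt.ofSpMap ((AlgSp.yon S).map r)))
        (AlgSt.toOverCat T) from rfl, hr]
    rfl
  obtain ⟨iq⟩ := key q _ hq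
  obtain ⟨ip⟩ := key p _ hp
  refine ⟨W, p, q, hW, ⟨(postB _ x).mapIso ip.symm ≪≫ (Stk.restr π _).mapIso (fpIso x x) ≪≫
      (postB _ x).mapIso iq⟩, fun s t hst => ?_⟩
  obtain ⟨v, hv₁, hv₂⟩ := exists_points_fp hV.isStack.1 h.isStack.1 hV.isStack.1 x x
    (AlgSt.Points.ofChart (BasedFunctor.id _) s) (AlgSt.Points.ofChart (BasedFunctor.id _) t)
    (by rw [← ofChart_eq_map, ← ofChart_eq_map]; exact hst)
  obtain ⟨z', rfl⟩ := (points_bijective_of_equiv he).2 v
  obtain ⟨z, rfl⟩ := stPt_bijective.2 z'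
  obtain ⟨r', rfl⟩ := AlgSpLib.surjective_map_of_repWith hws z
  obtain ⟨r, rfl⟩ := (AlgSp.Points.schemeEquiv W).surjective r'
  refine ⟨r, (ofChart_id_bijective V).1 ?_, (ofChart_id_bijective V).1 ?_⟩
  · rw [← hv₁, ← ofChart_overMap, show BasedFunctor.comp (AlgSt.overMap p) (BasedFunctor.id _) = AlgSt.overMap p from rfl,
      ofChart_congr ip.symm, ← points_map_comp, ← map_stPt]
    rfl
  · rw [← hv₂, ← ofChart_overMap, show BasedFunctor.comp (AlgSt.overMap q) (BasedFunctor.id _) = AlgSt.overMap q from rfl,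
      ofChart_congr iq.symm, ← points_map_comp, ← map_stPt]
    rfl

/-- An open chart from an affine scheme has spectral image. -/
theorem spectralSpace_range [QuasiSeparatedSpace ↥S] (h : AS 𝒳)
    (hΔ : AlgSt.RepByAlgSpWith AlgSp.IsQuasiCompactMor (FibCat.diag (toSelf 𝒳)))
    {V : Over S} [IsAffine V.left] (x : overCat V ⥤ᵇ 𝒳) (ho : IsOpenMap (AlgSt.Points.ofChart x)) :
    SpectralSpace ↥(Set.range (AlgSt.Points.ofChart x)) := by
  obtain ⟨W, p, q, hW, ⟨i⟩, hpq⟩ := exists_affine_fp h hΔ x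
  have := spectralSpace_of_isAffine V.left
  have := spectralSpace_of_isAffine W.left
  have : QuasiCompact p.left := inferInstance
  have : QuasiCompact q.left := inferInstance
  exact spectralSpace_of_relation (Set.rangeFactorization (AlgSt.Points.ofChart x)) p.left q.left
    ((continuous_ofChart h x).subtype_mk _) (ho.subtype_mk _) Set.rangeFactorization_surjective
    p.left.isSpectralMap q.left.isSpectralMap (fun r => Subtype.ext (ofChart_eq_of_iso i r))
    (fun a b e => hpq a b (congrArg Subtype.val e))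

theorem exists_spectral_nhd [QuasiSeparatedSpace ↥S] (h : AS 𝒳)
    (hΔ : AlgSt.RepByAlgSpWith AlgSp.IsQuasiCompactMor (FibCat.diag (toSelf 𝒳))) (z : AlgSt.Points 𝒳) :
    ∃ O : Set (AlgSt.Points 𝒳), IsOpen O ∧ z ∈ O ∧ SpectralSpace ↥O := by
  obtain ⟨U, x, hx, hxs⟩ := h.atlas
  obtain ⟨a, rfl⟩ := ofChart_surjective h.isStack.1 hxs z
  obtain ⟨_, ⟨O, hO, rfl⟩, ha, -⟩ :=
    U.left.isBasis_affineOpens.exists_subset_of_mem_open (Set.mem_univ a) isOpen_univ
  change U.left.Opens at O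
  have hOa : IsAffine O.toScheme := hO
  let j : Over.mk (O.ι ≫ U.hom) ⟶ U := Over.homMk O.ι
  have e : AlgSt.Points.ofChart (BasedFunctor.comp (AlgSt.overMap j) x) = AlgSt.Points.ofChart x ∘ O.ι :=
    funext (ofChart_overMap j x)
  have ho : IsOpenMap (AlgSt.Points.ofChart (BasedFunctor.comp (AlgSt.overMap j) x)) :=
    e ▸ (isOpenMap_ofChart_smooth h.isStack.1 hx).comp O.ι.isOpenEmbedding.isOpenMap
  exact ⟨_, ho.isOpen_range, ⟨⟨a, ha⟩, congrFun e _⟩,
    @spectralSpace_range _ _ _ h hΔ (Over.mk (O.ι ≫ U.hom)) hOa _ ho⟩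

theorem spectralSpace_points [QuasiSeparatedSpace ↥S] (h : AS 𝒳) (hq : AlgSt.IsQuasiCompact 𝒳)
    (hΔ : AlgSt.RepByAlgSpWith AlgSp.IsQuasiCompactMor (FibCat.diag (toSelf 𝒳))) :
    SpectralSpace (AlgSt.Points 𝒳) := by
  obtain ⟨V, x, hV, hx, hxs⟩ := hq
  have hs := ofChart_surjective h.isStack.1 hxs
  have := spectralSpace_range h hΔ x (isOpenMap_ofChart_smooth h.isStack.1 hx)
  have : CompactSpace (AlgSt.Points 𝒳) := ⟨hs.range_eq ▸ isCompact_range (continuous_ofChart h x)⟩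
  exact ((Homeomorph.Set.univ _).symm.trans (Homeomorph.setCongr hs.range_eq.symm)).isOpenEmbedding.spectralSpace

theorem sober_points [QuasiSeparatedSpace ↥S] (h : AS 𝒳)
    (hΔ : AlgSt.RepByAlgSpWith AlgSp.IsQuasiCompactMor (FibCat.diag (toSelf 𝒳))) :
    QuasiSober (AlgSt.Points 𝒳) ∧ T0Space (AlgSt.Points 𝒳) := by
  choose O hO hz hsp using exists_spectral_nhd h hΔ
  have : ∀ s : Set.range O, QuasiSober ↥(s : Set (AlgSt.Points 𝒳)) := fun ⟨_, z, rfl⟩ => (hsp z).toQuasiSober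
  refine ⟨quasiSober_of_open_cover (Set.range O) (fun ⟨_, z, rfl⟩ => hO z)
    (Set.eq_univ_of_forall fun z => ⟨O z, ⟨z, rfl⟩, hz z⟩), ⟨fun a b hab => ?_⟩⟩
  have hb : b ∈ O a := (hab.mem_open_iff (hO a)).1 (hz a)
  have := hsp a
  exact congrArg Subtype.val (Inseparable.eq ((subtype_inseparable_iff (⟨a, hz a⟩ : ↥(O a)) ⟨b, hb⟩).2 hab))

end Groth.Agent.Stk19
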