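import Groth.Agent.Stk19.AlgSt.Local
import Groth.Agent.AlgSpLib.PointsCompact
import Groth.Agent.AlgSpLib.MorTop

/-! Fppf descent on a scheme base for separation properties of morphisms of algebraic spaces. -/

set_option autoImplicit false
set_option backward.isDefEq.respectTransparency.types false

universe u

open CategoryTheory CategoryTheory.Limits AlgebraicGeometry Opposite Topology AlgSp

namespace Groth.Agent.Stk19

open Groth.Agent.AlgSpLib

variable {S : Scheme.{u}}

theorem fls_pullback_fst {T W T₀ : Over S} (t : T₀ ⟶ T) (c : W ⟶ T) (hf : Flat c.left)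
    (hl : LocallyOfFinitePresentation c.left) (hs : Surjective c.left) :
    Flat (pullback.fst t c).left ∧ LocallyOfFinitePresentation (pullback.fst t c).left ∧
      Surjective (pullback.fst t c).left :=
  have sq := ((IsPullback.of_hasPullback t c).map (Over.forget S)).flip
  ⟨MorphismProperty.of_isPullback (P := @Flat) sq hf,
    MorphismProperty.of_isPullback (P := @LocallyOfFinitePresentation) sq hl,
    MorphismProperty.of_isPullback (P := @Surjective) sq hs⟩

theorem schDescent_diagWith (Q : MorphismProperty Scheme.{u}) [Q.IsStableUnderBaseChange]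
    [Q.IsLocalAtTarget Scheme.fppfPrecoverage] : SchDescent (DiagWith (S := S) Q) := by
  intro V T W a c hf hl hs h
  refine MorphismProperty.relative.of_exists fun T₀ g => ?_
  have hΔ := representable_diagonal V.property a
  have sq₁ := hΔ.isPullback g
  refine ⟨_, _, _, sq₁, ?_⟩
  obtain ⟨t, ht⟩ := (yon S).map_surjective (g ≫ pullback.fst a a ≫ a)
  obtain ⟨_, _, _⟩ := fls_pullback_fst t c hf hl hs
  refine of_covering _ (mem_J_of_flat_lfp_surjective (pullback.fst t c)
    (R := Sieve.generate (Presieve.singleton (pullback.fst t c))) (Sieve.le_generate _ _ _ (Presieve.singleton_self _))) ?_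
  rintro T' u ⟨_, k, _, ⟨⟩, rfl⟩
  have sq := IsPullback.of_hasPullback a ((yon S).map c)
  have sqd := isPullback_diagonal_map sq
  let p := (yon S).map (pullback.fst t c)
  let q := (yon S).map (pullback.snd t c)
  have e₀ : p ≫ g ≫ pullback.fst a a ≫ a = q ≫ (yon S).map c := by
    rw [← ht, ← Functor.map_comp, pullback.condition, Functor.map_comp]
  obtain ⟨x₁, h₁, h₁'⟩ := sq.exists_lift (p ≫ g ≫ pullback.fst a a) q (by simpa using e₀)
  obtain ⟨x₂, h₂, h₂'⟩ := sq.exists_lift (p ≫ g ≫ pullback.snd a a) q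
    (by simpa [← pullback.condition] using e₀)
  let g' : (yon S).obj (pullback t c) ⟶ pullback (pullback.snd a ((yon S).map c)) (pullback.snd a ((yon S).map c)) :=
    pullback.lift x₁ x₂ (h₁'.trans h₂'.symm)
  have hg : g' ≫ pullback.map _ _ a a (pullback.fst a ((yon S).map c)) (pullback.fst a ((yon S).map c))
      ((yon S).map c) sq.w.symm sq.w.symm = p ≫ g := by
    apply pullback.hom_ext
    · rw [Category.assoc, pullback.lift_fst, pullback.lift_fst_assoc, Category.assoc]
      exact h₁
    · rw [Category.assoc, pullback.lift_snd, pullback.lift_snd_assoc, Category.assoc]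
      exact h₂
  have sqk : IsPullback ((yon S).map (pullback.fst (hΔ.snd g) (k ≫ pullback.fst t c)) ≫ hΔ.fst g)
      ((yon S).map (pullback.snd (hΔ.snd g) (k ≫ pullback.fst t c))) (pullback.diagonal a)
      ((yon S).map k ≫ g' ≫ pullback.map _ _ a a (pullback.fst a ((yon S).map c)) (pullback.fst a ((yon S).map c))
        ((yon S).map c) sq.w.symm sq.w.symm) := by
    rw [hg, ← Category.assoc, ← Functor.map_comp]
    exact ((IsPullback.of_hasPullback _ _).map (yon S)).paste_horiz sq₁
  obtain ⟨l, hll, hl'⟩ := sqd.exists_lift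
    ((yon S).map (pullback.fst (hΔ.snd g) (k ≫ pullback.fst t c)) ≫ hΔ.fst g) (((yon S).map (pullback.snd (hΔ.snd g) (k ≫ pullback.fst t c))) ≫
    (yon S).map k ≫ g') (by simpa using sqk.w)
  have sq₂ : IsPullback l ((yon S).map (pullback.snd (hΔ.snd g) (k ≫ pullback.fst t c)))
      (pullback.diagonal (pullback.snd a ((yon S).map c))) ((yon S).map k ≫ g') :=
    IsPullback.of_right (by rw [hll, Category.assoc]; exact sqk) hl' sqd
  exact (repWith_yon_map_iff Q _).1 (RepWith.baseChange sq₂ h)

theorem schDescent_qcMor : SchDescent (IsQuasiCompactMor (S := S)) := by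
  intro V T W a c hf hl hs h
  refine schemeTested_qcMor (Z := ⟨_, IsAlgSpace.yon_obj T⟩) a fun T₀ p => ?_
  obtain ⟨t, rfl⟩ := (yon S).map_surjective p
  intro Z Z' hZ hqc g fst snd sq
  obtain ⟨U, q, hqe, hqs, hU⟩ := hqc
  have := hU
  obtain ⟨v, hv⟩ := (yon S).map_surjective (q ≫ g)
  have hsq := sq.paste_horiz (IsPullback.of_hasPullback a ((yon S).map t))
  have hZ' : IsAlgSpace Z' := isAlgSpace_of_isPullback (IsAlgSpace.yon_obj T).diag V.property hZ hsq
  refine (isQuasiCompactSp_iff_compactSpace hZ').2 ?_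
  let π := pullback.fst (v ≫ t) c
  obtain ⟨_, _, _⟩ := fls_pullback_fst (v ≫ t) c hf hl hs
  obtain ⟨σ, hσ⟩ := isCompact_univ.elim_finite_subcover
    (fun i : (pullback (v ≫ t) c).left.affineOpens => π.left '' (i.1 : Set _))
    (fun i => π.left.isOpenMap _ i.1.2) (fun x _ => by
      obtain ⟨w, rfl⟩ := π.left.surjective x
      obtain ⟨_, ⟨O, hO, rfl⟩, hu, -⟩ :=
        (pullback (v ≫ t) c).left.isBasis_affineOpens.exists_subset_of_mem_open (Set.mem_univ w) isOpen_univ
      exact Set.mem_iUnion.2 ⟨⟨O, hO⟩, w, hu, rfl⟩)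
  let U₂ : Over S := Over.mk (Sigma.desc (fun i : σ => i.1.1.ι) ≫ (pullback (v ≫ t) c).hom)
  let j : U₂ ⟶ pullback (v ≫ t) c := Over.homMk (Sigma.desc fun i : σ => i.1.1.ι)
  have : ∀ i : σ, IsAffine i.1.1.toScheme := fun i => i.1.2
  have : IsAffine U₂.left := (inferInstance : IsAffine (∐ fun i : σ => i.1.1.toScheme))
  let r : (yon S).obj U₂ ⟶ (yon S).obj W := (yon S).map (j ≫ pullback.snd (v ≫ t) c)
  let d : (yon S).obj U₂ ⟶ Z := (yon S).map (j ≫ π) ≫ q
  have e : r ≫ (yon S).map c = d ≫ g ≫ (yon S).map t := by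
    simp only [r, d, π, ← Functor.map_comp, Category.assoc, ← pullback.condition]
    simp [← reassoc_of% hv]
  obtain ⟨l, hll, hl'⟩ := (IsPullback.of_hasPullback a ((yon S).map c)).exists_lift
    (pullback.fst snd d ≫ fst ≫ pullback.fst a ((yon S).map t)) (pullback.snd snd d ≫ r) (by
      simp only [Category.assoc, e]
      rw [← pullback.condition_assoc]
      exact congrArg (pullback.fst snd d ≫ ·) (by simpa using hsq.w))
  have sq' : IsPullback l (pullback.snd snd d) (pullback.snd a ((yon S).map c)) r := by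
    refine IsPullback.of_right ?_ hl' (IsPullback.of_hasPullback a ((yon S).map c))
    rw [hll, e]
    exact (IsPullback.of_hasPullback snd d).paste_horiz hsq
  have hc' := compactSpace_points_of_isQuasiCompactSp
    (h (IsAlgSpace.yon_obj U₂) (isQuasiCompactSp_yon U₂) r l (pullback.snd snd d) sq')
  have hs : Function.Surjective (Points.map (pullback.fst snd d)) := by
    refine surjective_map_of_isPullback (IsPullback.of_hasPullback snd d).flip fun z => ?_
    obtain ⟨x, rfl⟩ := surjective_ofPt q hqs z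
    obtain ⟨i, hi, y, hy, rfl⟩ := Set.mem_iUnion₂.1 (hσ (Set.mem_univ x))
    refine ⟨Points.ofScheme U₂ ((Sigma.ι (fun i : σ => i.1.1.toScheme) ⟨i, hi⟩) ⟨y, hy⟩), ?_⟩
    rw [← Points.ofPt_eq_map_ofScheme, ofPt_map]
    congr 1
    show ((Sigma.ι (fun i : σ => i.1.1.toScheme) ⟨i, hi⟩) ≫ Sigma.desc (fun i : σ => i.1.1.ι) ≫ π.left) ⟨y, hy⟩ = _
    rw [Sigma.ι_desc_assoc]
    rfl
  exact ⟨hs.range_eq ▸ isCompact_range (Points.continuous_map _)⟩

theorem schDescent_univClosed : SchDescent (IsUnivClosedMor (S := S)) := by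
  intro V T W a c hf hl hs h
  refine schemeTested_univClosed (Z := ⟨_, IsAlgSpace.yon_obj T⟩) a fun T₀ p => ?_
  obtain ⟨t, rfl⟩ := (yon S).map_surjective p
  intro Z Z' hZ g fst snd sq C hC
  obtain ⟨U, q, hqe, hqs⟩ := hZ.atlas
  obtain ⟨v, hv⟩ := (yon S).map_surjective (q ≫ g)
  let π := pullback.fst (v ≫ t) c
  obtain ⟨_, _, _⟩ := fls_pullback_fst (v ≫ t) c hf hl hs
  have hsq := sq.paste_horiz (IsPullback.of_hasPullback a ((yon S).map t))
  let d : (yon S).obj (pullback (v ≫ t) c) ⟶ Z := (yon S).map π ≫ q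
  let r : (yon S).obj (pullback (v ≫ t) c) ⟶ (yon S).obj W := (yon S).map (pullback.snd (v ≫ t) c)
  have e : r ≫ (yon S).map c = d ≫ g ≫ (yon S).map t := by
    simp only [r, d, π, ← Functor.map_comp, Category.assoc, ← pullback.condition]
    simp [← reassoc_of% hv]
  obtain ⟨l, hll, hl'⟩ := (IsPullback.of_hasPullback a ((yon S).map c)).exists_lift
    (pullback.fst snd d ≫ fst ≫ pullback.fst a ((yon S).map t)) (pullback.snd snd d ≫ r) (by
      simp only [Category.assoc, e]
      rw [← pullback.condition_assoc]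
      exact congrArg (pullback.fst snd d ≫ ·) (by simpa using hsq.w))
  have sq' : IsPullback l (pullback.snd snd d) (pullback.snd a ((yon S).map c)) r := by
    refine IsPullback.of_right ?_ hl' (IsPullback.of_hasPullback a ((yon S).map c))
    rw [hll, e]
    exact (IsPullback.of_hasPullback snd d).paste_horiz hsq
  have hcl := h (IsAlgSpace.yon_obj _) r l (pullback.snd snd d) sq'
    _ (hC.preimage (Points.continuous_map (pullback.fst snd d)))
  refine (isOpenQuotientMap_ofPt q hqe hqs).isQuotientMap.isClosed_preimage.1 ?_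
  have hπ : IsOpenQuotientMap π.left := ⟨π.left.surjective, π.left.continuous, π.left.isOpenMap⟩
  refine hπ.isQuotientMap.isClosed_preimage.1 ?_
  convert hcl.preimage (Points.schemeHomeo (pullback (v ≫ t) c)).continuous using 1
  ext x
  constructor
  · rintro ⟨z, hz, e⟩
    have e' : Points.map snd z = Points.map d (Points.ofScheme _ x) := by
      rw [e, ← Points.ofPt_eq_map_ofScheme, ofPt_map]
    obtain ⟨w, hw, hw'⟩ := exists_point_of_isPullback (IsPullback.of_hasPullback snd d) e'
    exact ⟨w, by rw [Set.mem_preimage, hw]; exact hz, hw'⟩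
  · rintro ⟨w, hw, e⟩
    refine ⟨_, hw, ?_⟩
    rw [← Points.map_comp, pullback.condition, Points.map_comp, e, ← ofPt_map,
      Points.ofPt_eq_map_ofScheme]
    rfl

theorem schDescent_proper : SchDescent (IsProperMor (S := S)) := by
  rw [isProperMor_eq, isFiniteTypeMor_eq]
  exact (schDescent_diagWith @IsClosedImmersion).inf
    (((schDescent_locP etLocal_lft).inf schDescent_qcMor).inf schDescent_univClosed)

theorem schDescent_qcqs : SchDescent (IsQuasiCompactMor ⊓ IsQuasiSeparatedMor : MorphismProperty (Sp S)) := by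
  rw [qcqs_eq]
  exact schDescent_qcMor.inf (schDescent_diagWith @QuasiCompact)

end Groth.Agent.Stk19
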