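import Groth.Agent.Stk19.AlgSt.SepDiag
import Groth.Agent.Stk19.DiagCalc

/-! Fppf locality on the target of properties representable by algebraic spaces. -/

set_option autoImplicit false
set_option backward.isDefEq.respectTransparency false
set_option backward.isDefEq.respectTransparency.types false

universe v₆ u₆ v₅ u₅ v₄ u₄ v₃ u₃ v₂ u₂ u

open CategoryTheory CategoryTheory.Limits AlgebraicGeometry Opposite FibCat Groth.Agent.Desc19

namespace Groth.Agent.Stk19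

variable {S : Scheme.{u}} {P : MorphismProperty (AlgSp.Sp S)}

/-- Descends along flat surjections of schemes locally of finite presentation. -/
def SchDescent (P : MorphismProperty (AlgSp.Sp S)) : Prop :=
  ∀ ⦃V : AlgSp.Space S⦄ ⦃T W : Over S⦄ (a : V.obj ⟶ (AlgSp.yon S).obj T) (c : W ⟶ T),
    Flat c.left → LocallyOfFinitePresentation c.left → Surjective c.left →
      P (pullback.snd a ((AlgSp.yon S).map c)) → P a

theorem SchDescent.inf {Q : MorphismProperty (AlgSp.Sp S)} (h : SchDescent P) (h' : SchDescent Q) :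
    SchDescent (P ⊓ Q) :=
  fun _ _ _ a c i j k hx => ⟨h a c i j k hx.1, h' a c i j k hx.2⟩

theorem schDescent_locP {Q : MorphismProperty Scheme.{u}} (hQ : AlgSpLib.EtLocal Q) :
    SchDescent (AlgSp.LocP (S := S) Q) := fun V _ _ a c _ _ _ h =>
  locP_of_scheme_cover hQ c V.property a (IsPullback.of_hasPullback a ((AlgSp.yon S).map c)) h

theorem locP_flat_yon {T W : Over S} (c : W ⟶ T) [Flat c.left] : AlgSp.LocP @Flat ((AlgSp.yon S).map c) :=
  AlgSpLib.locP_of_repWith AlgSpLib.etLocal_flat (AlgSp.IsAlgSpace.yon_obj W)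
    ((AlgSp.repWith_yon_map_iff _ c).2 inferInstance)

theorem locP_lfp_yon {T W : Over S} (c : W ⟶ T) [LocallyOfFinitePresentation c.left] :
    AlgSp.LocP @LocallyOfFinitePresentation ((AlgSp.yon S).map c) :=
  AlgSpLib.locP_of_repWith AlgSpLib.etLocal_lfp (AlgSp.IsAlgSpace.yon_obj W)
    ((AlgSp.repWith_yon_map_iff _ c).2 inferInstance)

/-- A jointly surjective flat family of schemes is a covering of a representable space. -/
theorem isFppfCover_yon {ι : Type u} {T : Over S} {W : ι → Over S} (c : ∀ i, W i ⟶ T)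
    (hf : ∀ i, Flat (c i).left) (hl : ∀ i, LocallyOfFinitePresentation (c i).left)
    (hs : ∀ t : ↥T.left, ∃ i, t ∈ Set.range (c i).left) :
    AlgSp.IsFppfCover (fun i => (AlgSp.yon S).obj (W i)) (fun i => (AlgSp.yon S).map (c i)) := by
  refine ⟨fun i => ⟨have := hf i; locP_flat_yon (c i), have := hl i; locP_lfp_yon (c i)⟩, fun x => ?_⟩
  obtain ⟨t, rfl⟩ := (AlgSp.Points.schemeEquiv T).surjective x
  obtain ⟨i, w, rfl⟩ := hs t
  exact ⟨i, _, AlgSpLib.map_yon_map_ofScheme (c i) w⟩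

theorem of_local_family (hP : AlgSp.IsLocalOnBase AlgSp.IsFppfCover P) {ι : Type u} {T : Over S}
    {W : ι → Over S} (c : ∀ i, W i ⟶ T) (hf : ∀ i, Flat (c i).left)
    (hl : ∀ i, LocallyOfFinitePresentation (c i).left)
    (hs : ∀ t : ↥T.left, ∃ i, t ∈ Set.range (c i).left) {V : AlgSp.Space S}
    (a : V.obj ⟶ (AlgSp.yon S).obj T) (h : ∀ i, P (pullback.snd a ((AlgSp.yon S).map (c i)))) : P a :=
  (hP (fun i => (AlgSp.yon S).obj (W i)) (fun i => (AlgSp.yon S).map (c i)) (AlgSp.IsAlgSpace.yon_obj T)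
    (fun i => AlgSp.IsAlgSpace.yon_obj (W i)) (isFppfCover_yon c hf hl hs) a V.property _ _
    (fun i => pullback.fst a ((AlgSp.yon S).map (c i)))
    (fun i => isAlgSpace_pullback_yon (Z := ⟨_, AlgSp.IsAlgSpace.yon_obj T⟩) a ((AlgSp.yon S).map (c i)))
    (fun i => IsPullback.of_hasPullback a ((AlgSp.yon S).map (c i)))).2 h

theorem schDescent_of_local (hP : AlgSp.IsLocalOnBase AlgSp.IsFppfCover P) : SchDescent P :=
  fun _ _ _ a c hf hl hs h =>
    of_local_family hP (fun _ : PUnit.{u + 1} => c) (fun _ => hf) (fun _ => hl)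
      (fun t => ⟨PUnit.unit, hs.surj t⟩) a fun _ => h

section Lifts

variable {𝒳 : BasedCategory.{v₂, u₂} (Over S)} {𝒴 : BasedCategory.{v₃, u₃} (Over S)}
  {𝒵 : BasedCategory.{v₄, u₄} (Over S)}

/-- A representation of a base change over a sheaf gives a point of the other factor. -/
theorem key' {T W : Over S} {u : 𝒵 ⥤ᵇ 𝒴} {x : overCat T ⥤ᵇ 𝒴} {F : AlgSp.Sp S}
    (e : AlgSt.ofSp F ⥤ᵇ fp x u) (l : (AlgSp.yon S).obj W ⟶ F) {c : W ⟶ T}
    (hl : (AlgSp.yon S).map c = l ≫ AlgSt.spMapOfOver (BasedFunctor.comp e (fpFst x u))) :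
    ∃ z : overCat W ⥤ᵇ 𝒵, Nonempty (BasedFunctor.comp z u ≅ BasedFunctor.comp (AlgSt.overMap c) x) := by
  obtain ⟨i⟩ := spMapOfOver_iso (BasedFunctor.comp e (fpFst x u))
  let p := BasedFunctor.comp (BasedFunctor.comp (AlgSt.ofOverCat W) (AlgSt.ofSpMap l)) e
  refine ⟨BasedFunctor.comp p (fpSnd x u), ⟨(Stk.restr p _).mapIso (fpIso x u).symm ≪≫
    (postB _ x).mapIso ((Stk.restr (BasedFunctor.comp (AlgSt.ofOverCat W) (AlgSt.ofSpMap l)) _).mapIso i) ≪≫
      eqToIso ?_⟩⟩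
  show BasedFunctor.comp (BasedFunctor.comp (AlgSt.ofOverCat W) (AlgSt.ofSpMap l))
      (BasedFunctor.comp (BasedFunctor.comp (AlgSt.ofSpMap (AlgSt.spMapOfOver (BasedFunctor.comp e (fpFst x u))))
        (AlgSt.toOverCat T)) x) = _
  rw [show BasedFunctor.comp (AlgSt.overMap c) x =
      BasedFunctor.comp (BasedFunctor.comp (AlgSt.ofOverCat W) (AlgSt.ofSpMap ((AlgSp.yon S).map c)))
        (BasedFunctor.comp (AlgSt.toOverCat T) x) from rfl, hl]
  rfl

/-- Points lift along a flat surjection after a scheme covering. -/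
theorem exists_lift_of_cover {u : 𝒵 ⥤ᵇ 𝒴} (h₁ : AlgSt.RepByAlgSpWith (AlgSp.LocP @Flat) u)
    (h₂ : AlgSt.RepByAlgSpWith (AlgSp.LocP @LocallyOfFinitePresentation) u)
    (h₃ : AlgSt.RepByAlgSpWith AlgSp.IsSurjectiveMor u) (T : Over S) (x : overCat T ⥤ᵇ 𝒴) :
    ∃ (W : Over S) (c : W ⟶ T), Flat c.left ∧ LocallyOfFinitePresentation c.left ∧ Surjective c.left ∧
      ∃ z : overCat W ⥤ᵇ 𝒵, Nonempty (BasedFunctor.comp z u ≅ BasedFunctor.comp (AlgSt.overMap c) x) := by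
  obtain ⟨F, e, he, hA⟩ := repByAlgSpWith_and respSrc_surjective
    (repByAlgSpWith_and (respSrc_locP AlgSpLib.etLocal_lfp) h₁ h₂) h₃ T x
  set a := AlgSt.spMapOfOver (BasedFunctor.comp e (fpFst x u))
  obtain ⟨W, w, hwe, hws⟩ := F.property.atlas
  obtain ⟨c, hc⟩ := (AlgSp.yon S).map_surjective (w ≫ a)
  have hW := AlgSp.IsAlgSpace.yon_obj W
  have hT := AlgSp.IsAlgSpace.yon_obj T
  have k₁ : AlgSp.LocP @Flat ((AlgSp.yon S).map c) := by
    rw [hc]
    exact AlgSpLib.locP_comp AlgSpLib.etLocal_flat hW F.property hT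
      (AlgSpLib.locP_of_repWith AlgSpLib.etLocal_flat hW (AlgSpLib.RepWith.mono AlgSpLib.etale_le_flat hwe)) hA.1.1
  have k₂ : AlgSp.LocP @LocallyOfFinitePresentation ((AlgSp.yon S).map c) := by
    rw [hc]
    exact AlgSpLib.locP_comp AlgSpLib.etLocal_lfp hW F.property hT
      (AlgSpLib.locP_of_repWith AlgSpLib.etLocal_lfp hW (AlgSpLib.RepWith.mono AlgSpLib.etale_le_lfp hwe)) hA.1.2
  have k₃ : Function.Surjective (AlgSp.Points.map ((AlgSp.yon S).map c)) := fun x => by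
    obtain ⟨y, rfl⟩ := hA.2 x
    obtain ⟨r, rfl⟩ := AlgSpLib.surjective_map_of_repWith hws y
    exact ⟨r, by rw [hc, AlgSp.Points.map_comp]⟩
  exact ⟨W, c, AlgSp.locP_yon_map k₁, AlgSp.locP_yon_map k₂, (AlgSpLib.surjective_map_yon_map_iff c).1 k₃,
    key' e w hc⟩

variable (f : 𝒳 ⥤ᵇ 𝒴)

/-- Every family of pairs lifts to the relative square of a base change through which its image factors. -/
theorem exists_bcPair_lift' {𝒰 : BasedCategory.{v₅, u₅} (Over S)} (g : 𝒵 ⥤ᵇ 𝒴) (y : 𝒰 ⥤ᵇ fp f f)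
    (z : 𝒰 ⥤ᵇ 𝒵) (i : BasedFunctor.comp z g ≅ BasedFunctor.comp (BasedFunctor.comp y (fpFst f f)) f) :
    ∃ y' : 𝒰 ⥤ᵇ fp (fpFst g f) (fpFst g f), Nonempty (BasedFunctor.comp y' (bcPair g f) ≅ y) := by
  let a₁ : 𝒰 ⥤ᵇ fp g f := fpLift z (BasedFunctor.comp y (fpFst f f)) i
  let a₂ : 𝒰 ⥤ᵇ fp g f := fpLift z (BasedFunctor.comp y (fpSnd f f))
    (i ≪≫ (Stk.restr y _).mapIso (fpIso f f))
  refine ⟨fpLift a₁ a₂ (Iso.refl z), ⟨isoMk (fun u => fpIsoMk (Iso.refl _) (Iso.refl _) ?_)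
    (fun u => fpIsoMk_vert _ _ _ (IsHomLift.id rfl))
    (fun φ => fp_hom_ext ((Category.comp_id _).trans (Category.id_comp _).symm)
      ((Category.comp_id _).trans (Category.id_comp _).symm))⟩⟩
  show f.map (𝟙 _) ≫ (y.obj u).obj.iso.hom =
    (i.inv.toNatTrans.app u ≫ g.map (𝟙 (z.obj u)) ≫ (i.hom.toNatTrans.app u ≫ (y.obj u).obj.iso.hom)) ≫ f.map (𝟙 _)
  rw [g.toFunctor.map_id, CategoryTheory.Functor.map_id, CategoryTheory.Functor.map_id]
  simp only [Category.id_comp, Category.comp_id]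
  exact ((congrArg (i.inv.toNatTrans.app u ≫ ·) (Category.id_comp _)).trans ((Category.assoc _ _ _).symm.trans
    ((congrArg (· ≫ (y.obj u).obj.iso.hom) (appIso i u).inv_hom_id).trans (Category.id_comp _)))).symm

end Lifts

variable {𝒳 𝒴 𝒵 : AlgSt.Cat S}

/-- A property holds once it holds after base change along `g`, given descent along the lifts to `g`. -/
theorem with_of_lifts (hR : RespSrc P) {f : 𝒳 ⥤ᵇ 𝒴} (hf : AlgSt.RepByAlgSp1 f) (g : 𝒵 ⥤ᵇ 𝒴)
    (hloc : ∀ (U : Over S) (y : overCat U ⥤ᵇ 𝒴) (V : AlgSp.Space S) (a : V.obj ⟶ (AlgSp.yon S).obj U),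
      (∀ (W : Over S) (c : W ⟶ U) (z : overCat W ⥤ᵇ 𝒵),
        (BasedFunctor.comp z g ≅ BasedFunctor.comp (AlgSt.overMap c) y) → P (pullback.snd a ((AlgSp.yon S).map c))) →
      P a)
    (h : AlgSt.RepByAlgSpWith P (fpFst g f)) : AlgSt.RepByAlgSpWith P f := fun U y => by
  obtain ⟨F, e, he⟩ := hf U y
  have := id_full 𝒴
  have := id_faithful 𝒴
  let y' := BasedFunctor.comp (AlgSt.toOverCat U) y
  let E' : fp y f ⥤ᵇ fp y' f :=
    fpMap (F' := y') (G' := f) (AlgSt.ofOverCat U) (BasedFunctor.id _) (BasedFunctor.id _)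
      (Iso.refl _) (Iso.refl _)
  have hE' : IsEquivOver E' := isEquivOver_fpMap _ _ _ _ _ (isEquivOver_ofOverCat U) (isEquivOver_id _)
  obtain ⟨j⟩ := spHom_iso (BasedFunctor.comp (BasedFunctor.comp e (fpFst y f)) (AlgSt.ofOverCat U))
  refine ⟨F, e, he, hloc U y F _ fun W c z i => ?_⟩
  set a := AlgSt.spMapOfOver (BasedFunctor.comp e (fpFst y f))
  obtain ⟨E, hE, hEf, -⟩ := exists_congr (F := BasedFunctor.comp z g) (G := f) i (Iso.refl _)
  have hW := witness_transfer (isEquivOver_comp (isEquivOver_fpPaste z g f) hE)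
    (q' := fpFst (BasedFunctor.comp (AlgSt.overMap c) y) f)
    (eqToIso (show BasedFunctor.comp (fpPaste z g f) (BasedFunctor.comp E (fpFst _ f)) = _ by
      rw [hEf, fpPaste_fst])) (h W z)
  exact prop_of_chart hR (isAlgSpace_pullback_yon (Z := ⟨_, AlgSp.IsAlgSpace.yon_obj U⟩) a ((AlgSp.yon S).map c))
    y' (e := BasedFunctor.comp e E') (isEquivOver_comp he hE') (a := a) j
    (IsPullback.of_hasPullback a ((AlgSp.yon S).map c)) (y := BasedFunctor.comp (AlgSt.overMap c) y) (Iso.refl _) hW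

/-- A property descends along a base change by a flat surjection. -/
theorem with_of_cover (hR : RespSrc P) (hD : SchDescent P) {f : 𝒳 ⥤ᵇ 𝒴} (hf : AlgSt.RepByAlgSp1 f)
    {g : 𝒵 ⥤ᵇ 𝒴} (h₁ : AlgSt.RepByAlgSpWith (AlgSp.LocP @Flat) g)
    (h₂ : AlgSt.RepByAlgSpWith (AlgSp.LocP @LocallyOfFinitePresentation) g)
    (h₃ : AlgSt.RepByAlgSpWith AlgSp.IsSurjectiveMor g)
    (h : AlgSt.RepByAlgSpWith P (fpFst g f)) : AlgSt.RepByAlgSpWith P f :=
  with_of_lifts hR hf g (fun U y V a hlift => by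
    obtain ⟨W, c, hc₁, hc₂, hc₃, z, ⟨i⟩⟩ := exists_lift_of_cover h₁ h₂ h₃ U y
    exact hD a c hc₁ hc₂ hc₃ (hlift W c z i)) h

/-- A property of the diagonal descends along a base change by a flat surjection. -/
theorem diag_of_cover (hR : RespSrc P) (hD : SchDescent P) {f : 𝒳 ⥤ᵇ 𝒴}
    (hf : AlgSt.RepByAlgSp1 (FibCat.diag f))
    {g : 𝒵 ⥤ᵇ 𝒴} (h₁ : AlgSt.RepByAlgSpWith (AlgSp.LocP @Flat) g)
    (h₂ : AlgSt.RepByAlgSpWith (AlgSp.LocP @LocallyOfFinitePresentation) g)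
    (h₃ : AlgSt.RepByAlgSpWith AlgSp.IsSurjectiveMor g)
    (h : AlgSt.RepByAlgSpWith P (FibCat.diag (fpFst g f))) : AlgSt.RepByAlgSpWith P (FibCat.diag f) :=
  with_of_lifts hR hf (bcPair g f) (fun U y V a hlift => by
    obtain ⟨W, c, hc₁, hc₂, hc₃, z, ⟨i⟩⟩ :=
      exists_lift_of_cover h₁ h₂ h₃ U (BasedFunctor.comp (BasedFunctor.comp y (fpFst f f)) f)
    obtain ⟨y', ⟨j⟩⟩ := exists_bcPair_lift' f g (BasedFunctor.comp (AlgSt.overMap c) y) z i
    exact hD a c hc₁ hc₂ hc₃ (hlift W c y' j))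
    ((repByAlgSpWith_iff_of_square (f' := FibCat.diag (fpFst g f)) (f := fpFst (bcPair g f) (FibCat.diag f))
      (a := diagBaseChange g f) (b := BasedFunctor.id _) (isEquivOver_diagBaseChange g f) (isEquivOver_id _)
      (Iso.refl _)).1 h)

/-- A covering sieve contains a jointly surjective family indexed by the points. -/
theorem exists_family_of_mem {U : Over S} {R : Sieve U} (hR : R ∈ AlgSp.J S U) :
    ∃ (W : ↥U.left → Over S) (c : ∀ t, W t ⟶ U), (∀ t, R (c t)) ∧ (∀ t, Flat (c t).left) ∧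
      (∀ t, LocallyOfFinitePresentation (c t).left) ∧ ∀ t, ∃ s, t ∈ Set.range (c s).left := by
  obtain ⟨R', hR', hle⟩ := AlgSpLib.exists_precoverage_of_mem hR
  obtain ⟨ι, Z, φ, rfl⟩ := Presieve.exists_eq_ofArrows R'
  obtain ⟨hs, hp⟩ := Scheme.ofArrows_mem_precoverage_iff _ |>.1 hR'
  choose k hk using hs
  exact ⟨fun t => Over.mk (φ (k t) ≫ U.hom), fun t => Over.homMk (φ (k t)), fun t => hle _ (Presieve.ofArrows.mk (k t)),
    fun t => (hp (k t)).1, fun t => (hp (k t)).2, fun t => ⟨t, hk t⟩⟩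

end Groth.Agent.Stk19
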