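import Groth.Agent.Stk19.AlgSt.Over
import Groth.Agent.AlgSpLib.EtLocalInst
import Groth.Prelude.Def_AlgSpCov

/-! Properties of morphisms representable by algebraic spaces: behaviour over algebraic spaces, composition. -/

set_option autoImplicit false
set_option backward.isDefEq.respectTransparency false
set_option backward.isDefEq.respectTransparency.types false

universe u

open CategoryTheory CategoryTheory.Limits AlgebraicGeometry Opposite FibCat Groth.Agent.Desc19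

namespace Groth.Agent.Stk19

variable {S : Scheme.{u}} {P : MorphismProperty (AlgSp.Sp S)}

/-- An etale surjection from a scheme is an fppf covering. -/
theorem isFppfCover_of_etale {W : Over S} {Z : AlgSp.Sp S} {p : (AlgSp.yon S).obj W ⟶ Z}
    (he : AlgSp.RepWith @Etale p) (hs : AlgSp.RepWith @Surjective p) :
    AlgSp.IsFppfCover (fun _ : PUnit.{u + 1} => (AlgSp.yon S).obj W) (fun _ => p) :=
  ⟨fun _ => ⟨AlgSpLib.locP_of_repWith AlgSpLib.etLocal_flat (AlgSp.IsAlgSpace.yon_obj W)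
      (AlgSpLib.RepWith.mono AlgSpLib.etale_le_flat he),
    AlgSpLib.locP_of_repWith AlgSpLib.etLocal_lfp (AlgSp.IsAlgSpace.yon_obj W)
      (AlgSpLib.RepWith.mono AlgSpLib.etale_le_lfp he)⟩,
    fun x => ⟨PUnit.unit, AlgSpLib.surjective_map_of_repWith hs x⟩⟩

/-- An etale surjection from a scheme is an etale covering. -/
theorem isEtCover_of_etale {W : Over S} {Z : AlgSp.Sp S} {p : (AlgSp.yon S).obj W ⟶ Z}
    (he : AlgSp.RepWith @Etale p) (hs : AlgSp.RepWith @Surjective p) :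
    AlgSp.IsEtCover (fun _ : PUnit.{u + 1} => (AlgSp.yon S).obj W) (fun _ => p) :=
  ⟨fun _ _ _ hφ => AlgSpLib.RepWith.comp hφ he, fun x => ⟨PUnit.unit, AlgSpLib.surjective_map_of_repWith hs x⟩⟩

/-- Covering notions containing the etale atlases. -/
def HasAtlasCovers (τ : AlgSp.CovNotion S) : Prop :=
  ∀ ⦃W : Over S⦄ ⦃Z : AlgSp.Sp S⦄ (p : (AlgSp.yon S).obj W ⟶ Z), AlgSp.RepWith @Etale p →
    AlgSp.RepWith @Surjective p → τ (fun _ : PUnit.{u + 1} => (AlgSp.yon S).obj W) (fun _ => p)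

theorem hasAtlasCovers_fppf : HasAtlasCovers (AlgSp.IsFppfCover (S := S)) := fun _ _ _ => isFppfCover_of_etale

theorem hasAtlasCovers_et : HasAtlasCovers (AlgSp.IsEtCover (S := S)) := fun _ _ _ => isEtCover_of_etale

variable {𝒳 𝒴 𝒵 : AlgSt.Cat S}

/-- A representation over a sheaf, pulled back to a scheme. -/
theorem exists_chart_rep {f : 𝒳 ⥤ᵇ 𝒴} {V Z Q : AlgSp.Sp S} {W : Over S}
    (z : AlgSt.ofSp Z ⥤ᵇ 𝒴) {e : AlgSt.ofSp V ⥤ᵇ fp z f} (he : IsEquivOver e)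
    {a : V ⟶ Z} (i : BasedFunctor.comp e (fpFst z f) ≅ AlgSt.ofSpMap a) {p : (AlgSp.yon S).obj W ⟶ Z}
    {fst : Q ⟶ V} {snd : Q ⟶ (AlgSp.yon S).obj W} (sq : IsPullback fst snd a p)
    {y : overCat W ⥤ᵇ 𝒴} (j : y ≅ BasedFunctor.comp (BasedFunctor.comp (AlgSt.ofOverCat W) (AlgSt.ofSpMap p)) z) :
    ∃ E : AlgSt.ofSp Q ⥤ᵇ fp y f, IsEquivOver E ∧
      AlgSt.spMapOfOver (BasedFunctor.comp E (fpFst y f)) = snd := by
  let p' := BasedFunctor.comp (AlgSt.ofOverCat W) (AlgSt.ofSpMap p)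
  obtain ⟨E₁, h₁, k₁, -⟩ := exists_fp_equiv sq.flip
  obtain ⟨E₂, h₂, k₂⟩ := exists_baseChange_equiv (f := fpFst z f) (f' := AlgSt.ofSpMap a) (a := e)
    (b := BasedFunctor.id (AlgSt.ofSp Z)) he (isEquivOver_id _) i.symm (AlgSt.ofSpMap p)
  have : (BasedFunctor.id (AlgSt.ofSp Z)).toFunctor.Full := id_full _
  have : (BasedFunctor.id (AlgSt.ofSp Z)).toFunctor.Faithful := id_faithful _
  let E₃ : fp (AlgSt.ofSpMap p) (fpFst z f) ⥤ᵇ fp p' (fpFst z f) :=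
    fpMap (F' := p') (G' := fpFst z f) (AlgSt.toOverCat W) (BasedFunctor.id _) (BasedFunctor.id _)
      (Iso.refl _) (Iso.refl _)
  have h₃ : IsEquivOver E₃ := isEquivOver_fpMap _ _ _ _ _ (isEquivOver_toOverCat W) (isEquivOver_id _)
  obtain ⟨E₅, h₅, k₅, -⟩ := exists_congr (F := BasedFunctor.comp p' z) (G := f) j.symm (Iso.refl f)
  let E := BasedFunctor.comp E₁ (BasedFunctor.comp E₂ (BasedFunctor.comp E₃ (BasedFunctor.comp (fpPaste p' z f) E₅)))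
  have hE : IsEquivOver E :=
    isEquivOver_comp h₁ (isEquivOver_comp h₂ (isEquivOver_comp h₃ (isEquivOver_comp (isEquivOver_fpPaste p' z f) h₅)))
  have k : BasedFunctor.comp E (fpFst y f) = BasedFunctor.comp (AlgSt.ofSpMap snd) (AlgSt.toOverCat W) := by
    show BasedFunctor.comp E₁ (BasedFunctor.comp E₂ (BasedFunctor.comp E₃
      (BasedFunctor.comp (fpPaste p' z f) (BasedFunctor.comp E₅ (fpFst y f))))) = _
    rw [k₅, fpPaste_fst, fpMap_fst]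
    show BasedFunctor.comp E₁ (BasedFunctor.comp (BasedFunctor.comp E₂
      (fpFst (BasedFunctor.comp (AlgSt.ofSpMap p) (BasedFunctor.id _)) (fpFst z f))) (AlgSt.toOverCat W)) = _
    rw [k₂]
    show BasedFunctor.comp (BasedFunctor.comp E₁ (fpFst (AlgSt.ofSpMap p) (AlgSt.ofSpMap a))) (AlgSt.toOverCat W) = _
    rw [k₁]
  refine ⟨E, hE, ?_⟩
  rw [k, spMapOfOver_ofSpMap_comp, spMapOfOver_toOverCat, Category.comp_id]

/-- The property of a representation over a sheaf, pulled back to a scheme. -/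
theorem prop_of_chart (hP : RespSrc P) {f : 𝒳 ⥤ᵇ 𝒴} {V Z Q : AlgSp.Sp S} {W : Over S}
    (hQ : AlgSp.IsAlgSpace Q) (z : AlgSt.ofSp Z ⥤ᵇ 𝒴) {e : AlgSt.ofSp V ⥤ᵇ fp z f} (he : IsEquivOver e)
    {a : V ⟶ Z} (i : BasedFunctor.comp e (fpFst z f) ≅ AlgSt.ofSpMap a) {p : (AlgSp.yon S).obj W ⟶ Z}
    {fst : Q ⟶ V} {snd : Q ⟶ (AlgSp.yon S).obj W} (sq : IsPullback fst snd a p)
    {y : overCat W ⥤ᵇ 𝒴} (j : y ≅ BasedFunctor.comp (BasedFunctor.comp (AlgSt.ofOverCat W) (AlgSt.ofSpMap p)) z)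
    (h : ∃ (F : AlgSp.Space S) (e' : AlgSt.ofSp F.obj ⥤ᵇ fp y f), IsEquivOver e' ∧
      P (AlgSt.spMapOfOver (BasedFunctor.comp e' (fpFst y f)))) : P snd := by
  obtain ⟨E, hE, k⟩ := exists_chart_rep z he i sq j
  obtain ⟨F', e', he', hp⟩ := h
  exact k ▸ repWith_any hP he' hp (F' := ⟨Q, hQ⟩) E hE

/-- A functor representable by algebraic spaces, restricted to an algebraic space. -/
theorem exists_rep_map (h𝒳 : IsFibGrpd 𝒳.p) (h𝒴 : IsFibGrpd 𝒴.p) {f : 𝒳 ⥤ᵇ 𝒴} (hf : AlgSt.RepByAlgSp1 f)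
    (Z : AlgSp.Space S) (z : AlgSt.ofSp Z.obj ⥤ᵇ 𝒴) :
    ∃ (V : AlgSp.Space S) (a : V ⟶ Z) (e : AlgSt.ofSp V.obj ⥤ᵇ fp z f),
      IsEquivOver e ∧ Nonempty (BasedFunctor.comp e (fpFst z f) ≅ AlgSt.ofSpMap a.hom) := by
  obtain ⟨V, e, he⟩ := repByAlgSp_fp_of_rep1 f z h𝒳 h𝒴 (repByAlgSp_ofSp Z) hf
  exact ⟨V, ObjectProperty.homMk (spHom (BasedFunctor.comp e (fpFst z f))), e, he, spHom_iso _⟩

/-- The property descends along etale atlases from schemes. -/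
def AtlasDescent (P : MorphismProperty (AlgSp.Sp S)) : Prop :=
  ∀ ⦃V Z : AlgSp.Space S⦄ (a : V.obj ⟶ Z.obj) ⦃W : Over S⦄ (p : (AlgSp.yon S).obj W ⟶ Z.obj),
    AlgSp.RepWith @Etale p → AlgSp.RepWith @Surjective p → P (pullback.snd a p) → P a

theorem atlasDescent_of_local {τ : AlgSp.CovNotion S} (hτ : HasAtlasCovers τ) (hP : AlgSp.IsLocalOnBase τ P) :
    AtlasDescent P := fun V Z a W p hpe hps h =>
  (hP (fun _ : PUnit.{u + 1} => (AlgSp.yon S).obj W) (fun _ => p) Z.property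
    (fun _ => AlgSp.IsAlgSpace.yon_obj W) (hτ p hpe hps) a V.property (fun _ => pullback a p)
    (fun _ => pullback.snd a p) (fun _ => pullback.fst a p)
    (fun _ => AlgSpLib.isAlgSpace_pullback (Y := ⟨_, AlgSp.IsAlgSpace.yon_obj W⟩) a p)
    (fun _ => IsPullback.of_hasPullback a p)).2 fun _ => h

/-- A property descending along atlases is inherited by base changes to algebraic spaces. -/
theorem rep_prop_desc (hR : RespSrc P) (hD : AtlasDescent P)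
    {f : 𝒳 ⥤ᵇ 𝒴} (hf : AlgSt.RepByAlgSpWith P f) {V Z : AlgSp.Space S} (z : AlgSt.ofSp Z.obj ⥤ᵇ 𝒴)
    {e : AlgSt.ofSp V.obj ⥤ᵇ fp z f} (he : IsEquivOver e) {a : V.obj ⟶ Z.obj}
    (i : BasedFunctor.comp e (fpFst z f) ≅ AlgSt.ofSpMap a) : P a := by
  obtain ⟨W, p, hpe, hps⟩ := Z.property.atlas
  exact hD a p hpe hps (prop_of_chart hR (AlgSpLib.isAlgSpace_pullback (Y := ⟨_, AlgSp.IsAlgSpace.yon_obj W⟩) a p)
    z he i (IsPullback.of_hasPullback a p) (Iso.refl _) (hf W _))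

/-- A property local on the base is inherited by base changes to algebraic spaces. -/
theorem rep_prop {τ : AlgSp.CovNotion S} (hτ : HasAtlasCovers τ) (hR : RespSrc P) (hP : AlgSp.IsLocalOnBase τ P)
    {f : 𝒳 ⥤ᵇ 𝒴} (hf : AlgSt.RepByAlgSpWith P f) {V Z : AlgSp.Space S} (z : AlgSt.ofSp Z.obj ⥤ᵇ 𝒴)
    {e : AlgSt.ofSp V.obj ⥤ᵇ fp z f} (he : IsEquivOver e) {a : V.obj ⟶ Z.obj}
    (i : BasedFunctor.comp e (fpFst z f) ≅ AlgSt.ofSpMap a) : P a := by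
  exact rep_prop_desc hR (atlasDescent_of_local hτ hP) hf z he i

/-- Composition of functors representable by algebraic spaces, given the property over algebraic spaces. -/
theorem repByAlgSpWith_comp_core
    (hPc : ∀ ⦃X Y Z : AlgSp.Sp S⦄, AlgSp.IsAlgSpace X → AlgSp.IsAlgSpace Y → AlgSp.IsAlgSpace Z →
      ∀ (a : X ⟶ Y) (b : Y ⟶ Z), P a → P b → P (a ≫ b))
    (h𝒳 : IsFibGrpd 𝒳.p) (h𝒴 : IsFibGrpd 𝒴.p) {f : 𝒳 ⥤ᵇ 𝒴} {g : 𝒴 ⥤ᵇ 𝒵}
    (hf : AlgSt.RepByAlgSp1 f) (hg : AlgSt.RepByAlgSpWith P g)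
    (hkey : ∀ {U : Over S} {V W : AlgSp.Space S} (z : AlgSt.ofSp W.obj ⥤ᵇ 𝒴) (b : W.obj ⟶ (AlgSp.yon S).obj U)
      (e : AlgSt.ofSp V.obj ⥤ᵇ fp z f) (a : V.obj ⟶ W.obj), P b → IsEquivOver e →
      (BasedFunctor.comp e (fpFst z f) ≅ AlgSt.ofSpMap a) → P a) :
    AlgSt.RepByAlgSpWith P (BasedFunctor.comp f g) := fun U y => by
  obtain ⟨W, eW, heW, hb⟩ := hg U y
  let z := BasedFunctor.comp eW (fpSnd y g)
  obtain ⟨V, a, e, he, ⟨i⟩⟩ := exists_rep_map h𝒳 h𝒴 hf W z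
  have ha : P a.hom := hkey z _ e a.hom hb he i
  have : (BasedFunctor.id 𝒴).toFunctor.Full := id_full _
  have : (BasedFunctor.id 𝒴).toFunctor.Faithful := id_faithful _
  let E : fp z f ⥤ᵇ fp (fpSnd y g) f :=
    fpMap (F' := fpSnd y g) (G' := f) eW (BasedFunctor.id _) (BasedFunctor.id _) (Iso.refl _) (Iso.refl _)
  have hE : IsEquivOver E := isEquivOver_fpMap _ _ _ _ _ heW (isEquivOver_id _)
  refine ⟨V, BasedFunctor.comp e (BasedFunctor.comp E (fpCompFactor y f g)),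
    isEquivOver_comp he (isEquivOver_comp hE (isEquivOver_fpCompFactor y f g)), ?_⟩
  have k : BasedFunctor.comp (BasedFunctor.comp e (BasedFunctor.comp E (fpCompFactor y f g)))
      (fpFst y (BasedFunctor.comp f g)) =
      BasedFunctor.comp (BasedFunctor.comp e (fpFst z f)) (BasedFunctor.comp eW (fpFst y g)) := rfl
  have k' : AlgSt.spMapOfOver (BasedFunctor.comp (BasedFunctor.comp e (fpFst z f))
      (BasedFunctor.comp eW (fpFst y g))) = a.hom ≫ AlgSt.spMapOfOver (BasedFunctor.comp eW (fpFst y g)) := by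
    rw [spMapOfOver_comp, spHom_congr i.hom, spHom_ofSpMap]
  rw [k, k']
  exact hPc V.property W.property (AlgSp.IsAlgSpace.yon_obj U) _ _ ha hb

/-- Composition of functors representable by algebraic spaces with a property. -/
theorem repByAlgSpWith_comp_desc (hR : RespSrc P) (hD : AtlasDescent P)
    (hPc : ∀ ⦃X Y Z : AlgSp.Sp S⦄, AlgSp.IsAlgSpace X → AlgSp.IsAlgSpace Y → AlgSp.IsAlgSpace Z →
      ∀ (a : X ⟶ Y) (b : Y ⟶ Z), P a → P b → P (a ≫ b))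
    (h𝒳 : IsFibGrpd 𝒳.p) (h𝒴 : IsFibGrpd 𝒴.p) {f : 𝒳 ⥤ᵇ 𝒴} {g : 𝒴 ⥤ᵇ 𝒵}
    (hf : AlgSt.RepByAlgSpWith P f) (hg : AlgSt.RepByAlgSpWith P g) :
    AlgSt.RepByAlgSpWith P (BasedFunctor.comp f g) :=
  repByAlgSpWith_comp_core hPc h𝒳 h𝒴 (repByAlgSp1_of_with hf) hg
    fun z _ _ _ _ he i => rep_prop_desc hR hD hf z he i

theorem repByAlgSpWith_comp {τ : AlgSp.CovNotion S} (hτ : HasAtlasCovers τ) (hR : RespSrc P)
    (hP : AlgSp.IsLocalOnBase τ P)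
    (hPc : ∀ ⦃X Y Z : AlgSp.Sp S⦄, AlgSp.IsAlgSpace X → AlgSp.IsAlgSpace Y → AlgSp.IsAlgSpace Z →
      ∀ (a : X ⟶ Y) (b : Y ⟶ Z), P a → P b → P (a ≫ b))
    (h𝒳 : IsFibGrpd 𝒳.p) (h𝒴 : IsFibGrpd 𝒴.p) {f : 𝒳 ⥤ᵇ 𝒴} {g : 𝒴 ⥤ᵇ 𝒵}
    (hf : AlgSt.RepByAlgSpWith P f) (hg : AlgSt.RepByAlgSpWith P g) :
    AlgSt.RepByAlgSpWith P (BasedFunctor.comp f g) :=
  repByAlgSpWith_comp_desc hR (atlasDescent_of_local hτ hP) hPc h𝒳 h𝒴 hf hg

/-- Composition for properties of morphisms representable by schemes. -/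
theorem repByAlgSpWith_comp_sch [P.RespectsIso]
    (hS : ∀ ⦃W : AlgSp.Sp S⦄ ⦃U : Over S⦄ (b : W ⟶ (AlgSp.yon S).obj U), AlgSp.IsAlgSpace W → P b →
      ∃ W₀ : Over S, Nonempty ((AlgSp.yon S).obj W₀ ≅ W))
    (hPc : ∀ ⦃X Y Z : AlgSp.Sp S⦄, AlgSp.IsAlgSpace X → AlgSp.IsAlgSpace Y → AlgSp.IsAlgSpace Z →
      ∀ (a : X ⟶ Y) (b : Y ⟶ Z), P a → P b → P (a ≫ b))
    (h𝒳 : IsFibGrpd 𝒳.p) (h𝒴 : IsFibGrpd 𝒴.p) {f : 𝒳 ⥤ᵇ 𝒴} {g : 𝒴 ⥤ᵇ 𝒵}
    (hf : AlgSt.RepByAlgSpWith P f) (hg : AlgSt.RepByAlgSpWith P g) :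
    AlgSt.RepByAlgSpWith P (BasedFunctor.comp f g) :=
  repByAlgSpWith_comp_core hPc h𝒳 h𝒴 (repByAlgSp1_of_with hf) hg fun {U V W} z b e a hb he i => by
    obtain ⟨W₀, ⟨σ⟩⟩ := hS b W.property hb
    have sq : IsPullback (𝟙 V.obj) (a ≫ σ.inv) a σ.hom := IsPullback.of_horiz_isIso ⟨by simp⟩
    have h := prop_of_chart respSrc_of_respectsIso V.property z he i sq (Iso.refl _) (hf W₀ _)
    exact (P.cancel_right_of_respectsIso a σ.inv).1 h

/-- Properties representable by schemes. -/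
theorem scheme_of_repWith {Q : MorphismProperty Scheme.{u}} ⦃W : AlgSp.Sp S⦄ ⦃U : Over S⦄
    (b : W ⟶ (AlgSp.yon S).obj U) (h : AlgSp.RepWith Q b) : ∃ W₀ : Over S, Nonempty ((AlgSp.yon S).obj W₀ ≅ W) := by
  have sq := h.1.isPullback (𝟙 ((AlgSp.yon S).obj U))
  have := sq.isIso_fst_of_isIso
  exact ⟨_, ⟨asIso (h.1.fst (𝟙 ((AlgSp.yon S).obj U)))⟩⟩

theorem repWith_comp' {Q : MorphismProperty Scheme.{u}} [Q.IsStableUnderComposition] ⦃X Y Z : AlgSp.Sp S⦄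
    (_ : AlgSp.IsAlgSpace X) (_ : AlgSp.IsAlgSpace Y) (_ : AlgSp.IsAlgSpace Z) (a : X ⟶ Y) (b : Y ⟶ Z)
    (ha : AlgSp.RepWith Q a) (hb : AlgSp.RepWith Q b) : AlgSp.RepWith Q (a ≫ b) :=
  AlgSpLib.RepWith.comp ha hb

theorem atlasDescent_mono : AtlasDescent (MorphismProperty.monomorphisms (AlgSp.Sp S)) := fun V Z a W p hpe hps h => by
  have : Mono (pullback.snd a p) := h
  refine ⟨fun {T} g₁ g₂ e => ?_⟩
  have sq := IsPullback.of_hasPullback (g₁ ≫ a) p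
  have hl : Sheaf.IsLocallySurjective (pullback.fst (g₁ ≫ a) p) :=
    AlgSpLib.isLocallySurjective_of_etale (AlgSpLib.RepWith.baseChange sq.flip hpe)
      (AlgSpLib.RepWith.baseChange sq.flip hps)
  rw [← cancel_epi (pullback.fst (g₁ ≫ a) p)]
  have h1 : (pullback.fst (g₁ ≫ a) p ≫ g₁) ≫ a = pullback.snd (g₁ ≫ a) p ≫ p := by
    rw [Category.assoc, pullback.condition]
  have h2 : (pullback.fst (g₁ ≫ a) p ≫ g₂) ≫ a = pullback.snd (g₁ ≫ a) p ≫ p := by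
    rw [Category.assoc, ← e, pullback.condition]
  have k : pullback.lift _ _ h1 = pullback.lift _ _ h2 := by
    rw [← cancel_mono (pullback.snd a p)]
    simp
  simpa using congrArg (fun l => l ≫ pullback.fst a p) k

/-- The property over all algebraic spaces gives the property. -/
theorem repByAlgSpWith_of_spaces {f : 𝒳 ⥤ᵇ 𝒴}
    (h : ∀ (Z : AlgSp.Space S) (z : AlgSt.ofSp Z.obj ⥤ᵇ 𝒴),
      ∃ (V : AlgSp.Space S) (a : V ⟶ Z) (e : AlgSt.ofSp V.obj ⥤ᵇ fp z f),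
        IsEquivOver e ∧ Nonempty (BasedFunctor.comp e (fpFst z f) ≅ AlgSt.ofSpMap a.hom) ∧ P a.hom) :
    AlgSt.RepByAlgSpWith P f := fun U y => by
  obtain ⟨V, a, e, he, ⟨i⟩, ha⟩ := h ⟨_, AlgSp.IsAlgSpace.yon_obj U⟩ (BasedFunctor.comp (AlgSt.toOverCat U) y)
  have : (BasedFunctor.id 𝒴).toFunctor.Full := id_full _
  have : (BasedFunctor.id 𝒴).toFunctor.Faithful := id_faithful _
  let E : fp (BasedFunctor.comp (AlgSt.toOverCat U) y) f ⥤ᵇ fp y f :=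
    fpMap (F' := y) (G' := f) (AlgSt.toOverCat U) (BasedFunctor.id _) (BasedFunctor.id _) (Iso.refl _) (Iso.refl _)
  have hE : IsEquivOver E := isEquivOver_fpMap _ _ _ _ _ (isEquivOver_toOverCat U) (isEquivOver_id _)
  refine ⟨V, BasedFunctor.comp e E, isEquivOver_comp he hE, ?_⟩
  have k : BasedFunctor.comp (BasedFunctor.comp e E) (fpFst y f) =
      BasedFunctor.comp (BasedFunctor.comp e (fpFst (BasedFunctor.comp (AlgSt.toOverCat U) y) f)) (AlgSt.toOverCat U) := rfl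
  rw [k, spMapOfOver_comp, spHom_congr i.hom, spHom_ofSpMap, spMapOfOver_toOverCat, Category.comp_id]
  exact ha

end Groth.Agent.Stk19
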