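import Groth.Agent.Stk19.AlgSt.PointsTop

/-! Quasi-compact morphisms of algebraic stacks. -/

set_option autoImplicit false
set_option backward.isDefEq.respectTransparency false
set_option backward.isDefEq.respectTransparency.types false

universe u

open CategoryTheory CategoryTheory.Limits AlgebraicGeometry Opposite FibCat Groth.Agent.Desc19

namespace Groth.Agent.Stk19

variable {S : Scheme.{u}} {𝒳 𝒴 𝒵 𝒲 : AlgSt.Cat S}

local notation "AS" => AlgSt.IsAlgStack Scheme.fppfPrecoverage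
local notation "QC" => AlgSt.IsQuasiCompactMor Scheme.fppfPrecoverage

theorem isAlgStack_overCat (U : Over S) : AlgSt.IsAlgStack Scheme.fppfPrecoverage (overCat U) :=
  (isDM_of_repByAlgSp (repByAlgSp_overCat U)).1

theorem isQuasiCompact_overCat (U : Over S) [CompactSpace ↥U.left] : AlgSt.IsQuasiCompact (overCat U) := by
  have := compactSpace_points_of_chart (isAlgStack_overCat U) (BasedFunctor.id _) (ofChart_id_bijective U).2
  exact isQuasiCompact_of_compactSpace (isAlgStack_overCat U)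

theorem isQuasiCompact_ofSp (F : AlgSp.Space S) (h : AlgSp.IsQuasiCompactSp F.obj) :
    AlgSt.IsQuasiCompact (AlgSt.ofSp F.obj) := by
  obtain ⟨U, c, hc, -, hU⟩ := exists_sp_chart F
  have := hU h
  have := compactSpace_points_of_chart (isDM_ofSp F).1 c hc
  exact isQuasiCompact_of_compactSpace (isDM_ofSp F).1

theorem isQuasiCompactSp_of_ofSp (F : AlgSp.Space S) (h : AlgSt.IsQuasiCompact (AlgSt.ofSp F.obj)) :
    AlgSp.IsQuasiCompactSp F.obj := by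
  obtain ⟨V, x, hV, -, hs⟩ := h
  have hxs := ofChart_surjective (setoid_ofSp F.obj).1 hs
  obtain ⟨i⟩ := spHom_iso (BasedFunctor.comp (AlgSt.toOverCat V) x)
  refine (AlgSpLib.isQuasiCompactSp_iff_compactSpace F.property).2 ⟨?_⟩
  have hsurj : Function.Surjective (AlgSp.Points.ofPt (spHom (BasedFunctor.comp (AlgSt.toOverCat V) x))) := fun z => by
    obtain ⟨t, ht⟩ := hxs (stPt z)
    refine ⟨t, stPt_bijective.1 ?_⟩
    rw [← ht, AlgSp.Points.ofPt_eq_map_ofScheme, ← map_stPt, ← points_map_congr i, ofChart_eq_map, ofChart_id,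
      ← points_map_comp]
  exact hsurj.range_eq ▸ isCompact_range (AlgSp.Points.continuous_ofPt _)

theorem isSurjective_fpSnd (h𝒳 : IsFibGrpd 𝒳.p) (h𝒴 : IsFibGrpd 𝒴.p) (h𝒵 : IsFibGrpd 𝒵.p)
    (v : 𝒳 ⥤ᵇ 𝒴) (h : 𝒵 ⥤ᵇ 𝒴) (hv : AlgSt.IsSurjective v) : AlgSt.IsSurjective (fpSnd v h) := fun z => by
  obtain ⟨x, hx⟩ := hv (AlgSt.Points.map h z)
  obtain ⟨w, -, hw⟩ := exists_points_fp h𝒵 h𝒴 h𝒳 h v x z hx
  exact ⟨w, hw⟩

/-- A fibre product over a quasi-compact cover is quasi-compact. -/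
theorem qc_fp_of_cover (h𝒴 : AS 𝒴) (h𝒳 : AS 𝒳) (h𝒵 : AS 𝒵) (h𝒲 : AS 𝒲) (v : 𝒲 ⥤ᵇ 𝒵)
    (hv : AlgSt.IsSurjective v) (g : 𝒵 ⥤ᵇ 𝒴) (f : 𝒳 ⥤ᵇ 𝒴)
    (h : AlgSt.IsQuasiCompact (fp (BasedFunctor.comp v g) f)) : AlgSt.IsQuasiCompact (fp g f) := by
  have hgf := isAlgStack_fp h𝒴.isStack h𝒴.diag h𝒵 h𝒳 g f
  obtain ⟨G, hG, -, -⟩ := exists_inverse (isEquivOver_fpPaste v g f)
  exact isQuasiCompact_of_surjective (isAlgStack_fp h𝒵.isStack h𝒵.diag h𝒲 hgf v (fpFst g f)) hgf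
    (fpSnd v (fpFst g f)) (isSurjective_fpSnd h𝒲.isStack.1 h𝒵.isStack.1 hgf.isStack.1 v (fpFst g f) hv)
    (isQuasiCompact_of_equiv hG h)

theorem qc_fp_congr {y y' : 𝒲 ⥤ᵇ 𝒴} (i : y ≅ y') (f : 𝒳 ⥤ᵇ 𝒴) (h : AlgSt.IsQuasiCompact (fp y f)) :
    AlgSt.IsQuasiCompact (fp y' f) := by
  obtain ⟨E, hE, -, -⟩ := exists_congr (F := y) (G := f) i (Iso.refl _)
  exact isQuasiCompact_of_equiv hE h

/-- Quasi-compactness can be tested on affine schemes. -/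
theorem qcMor_of_tests (h𝒴 : AS 𝒴) (h𝒳 : AS 𝒳) (f : 𝒳 ⥤ᵇ 𝒴)
    (h : ∀ (V : Over S) (y : overCat V ⥤ᵇ 𝒴), IsAffine V.left → AlgSt.IsQuasiCompact (fp y f)) : QC f :=
  fun 𝒯 hT hq g => by
    obtain ⟨V, v, hV, -, hs⟩ := hq
    exact qc_fp_of_cover h𝒴 h𝒳 hT (isAlgStack_overCat V) v (isSurjective_of_with hT.isStack.1 hs) g f (h V _ hV)

/-- Quasi-compactness descends along functors to which affine charts lift after compact covers. -/
theorem qcMor_of_lift (h𝒴 : AS 𝒴) (h𝒳 : AS 𝒳) {u : 𝒲 ⥤ᵇ 𝒴} (f : 𝒳 ⥤ᵇ 𝒴) (h : QC (fpFst u f))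
    (hl : ∀ (V : Over S) (y : overCat V ⥤ᵇ 𝒴), IsAffine V.left →
      ∃ (W : Over S) (c : W ⟶ V) (z : overCat W ⥤ᵇ 𝒲), CompactSpace ↥W.left ∧ Function.Surjective c.left ∧
        Nonempty (BasedFunctor.comp z u ≅ BasedFunctor.comp (AlgSt.overMap c) y)) : QC f :=
  qcMor_of_tests h𝒴 h𝒳 f fun V y hV => by
    obtain ⟨W, c, z, hW, hc, ⟨i⟩⟩ := hl V y hV
    have hs : AlgSt.IsSurjective (AlgSt.overMap c) := fun p => by
      obtain ⟨t, rfl⟩ := (ofChart_id_bijective V).2 p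
      obtain ⟨s, rfl⟩ := hc t
      exact ⟨_, (ofChart_eq_map (AlgSt.overMap c) s).symm.trans (ofChart_overMap c (BasedFunctor.id _) s)⟩
    exact qc_fp_of_cover h𝒴 h𝒳 (isAlgStack_overCat V) (isAlgStack_overCat W) _ hs y f
      (qc_fp_congr i f (isQuasiCompact_of_equiv (isEquivOver_fpPaste z u f)
        (h _ (isAlgStack_overCat W) (isQuasiCompact_overCat W) z)))

theorem qcMor_of_with (h𝒴 : AS 𝒴) (h𝒳 : AS 𝒳) {f : 𝒳 ⥤ᵇ 𝒴}
    (hf : AlgSt.RepByAlgSpWith AlgSp.IsQuasiCompactMor f) : QC f :=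
  qcMor_of_tests h𝒴 h𝒳 f fun V y hV => by
    obtain ⟨F, e, he, ha⟩ := hf V y
    exact isQuasiCompact_of_equiv he (isQuasiCompact_ofSp F
      (ha (AlgSp.IsAlgSpace.yon_obj V) (isQuasiCompactSp_yon V) (𝟙 _) (𝟙 _)
        (AlgSt.spMapOfOver (BasedFunctor.comp e (fpFst y f))) (IsPullback.of_horiz_isIso ⟨by simp⟩)))

theorem with_of_qcMor (h𝒴 : AS 𝒴) {f : 𝒳 ⥤ᵇ 𝒴} (hf : AlgSt.RepByAlgSp1 f) (h : QC f) :
    AlgSt.RepByAlgSpWith AlgSp.IsQuasiCompactMor f := fun U y => by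
  obtain ⟨F, e, he⟩ := hf U y
  refine ⟨F, e, he, fun Z Z' hZ hqc g fst snd sq => ?_⟩
  set a := AlgSt.spMapOfOver (BasedFunctor.comp e (fpFst y f))
  obtain ⟨i⟩ := spMapOfOver_iso (BasedFunctor.comp e (fpFst y f))
  obtain ⟨E, hE, -, -⟩ := exists_fp_equiv sq.flip
  have hid₁ := id_full (overCat U)
  have hid₂ := id_faithful (overCat U)
  have hTF : IsEquivOver (AlgSt.toOverCat U) := isEquivOver_toOverCat U
  obtain ⟨hfull, hfaith, -⟩ := EqvData.of_isEquivOver hTF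
  let E' : fp (AlgSt.ofSpMap g) (AlgSt.ofSpMap a) ⥤ᵇ
      fp (BasedFunctor.comp (AlgSt.ofSpMap g) (AlgSt.toOverCat U)) (fpFst y f) :=
    fpMap (BasedFunctor.id _) e (AlgSt.toOverCat U) (Iso.refl _) i.symm
  have hE' : IsEquivOver E' := isEquivOver_fpMap _ _ _ _ _ (isEquivOver_id _) he
  obtain ⟨G, hG, -, -⟩ := exists_inverse (isEquivOver_comp hE hE')
  exact isQuasiCompactSp_of_ofSp ⟨Z', AlgSpLib.isAlgSpace_of_isPullback (AlgSp.IsAlgSpace.yon_obj U).diag F.property hZ sq⟩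
    (isQuasiCompact_of_equiv hG
      (isQuasiCompactMor_fpFst y h _ (isDM_ofSp ⟨Z, hZ⟩).1 (isQuasiCompact_ofSp ⟨Z, hZ⟩ hqc) _))

/-- Quasi-compactness passes along surjections. -/
theorem qcMor_of_surjective (h𝒳 : AS 𝒳) (h𝒴 : AS 𝒴) (h𝒵 : AS 𝒵) {f : 𝒳 ⥤ᵇ 𝒴} {q : 𝒴 ⥤ᵇ 𝒵} {p : 𝒳 ⥤ᵇ 𝒵}
    (e : BasedFunctor.comp f q ≅ p) (hf : AlgSt.IsSurjective f) (hp : QC p) : QC q := fun 𝒯 hT hq g => by
  obtain ⟨E, hE, -, -⟩ := exists_congr (F := g) (G := p) (Iso.refl _) e.symm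
  obtain ⟨G, hG, -, -⟩ := exists_inverse (isEquivOver_fpCompFactor g f q)
  have hgq := isAlgStack_fp h𝒵.isStack h𝒵.diag hT h𝒴 g q
  exact isQuasiCompact_of_surjective (isAlgStack_fp h𝒴.isStack h𝒴.diag hgq h𝒳 (fpSnd g q) f) hgq
    (fpFst (fpSnd g q) f) (isSurjective_fpFst h𝒳.isStack.1 h𝒴.isStack.1 hgq.isStack.1 f _ hf)
    (isQuasiCompact_of_equiv hG (isQuasiCompact_of_equiv hE (hp 𝒯 hT hq g)))

theorem qcMor_of_equiv {e : 𝒳 ⥤ᵇ 𝒴} (he : IsEquivOver e) : QC e := fun 𝒯 _ hq g => by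
  obtain ⟨G, hG, -, -⟩ := exists_inverse (isEquivOver_fpFst (F := g) he)
  exact isQuasiCompact_of_equiv hG hq

theorem qcMor_congr {f f' : 𝒳 ⥤ᵇ 𝒴} (i : f ≅ f') (h : QC f) : QC f' := fun 𝒯 hT hq g => by
  obtain ⟨E, hE, -, -⟩ := exists_congr (F := g) (G := f) (Iso.refl _) i
  exact isQuasiCompact_of_equiv hE (h 𝒯 hT hq g)

/-- The cancellation law. -/
theorem qcMor_of_comp (h𝒳 : AS 𝒳) (h𝒴 : AS 𝒴) (h𝒵 : AS 𝒵) (f : 𝒳 ⥤ᵇ 𝒴) (g : 𝒴 ⥤ᵇ 𝒵)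
    (h : QC (BasedFunctor.comp f g)) (hg : AlgSt.RepByAlgSpWith AlgSp.IsQuasiCompactMor (FibCat.diag g)) : QC f := by
  have hP := (repByAlgSpWith_iff_of_square (f' := fpPush f (BasedFunctor.id 𝒴) g)
    (f := fpFst (relPairMap f (BasedFunctor.id 𝒴) g) (FibCat.diag g))
    (a := relMagic f (BasedFunctor.id 𝒴) g) (b := BasedFunctor.id _)
    (isEquivOver_relMagic f _ g) (isEquivOver_id _) (Iso.refl _)).2 (repByAlgSpWith_fpFst _ hg)
  have hA := isAlgStack_fp h𝒴.isStack h𝒴.diag h𝒳 h𝒴 f (BasedFunctor.id 𝒴)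
  have hB := isAlgStack_fp h𝒵.isStack h𝒵.diag h𝒳 h𝒴 (BasedFunctor.comp f g) g
  have h2 : QC (fpSnd (BasedFunctor.comp f g) g) :=
    isQuasiCompactMor_comp (isAlgStack_fp h𝒵.isStack h𝒵.diag h𝒴 h𝒳 g (BasedFunctor.comp f g)) h𝒴
      (qcMor_of_equiv (isEquivOver_fpSwap (BasedFunctor.comp f g) g)) (isQuasiCompactMor_fpFst g h)
  have h3 := isQuasiCompactMor_comp (f := fpPush f (BasedFunctor.id 𝒴) g) hB h𝒴 (qcMor_of_with hB hA hP) h2
  exact qcMor_of_surjective hA h𝒳 h𝒴 (f := fpFst f (BasedFunctor.id 𝒴)) (fpIso f (BasedFunctor.id 𝒴))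
    (points_bijective_of_equiv (isEquivOver_fpFst (isEquivOver_id 𝒴))).2 h3

theorem qcMor_toSelf [QuasiSeparatedSpace ↥S] (h : AS 𝒳) (hq : AlgSt.IsQuasiCompact 𝒳) : QC (toSelf 𝒳) := by
  obtain ⟨U, x, hU, -, hs⟩ := hq
  refine qcMor_of_surjective (isAlgStack_overCat U) h isAlgStack_selfOver (f := x)
    (eqToIso (based_ext x.w : BasedFunctor.comp x (toSelf 𝒳) = toSelf (overCat U))) (isSurjective_of_with h.isStack.1 hs) ?_
  refine qcMor_of_with isAlgStack_selfOver (isAlgStack_overCat U) ?_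
  let c : U ⟶ Over.mk (𝟙 S) := Over.homMk U.hom
  have hc : QuasiCompact c.left := inferInstanceAs (QuasiCompact U.hom)
  refine (repByAlgSpWith_iff_of_square (f' := AlgSt.ofSpMap ((AlgSp.yon S).map c)) (f := toSelf (overCat U))
    (a := AlgSt.toOverCat U) (b := BasedFunctor.comp (AlgSt.toOverCat _) (toSelf (overCat (Over.mk (𝟙 S)))))
    (isEquivOver_toOverCat U) (isEquivOver_comp (isEquivOver_toOverCat _) isEquivOver_toSelf_terminal)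
    (Iso.refl _)).1 ?_
  have k : AlgSp.RepWith @QuasiCompact ((AlgSp.yon S).map c) := (AlgSp.repWith_yon_map_iff @QuasiCompact c).2 hc
  exact repByAlgSpWith_ofSpMap pbStable_qcMor (V := ⟨_, AlgSp.IsAlgSpace.yon_obj U⟩)
    (Z := ⟨_, AlgSp.IsAlgSpace.yon_obj _⟩) _ (isQuasiCompactMor_of_repWith k)

end Groth.Agent.Stk19
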