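import Groth.Agent.Stk19.AlgSt.Qc

/-! Universal topological properties of representable functors between algebraic stacks. -/

set_option autoImplicit false
set_option backward.isDefEq.respectTransparency false
set_option backward.isDefEq.respectTransparency.types false

universe u

open CategoryTheory CategoryTheory.Limits AlgebraicGeometry Opposite FibCat Groth.Agent.Desc19 Topology

namespace Groth.Agent.Stk19

variable {S : Scheme.{u}} {𝒳 𝒴 : AlgSt.Cat S}

local notation "AS" => AlgSt.IsAlgStack Scheme.fppfPrecoverage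

theorem continuous_stPt (F : AlgSp.Space S) : Continuous (stPt : AlgSp.Points F.obj → _) :=
  continuous_def.2 fun _ hA => AlgSp.Points.isOpen_iff.2 fun T g =>
    hA.preimage (continuous_ofChart (isDM_ofSp F).1 (BasedFunctor.comp (AlgSt.ofOverCat T) (AlgSt.ofSpMap g)))

theorem isOpenMap_stPt (F : AlgSp.Sp S) : IsOpenMap (stPt : AlgSp.Points F → _) := fun A hA =>
  AlgSt.Points.isOpen_iff.2 fun U x _ => by
    obtain ⟨i⟩ := spHom_iso (BasedFunctor.comp (AlgSt.toOverCat U) x)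
    have e : ∀ t, AlgSt.Points.ofChart x t =
        stPt (AlgSp.Points.ofPt (spHom (BasedFunctor.comp (AlgSt.toOverCat U) x)) t) := fun t =>
      (ofChart_congr ((Stk.restr (AlgSt.ofOverCat U) _).mapIso i) t :
        AlgSt.Points.ofChart x t = AlgSt.Points.ofChart (BasedFunctor.comp (AlgSt.ofOverCat U) (AlgSt.ofSpMap _)) t)
    have : AlgSt.Points.ofChart x ⁻¹' (stPt '' A) =
        AlgSp.Points.ofPt (spHom (BasedFunctor.comp (AlgSt.toOverCat U) x)) ⁻¹' A := by
      ext t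
      rw [Set.mem_preimage, Set.mem_preimage, e, stPt_bijective.1.mem_set_image]
    rw [this]
    exact hA.preimage (AlgSp.Points.continuous_ofPt _)

/-- The points of an algebraic space as points of its stack. -/
noncomputable def stPtHomeo (F : AlgSp.Space S) : AlgSp.Points F.obj ≃ₜ AlgSt.Points (AlgSt.ofSp F.obj) :=
  (Equiv.ofBijective stPt stPt_bijective).toHomeomorphOfContinuousOpen (continuous_stPt F) (isOpenMap_stPt F.obj)

theorem exists_pointsHomeo (h𝒳 : AS 𝒳) (h𝒴 : AS 𝒴) {e : 𝒳 ⥤ᵇ 𝒴} (he : IsEquivOver e) :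
    ∃ h : AlgSt.Points 𝒳 ≃ₜ AlgSt.Points 𝒴, ∀ x, h x = AlgSt.Points.map e x := by
  obtain ⟨G, -, ⟨a⟩, ⟨b⟩⟩ := exists_inverse he
  exact ⟨{ toFun := AlgSt.Points.map e
           invFun := AlgSt.Points.map G
           left_inv := fun x => (points_map_comp e G x).symm.trans ((points_map_congr a x).trans (points_map_id x))
           right_inv := fun x => (points_map_comp G e x).symm.trans ((points_map_congr b x).trans (points_map_id x))
           continuous_toFun := continuous_points_map h𝒴 e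
           continuous_invFun := continuous_points_map h𝒳 G }, fun _ => rfl⟩

/-- A property of maps of topological spaces invariant under homeomorphisms and descending along open covers of the target. -/
structure TopDesc (Q : ∀ {A B : Type (u + 1)} [TopologicalSpace A] [TopologicalSpace B], (A → B) → Prop) : Prop where
  conj : ∀ {A B A' B' : Type (u + 1)} [TopologicalSpace A] [TopologicalSpace B] [TopologicalSpace A'] [TopologicalSpace B']
    (φ : A → B) (ψ : A' → B') (h : A ≃ₜ A') (k : B ≃ₜ B'), (∀ a, ψ (h a) = k (φ a)) → Q φ → Q ψ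
  desc : ∀ {A B A' B' : Type (u + 1)} [TopologicalSpace A] [TopologicalSpace B] [TopologicalSpace A'] [TopologicalSpace B']
    (φ : A → B) (φ' : A' → B') (p : A' → A) (q : B' → B), Continuous φ → Continuous p → IsOpenQuotientMap q →
      (∀ a', q (φ' a') = φ (p a')) → (∀ a b', q b' = φ a → ∃ a', φ' a' = b' ∧ p a' = a) → Q φ' → Q φ

variable {Q : ∀ {A B : Type (u + 1)} [TopologicalSpace A] [TopologicalSpace B], (A → B) → Prop}

theorem respSrc_univSp {Q' : MorphismProperty (AlgSp.Sp S)} : RespSrc (AlgSp.UnivSp Q') :=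
  respSrc_of_baseChange fun X₁ Y₁ X₂ Y₂ _ _ _ _ a b a' b' sq ha Z Z' hZ g fst snd sq' =>
    ha hZ (g ≫ b) (fst ≫ b') snd (sq'.paste_horiz sq)

theorem isOpenQuotientMap_points_atlas (h : AS 𝒳) {V : Over S} {v : overCat V ⥤ᵇ 𝒳}
    (hv : AlgSt.RepByAlgSpWith (AlgSp.LocP @Smooth) v) (hs : AlgSt.RepByAlgSpWith AlgSp.IsSurjectiveMor v) :
    IsOpenQuotientMap (AlgSt.Points.map v) := by
  refine ⟨isSurjective_of_with h.isStack.1 hs, continuous_points_map h v, fun A hA => ?_⟩
  rw [← Set.image_preimage_eq A (ofChart_id_bijective V).2, Set.image_image]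
  exact isOpenMap_ofChart_smooth h.isStack.1 hv _
    (hA.preimage (continuous_ofChart (isAlgStack_overCat V) (BasedFunctor.id _)))

/-- A universal topological property of a representable functor is read on base changes to algebraic stacks. -/
theorem with_univSp_iff (hQ : TopDesc @Q) (h𝒳 : AS 𝒳) (h𝒴 : AS 𝒴) {f : 𝒳 ⥤ᵇ 𝒴} (hf : AlgSt.RepByAlgSp1 f) :
    AlgSt.RepByAlgSpWith (AlgSp.UnivSp fun _ _ a => Q (AlgSp.Points.map a)) f ↔
      ∀ (𝒵 : AlgSt.Cat S), AS 𝒵 → ∀ (g : 𝒵 ⥤ᵇ 𝒴), Q (AlgSt.Points.map (fpFst g f)) := by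
  constructor
  · intro h 𝒵 hZ g
    obtain ⟨V, v, hv, hvs⟩ := hZ.atlas
    obtain ⟨F, e, he, ha⟩ := h V (BasedFunctor.comp v g)
    have hV := AlgSp.IsAlgSpace.yon_obj V
    have h1 : Q (AlgSp.Points.map (AlgSt.spMapOfOver (BasedFunctor.comp e (fpFst (BasedFunctor.comp v g) f)))) :=
      ha hV (𝟙 _) (𝟙 _) (AlgSt.spMapOfOver (BasedFunctor.comp e (fpFst (BasedFunctor.comp v g) f)))
        (IsPullback.of_horiz_isIso ⟨by simp⟩)
    have hgf := isAlgStack_fp h𝒴.isStack h𝒴.diag hZ h𝒳 g f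
    have hN := isAlgStack_fp hZ.isStack hZ.diag (isAlgStack_overCat V) hgf v (fpFst g f)
    have hM := isAlgStack_fp h𝒴.isStack h𝒴.diag (isAlgStack_overCat V) h𝒳 (BasedFunctor.comp v g) f
    obtain ⟨k₁, hk₁⟩ := exists_pointsHomeo (isDM_ofSp F).1 hM he
    obtain ⟨k₂, hk₂⟩ := exists_pointsHomeo (isDM_ofSp ⟨_, hV⟩).1 (isAlgStack_overCat V) (isEquivOver_toOverCat V)
    have h2 : Q (AlgSt.Points.map (fpFst (BasedFunctor.comp v g) f)) := by
      refine hQ.conj _ _ ((stPtHomeo F).trans k₁) ((stPtHomeo ⟨_, hV⟩).trans k₂) (fun z => ?_) h1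
      show AlgSt.Points.map _ (k₁ (stPt z)) = k₂ (stPt _)
      rw [hk₁, hk₂, ← points_map_comp, map_toOver_stPt]
    obtain ⟨k₃, hk₃⟩ := exists_pointsHomeo hN hM (isEquivOver_fpPaste v g f)
    have h3 : Q (AlgSt.Points.map (fpFst v (fpFst g f))) := by
      refine hQ.conj _ _ k₃.symm (Homeomorph.refl _) (fun z => ?_) h2
      obtain ⟨w, rfl⟩ := k₃.surjective z
      show AlgSt.Points.map _ (k₃.symm (k₃ w)) = AlgSt.Points.map _ (k₃ w)
      rw [k₃.symm_apply_apply, hk₃, ← points_map_comp, fpPaste_fst]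
    refine hQ.desc _ _ (AlgSt.Points.map (fpSnd v (fpFst g f))) (AlgSt.Points.map v)
      (continuous_points_map hZ _) (continuous_points_map hgf _) (isOpenQuotientMap_points_atlas hZ hv hvs)
      (fun a => ?_) (fun a b hab => ?_) h3
    · rw [← points_map_comp, ← points_map_comp]
      exact points_map_congr (fpIso v (fpFst g f)) a
    · exact exists_points_fp hgf.isStack.1 hZ.isStack.1 (isFibGrpd_overCat V) (fpFst g f) v b a hab
  · intro h U y
    obtain ⟨F, e, he⟩ := hf U y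
    refine ⟨F, e, he, fun Z Z' hZ g fst snd sq => ?_⟩
    set a := AlgSt.spMapOfOver (BasedFunctor.comp e (fpFst y f))
    obtain ⟨i⟩ := spMapOfOver_iso (BasedFunctor.comp e (fpFst y f))
    obtain ⟨E, hE, hE₁, -⟩ := exists_fp_equiv sq.flip
    obtain ⟨hfull, hfaith, -⟩ := EqvData.of_isEquivOver (isEquivOver_toOverCat U)
    let z := BasedFunctor.comp (BasedFunctor.comp (AlgSt.ofSpMap g) (AlgSt.toOverCat U)) y
    let E' : fp (AlgSt.ofSpMap g) (AlgSt.ofSpMap a) ⥤ᵇ
        fp (BasedFunctor.comp (AlgSt.ofSpMap g) (AlgSt.toOverCat U)) (fpFst y f) :=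
      fpMap (BasedFunctor.id _) e (AlgSt.toOverCat U) (Iso.refl _) i.symm
    let T := BasedFunctor.comp E (BasedFunctor.comp E' (fpPaste (BasedFunctor.comp (AlgSt.ofSpMap g) (AlgSt.toOverCat U)) y f))
    have hT : IsEquivOver T :=
      isEquivOver_comp hE (isEquivOver_comp (isEquivOver_fpMap _ _ _ _ _ (isEquivOver_id _) he) (isEquivOver_fpPaste _ _ _))
    have hZ' : AlgSp.IsAlgSpace Z' :=
      AlgSpLib.isAlgSpace_of_isPullback (AlgSp.IsAlgSpace.yon_obj U).diag F.property hZ sq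
    have hM := isAlgStack_fp h𝒴.isStack h𝒴.diag (isDM_ofSp ⟨Z, hZ⟩).1 h𝒳 z f
    obtain ⟨k₁, hk₁⟩ := exists_pointsHomeo (isDM_ofSp ⟨Z', hZ'⟩).1 hM hT
    refine hQ.conj _ _ ((stPtHomeo ⟨Z', hZ'⟩).trans k₁).symm (stPtHomeo ⟨Z, hZ⟩).symm (fun p => ?_) (h _ (isDM_ofSp ⟨Z, hZ⟩).1 z)
    obtain ⟨w, rfl⟩ := ((stPtHomeo ⟨Z', hZ'⟩).trans k₁).surjective p
    rw [Homeomorph.symm_apply_apply, Homeomorph.eq_symm_apply]
    show stPt (AlgSp.Points.map snd w) = AlgSt.Points.map _ (k₁ (stPt w))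
    rw [hk₁, ← points_map_comp, ← map_stPt,
      show BasedFunctor.comp T (fpFst z f) = BasedFunctor.comp E (fpFst (AlgSt.ofSpMap g) (AlgSt.ofSpMap a)) from rfl, hE₁]

theorem topDesc_open : TopDesc.{u} @IsOpenMap where
  conj φ ψ h k e hφ := by
    rw [show ψ = k ∘ φ ∘ h.symm from funext fun a => by simpa using e (h.symm a)]
    exact k.isOpenMap.comp (hφ.comp h.symm.isOpenMap)
  desc φ φ' p q hφ hp hq e l h O hO := by
    have : φ '' O = q '' (φ' '' (p ⁻¹' O)) := by
      ext b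
      constructor
      · rintro ⟨a, ha, rfl⟩
        obtain ⟨b', hb⟩ := hq.surjective (φ a)
        obtain ⟨a', rfl, rfl⟩ := l a b' hb
        exact ⟨_, ⟨a', ha, rfl⟩, hb⟩
      · rintro ⟨_, ⟨a', ha, rfl⟩, rfl⟩
        exact ⟨p a', ha, (e a').symm⟩
    rw [this]
    exact hq.isOpenMap _ (h _ (hO.preimage hp))

theorem topDesc_closed : TopDesc.{u} @IsClosedMap where
  conj φ ψ h k e hφ := by
    rw [show ψ = k ∘ φ ∘ h.symm from funext fun a => by simpa using e (h.symm a)]
    exact k.isClosedMap.comp (hφ.comp h.symm.isClosedMap)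
  desc φ φ' p q hφ hp hq e l h C hC := by
    have : q ⁻¹' (φ '' C) = φ' '' (p ⁻¹' C) := by
      ext b'
      constructor
      · rintro ⟨a, ha, hb⟩
        obtain ⟨a', rfl, rfl⟩ := l a b' hb.symm
        exact ⟨a', ha, rfl⟩
      · rintro ⟨a', ha, rfl⟩
        exact ⟨p a', ha, (e a').symm⟩
    rw [← hq.isQuotientMap.isClosed_preimage, this]
    exact h _ (hC.preimage hp)

theorem topDesc_injective : TopDesc.{u} (fun {A B} _ _ φ => Function.Injective φ) where
  conj φ ψ h k e hφ a₁ a₂ ha := by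
    obtain ⟨b₁, rfl⟩ := h.surjective a₁
    obtain ⟨b₂, rfl⟩ := h.surjective a₂
    rw [e, e] at ha
    exact congrArg h (hφ (k.injective ha))
  desc φ φ' p q hφ hp hq e l h a₁ a₂ ha := by
    obtain ⟨b', hb⟩ := hq.surjective (φ a₁)
    obtain ⟨c₁, h₁, rfl⟩ := l a₁ b' hb
    obtain ⟨c₂, h₂, rfl⟩ := l a₂ b' (hb.trans ha)
    rw [h (h₁.trans h₂.symm)]

theorem topDesc_quotient : TopDesc.{u} @IsQuotientMap where
  conj φ ψ h k e hφ := by
    rw [show ψ = k ∘ φ ∘ h.symm from funext fun a => by simpa using e (h.symm a)]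
    exact k.isQuotientMap.comp (hφ.comp h.symm.isQuotientMap)
  desc φ φ' p q hφ hp hq e l h := by
    refine ⟨isCoinducing_iff.2 fun O => ⟨fun hO => ?_, fun hO => hO.preimage hφ⟩, fun b => ?_⟩
    swap
    · obtain ⟨b', rfl⟩ := hq.surjective b
      obtain ⟨a', rfl⟩ := h.surjective b'
      exact ⟨p a', (e a').symm⟩
    · refine hq.isQuotientMap.isOpen_preimage.1 (h.isOpen_preimage.1 ?_)
      rw [show φ' ⁻¹' (q ⁻¹' O) = p ⁻¹' (φ ⁻¹' O) from Set.ext fun a => by simp [e]]
      exact hO.preimage hp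

theorem topDesc_homeo : TopDesc.{u} @IsHomeomorph where
  conj φ ψ h k e hφ := by
    rw [show ψ = k ∘ φ ∘ h.symm from funext fun a => by simpa using e (h.symm a)]
    exact k.isHomeomorph.comp (hφ.comp h.symm.isHomeomorph)
  desc φ φ' p q hφ hp hq e l h :=
    ⟨hφ, topDesc_open.desc φ φ' p q hφ hp hq e l h.isOpenMap,
      topDesc_injective.desc φ φ' p q hφ hp hq e l h.bijective.injective,
      (topDesc_quotient.desc φ φ' p q hφ hp hq e l h.isQuotientMap).surjective⟩

end Groth.Agent.Stk19
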