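import Groth.Agent.Stk19.AlgSt.Over
import Groth.Agent.Stk19.Prod

/-! The diagonal criterion; invariance of algebraic stacks; stacks relatively representable over stacks. -/

set_option autoImplicit false
set_option backward.isDefEq.respectTransparency false
set_option backward.isDefEq.respectTransparency.types false

universe v₅ u₅ v₄ u₄ v₃ u₃ v₂ u₂ u

open CategoryTheory CategoryTheory.Limits AlgebraicGeometry Opposite FibCat Groth.Agent.Desc19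

namespace Groth.Agent.Stk19

variable {S : Scheme.{u}} {𝒳 𝒴 𝒵 : AlgSt.Cat S}

theorem isEquivOver_toSelf_terminal :
    IsEquivOver (toSelf (overCat (Over.mk (𝟙 S) : Over S))) := by
  refine EqvData.isEquivOver ⟨⟨fun {a b} k => ⟨Over.homMk k (Over.mkIdTerminal.hom_ext _ _), rfl⟩⟩,
    ⟨fun {a b} k k' h => Over.OverMorphism.ext h⟩, fun η => ⟨Over.mk (Over.mkIdTerminal.from η), Iso.refl _, IsHomLift.id rfl⟩⟩

theorem repByAlgSp_selfOver : AlgSt.RepByAlgSp (selfOver (Over S)) :=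
  repByAlgSp_of_equiv isEquivOver_toSelf_terminal (repByAlgSp_overCat _)

theorem isStack_selfOver : Stk.IsStack (AlgSp.J S) (selfOver (Over S)) := isStack_of_repByAlgSp repByAlgSp_selfOver

theorem repByAlgSp_prod {𝒰 : BasedCategory.{v₄, u₄} (Over S)} {𝒱 : BasedCategory.{v₅, u₅} (Over S)}
    (hU : AlgSt.RepByAlgSp 𝒰) (hV : AlgSt.RepByAlgSp 𝒱) : AlgSt.RepByAlgSp (fp (toSelf 𝒰) (toSelf 𝒱)) :=
  repByAlgSp_fp hU hV repByAlgSp_selfOver

theorem repByAlgSp1_of_comp (f : 𝒳 ⥤ᵇ 𝒴) (g : 𝒴 ⥤ᵇ 𝒵) (h𝒴 : IsFibGrpd 𝒴.p) (h𝒵 : IsFibGrpd 𝒵.p)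
    (hgf : AlgSt.RepByAlgSp1 (BasedFunctor.comp f g)) (hΔ : AlgSt.RepByAlgSp1 (FibCat.diag g)) :
    AlgSt.RepByAlgSp1 f := fun U y =>
  repByAlgSp_of_equiv' (isEquivOver_relMagic y f g)
    (repByAlgSp_fp_of_rep1 (𝒴 := fp g g) (FibCat.diag g) (relPairMap y f g) h𝒴 (fibGrpd_fp h𝒴 h𝒴 h𝒵 g g)
      (hgf U (BasedFunctor.comp y g)) hΔ)

theorem fibGrpd_prod (h𝒳 : IsFibGrpd 𝒳.p) : IsFibGrpd (fp (toSelf 𝒳) (toSelf 𝒳)).p :=
  fibGrpd_fp h𝒳 h𝒳 fibGrpd_selfOver _ _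

theorem repByAlgSp1_diag_iff (h𝒳 : IsFibGrpd 𝒳.p) :
    AlgSt.RepByAlgSp1 (FibCat.diag (toSelf 𝒳)) ↔
      ∀ (U : Over S) (x : overCat U ⥤ᵇ 𝒳), AlgSt.RepByAlgSp1 x := by
  constructor
  · intro h U x V y
    refine repByAlgSp_of_equiv' (isEquivOver_magicSquare y x) ?_
    exact repByAlgSp_fp_of_rep1 (FibCat.diag (toSelf 𝒳)) (prodPair y x) h𝒳 (fibGrpd_prod h𝒳)
      (repByAlgSp_prod (repByAlgSp_overCat V) (repByAlgSp_overCat U)) h
  · intro h U z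
    let a := BasedFunctor.comp z (fpFst (toSelf 𝒳) (toSelf 𝒳))
    let b := BasedFunctor.comp z (fpSnd (toSelf 𝒳) (toSelf 𝒳))
    let d : overCat U ⥤ᵇ fp (toSelf (overCat U)) (toSelf (overCat U)) :=
      pairSelf (BasedFunctor.id _) (BasedFunctor.id _)
    let i : BasedFunctor.comp d (prodPair a b) ≅ z :=
      isoMk (fun t => prodIso (Iso.refl _) (Iso.refl _) (by
          show 𝒳.p.map (𝟙 _) = _ ≫ 𝒳.p.map (𝟙 _) ≫ _
          rw [CategoryTheory.Functor.map_id, CategoryTheory.Functor.map_id, Category.id_comp]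
          exact ((eqToHom_trans _ _).trans (eqToHom_refl _ rfl)).symm))
        (fun t => fpIsoMk_vert _ _ _ (IsHomLift.id rfl))
        (fun φ => fp_hom_ext ((Category.comp_id _).trans (Category.id_comp _).symm)
          ((Category.comp_id _).trans (Category.id_comp _).symm))
    obtain ⟨E, hE, -, -⟩ := exists_congr (G := FibCat.diag (toSelf 𝒳)) i (Iso.refl _)
    refine repByAlgSp_of_equiv hE (repByAlgSp_of_equiv (isEquivOver_fpPaste d (prodPair a b) (FibCat.diag (toSelf 𝒳))) ?_)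
    exact repByAlgSp_fp (repByAlgSp_overCat U) (repByAlgSp_of_equiv (isEquivOver_magicSquare a b) (h U b U a))
      (repByAlgSp_prod (repByAlgSp_overCat U) (repByAlgSp_overCat U))

theorem repByAlgSp1_diag_of_rep (h : AlgSt.RepByAlgSp 𝒳) : AlgSt.RepByAlgSp1 (FibCat.diag (toSelf 𝒳)) :=
  (repByAlgSp1_diag_iff (fibGrpd_of_repByAlgSp h)).2 fun U x => repByAlgSp1_of_repByAlgSp x (repByAlgSp_overCat U) h

theorem repByAlgSp1_of_diag (h𝒳 : IsFibGrpd 𝒳.p) (hΔ : AlgSt.RepByAlgSp1 (FibCat.diag (toSelf 𝒳)))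
    {𝒰 : AlgSt.Cat S} (hU : AlgSt.RepByAlgSp 𝒰) (x : 𝒰 ⥤ᵇ 𝒳) : AlgSt.RepByAlgSp1 x := fun V y => by
  refine repByAlgSp_of_equiv' (isEquivOver_magicSquare y x) ?_
  exact repByAlgSp_fp_of_rep1 (FibCat.diag (toSelf 𝒳)) (prodPair y x) h𝒳 (fibGrpd_prod h𝒳)
    (repByAlgSp_prod (repByAlgSp_overCat V) hU) hΔ

/-- The 2-isomorphism comparing two diagonals along a functor. -/
def diagSquare (e : 𝒳 ⥤ᵇ 𝒴) :
    BasedFunctor.comp (FibCat.diag (toSelf 𝒳))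
        (pairSelf (BasedFunctor.comp (fpFst (toSelf 𝒳) (toSelf 𝒳)) e) (BasedFunctor.comp (fpSnd (toSelf 𝒳) (toSelf 𝒳)) e)) ≅
      BasedFunctor.comp e (FibCat.diag (toSelf 𝒴)) :=
  isoMk (fun t => prodIso (Iso.refl _) (Iso.refl _) (by
      show 𝒴.p.map (𝟙 _) = _ ≫ 𝒴.p.map (𝟙 _) ≫ _
      rw [CategoryTheory.Functor.map_id, CategoryTheory.Functor.map_id, Category.id_comp]
      exact ((eqToHom_trans _ _).trans (eqToHom_refl _ rfl)).symm))
    (fun t => fpIsoMk_vert _ _ _ (IsHomLift.id rfl))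
    (fun φ => fp_hom_ext ((Category.comp_id _).trans (Category.id_comp _).symm)
      ((Category.comp_id _).trans (Category.id_comp _).symm))

theorem isEquivOver_pairMap {e : 𝒳 ⥤ᵇ 𝒴} (he : IsEquivOver e) :
    IsEquivOver (pairSelf (BasedFunctor.comp (fpFst (toSelf 𝒳) (toSelf 𝒳)) e) (BasedFunctor.comp (fpSnd (toSelf 𝒳) (toSelf 𝒳)) e)) := by
  have := id_full (selfOver (Over S))
  have := id_faithful (selfOver (Over S))
  have h := isEquivOver_fpMap (F := toSelf 𝒳) (G := toSelf 𝒳) (F' := toSelf 𝒴) (G' := toSelf 𝒴) e e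
    (BasedFunctor.id _) (selfIso _ _) (selfIso _ _) he he
  refine isEquivOver_of_iso (F := fpMap e e (BasedFunctor.id _) (selfIso _ _) (selfIso _ _))
    (isoMk (fun t => prodIso (Iso.refl _) (Iso.refl _) (by
      show 𝒴.p.map (𝟙 _) = _ ≫ 𝒴.p.map (𝟙 _) ≫ _
      rw [CategoryTheory.Functor.map_id, CategoryTheory.Functor.map_id, Category.id_comp]
      exact ((eqToHom_trans _ _).trans (eqToHom_refl _ rfl)).symm))
    (fun t => fpIsoMk_vert _ _ _ (IsHomLift.id rfl))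
    (fun φ => fp_hom_ext ((Category.comp_id _).trans (Category.id_comp _).symm)
      ((Category.comp_id _).trans (Category.id_comp _).symm))) h

theorem hasAtlas_of_equiv {P : MorphismProperty (AlgSp.Sp S)} {e : 𝒳 ⥤ᵇ 𝒴} (he : IsEquivOver e)
    (h : AlgSt.HasAtlas P 𝒳) : AlgSt.HasAtlas P 𝒴 := by
  obtain ⟨U, x, h1, h2⟩ := h
  exact ⟨U, BasedFunctor.comp x e,
    (repByAlgSpWith_iff_of_square (f := BasedFunctor.comp x e) (isEquivOver_id _) he (Iso.refl _)).1 h1,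
    (repByAlgSpWith_iff_of_square (f := BasedFunctor.comp x e) (isEquivOver_id _) he (Iso.refl _)).1 h2⟩

theorem isAlgStack_of_equiv {K : Precoverage Scheme.{u}} {e : 𝒳 ⥤ᵇ 𝒴} (he : IsEquivOver e)
    (h : AlgSt.IsAlgStack K 𝒳) : AlgSt.IsAlgStack K 𝒴 where
  isStack := (isStack_iff_of_equiv _ he).1 h.isStack
  diag := (repByAlgSp1_iff_of_square (f := FibCat.diag (toSelf 𝒴)) he (isEquivOver_pairMap he) (diagSquare e)).1 h.diag
  atlas := hasAtlas_of_equiv he h.atlas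

theorem isAlgStack_iff_of_equiv {K : Precoverage Scheme.{u}} {e : 𝒳 ⥤ᵇ 𝒴} (he : IsEquivOver e) :
    AlgSt.IsAlgStack K 𝒳 ↔ AlgSt.IsAlgStack K 𝒴 := by
  obtain ⟨e', he', -, -⟩ := exists_inverse he
  exact ⟨isAlgStack_of_equiv he, isAlgStack_of_equiv he'⟩

theorem isDM_iff_of_equiv {K : Precoverage Scheme.{u}} {e : 𝒳 ⥤ᵇ 𝒴} (he : IsEquivOver e) :
    AlgSt.IsDM K 𝒳 ↔ AlgSt.IsDM K 𝒴 := by
  obtain ⟨e', he', -, -⟩ := exists_inverse he
  exact ⟨fun h => ⟨isAlgStack_of_equiv he h.1, hasAtlas_of_equiv he h.2⟩,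
    fun h => ⟨isAlgStack_of_equiv he' h.1, hasAtlas_of_equiv he' h.2⟩⟩

end Groth.Agent.Stk19
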