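import Groth.Agent.Stk19.AlgSt.With
import Groth.Agent.Stk19.AlgSt.Diag
import Groth.Agent.Stk19.DiagCalc

/-! Representability properties of relative diagonals. -/

set_option autoImplicit false
set_option backward.isDefEq.respectTransparency false
set_option backward.isDefEq.respectTransparency.types false

universe u

open CategoryTheory CategoryTheory.Limits AlgebraicGeometry Opposite FibCat Groth.Agent.Desc19

namespace Groth.Agent.Stk19

variable {S : Scheme.{u}} {P : MorphismProperty (AlgSp.Sp S)}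
variable {𝒳 𝒴 𝒵 𝒳' 𝒴' : AlgSt.Cat S}

/-- The diagonal of a base change inherits the property. -/
theorem diag_fpFst {f : 𝒳 ⥤ᵇ 𝒴} (g : 𝒴' ⥤ᵇ 𝒴) (h : AlgSt.RepByAlgSpWith P (FibCat.diag f)) :
    AlgSt.RepByAlgSpWith P (FibCat.diag (fpFst g f)) :=
  (repByAlgSpWith_iff_of_square (f' := FibCat.diag (fpFst g f)) (f := fpFst (bcPair g f) (FibCat.diag f))
    (a := diagBaseChange g f) (b := BasedFunctor.id _) (isEquivOver_diagBaseChange g f) (isEquivOver_id _)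
    (Iso.refl _)).2 (repByAlgSpWith_fpFst (bcPair g f) h)

/-- The property of a diagonal is tested on base changes to schemes. -/
theorem diag_of_fpFst {f : 𝒳 ⥤ᵇ 𝒴}
    (h : ∀ (T : Over S) (y : overCat T ⥤ᵇ 𝒴), AlgSt.RepByAlgSpWith P (FibCat.diag (fpFst y f))) :
    AlgSt.RepByAlgSpWith P (FibCat.diag f) := fun U y => by
  obtain ⟨y', ⟨i⟩⟩ := exists_bcPair_lift f y
  let y₀ := BasedFunctor.comp (BasedFunctor.comp y (fpFst f f)) f
  have hw := (repByAlgSpWith_iff_of_square (f' := FibCat.diag (fpFst y₀ f))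
    (f := fpFst (bcPair y₀ f) (FibCat.diag f)) (a := diagBaseChange y₀ f) (b := BasedFunctor.id _)
    (isEquivOver_diagBaseChange y₀ f) (isEquivOver_id _) (Iso.refl _)).1 (h U y₀) U y'
  obtain ⟨E, hE, hE', -⟩ := exists_congr (F := BasedFunctor.comp y' (bcPair y₀ f)) (G := FibCat.diag f) i (Iso.refl _)
  refine witness_transfer (isEquivOver_comp (isEquivOver_fpPaste y' (bcPair y₀ f) (FibCat.diag f)) hE) (eqToIso ?_) hw
  show BasedFunctor.comp (fpPaste y' (bcPair y₀ f) (FibCat.diag f)) (BasedFunctor.comp E (fpFst y (FibCat.diag f))) = _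
  rw [hE', fpPaste_fst]

/-- The pushforward on relative squares is a base change of a diagonal. -/
theorem fpPush_with (f : 𝒳 ⥤ᵇ 𝒴) {g : 𝒴 ⥤ᵇ 𝒵} (h : AlgSt.RepByAlgSpWith P (FibCat.diag g)) :
    AlgSt.RepByAlgSpWith P (fpPush f f g) :=
  (repByAlgSpWith_iff_of_square (f' := fpPush f f g) (f := fpFst (relPairMap f f g) (FibCat.diag g))
    (a := relMagic f f g) (b := BasedFunctor.id _) (isEquivOver_relMagic f f g) (isEquivOver_id _)
    (Iso.refl _)).2 (repByAlgSpWith_fpFst _ h)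

/-- The diagonal of a composite inherits a property stable under composition. -/
theorem diag_comp {τ : AlgSp.CovNotion S} (hτ : HasAtlasCovers τ) (hR : RespSrc P)
    (hP : AlgSp.IsLocalOnBase τ P)
    (hPc : ∀ ⦃X Y Z : AlgSp.Sp S⦄, AlgSp.IsAlgSpace X → AlgSp.IsAlgSpace Y → AlgSp.IsAlgSpace Z →
      ∀ (a : X ⟶ Y) (b : Y ⟶ Z), P a → P b → P (a ≫ b))
    (h𝒳 : IsFibGrpd 𝒳.p) (h𝒴 : IsFibGrpd 𝒴.p) {f : 𝒳 ⥤ᵇ 𝒴} {g : 𝒴 ⥤ᵇ 𝒵}
    (hf : AlgSt.RepByAlgSpWith P (FibCat.diag f)) (hg : AlgSt.RepByAlgSpWith P (FibCat.diag g)) :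
    AlgSt.RepByAlgSpWith P (FibCat.diag (BasedFunctor.comp f g)) :=
  repByAlgSpWith_of_iso (diagCompIso f g)
    (repByAlgSpWith_comp hτ hR hP hPc h𝒳 (fibGrpd_fp h𝒳 h𝒳 h𝒴 f f) hf (fpPush_with f hg))

/-- Cancellation. -/
theorem repByAlgSpWith_of_comp {Q : MorphismProperty (AlgSp.Sp S)}
    (hPb : ∀ ⦃X₁ Y₁ X₂ Y₂ : AlgSp.Sp S⦄, AlgSp.IsAlgSpace X₁ → AlgSp.IsAlgSpace Y₁ → AlgSp.IsAlgSpace X₂ →
      AlgSp.IsAlgSpace Y₂ → ∀ (a : X₁ ⟶ Y₁) (b : Y₂ ⟶ Y₁) (a' : X₂ ⟶ Y₂) (b' : X₂ ⟶ X₁),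
      IsPullback b' a' a b → P a → P a')
    (hcancel : ∀ ⦃X Y Z : AlgSp.Sp S⦄, AlgSp.IsAlgSpace X → AlgSp.IsAlgSpace Y → AlgSp.IsAlgSpace Z →
      ∀ (a : X ⟶ Y) (b : Y ⟶ Z), Q b → P (a ≫ b) → P a)
    {f : 𝒳 ⥤ᵇ 𝒴} {g : 𝒴 ⥤ᵇ 𝒵}
    (hg : AlgSt.RepByAlgSpWith Q g) (hfg : AlgSt.RepByAlgSpWith P (BasedFunctor.comp f g)) :
    AlgSt.RepByAlgSpWith P f := fun U y => by
  let y' := BasedFunctor.comp y g
  obtain ⟨F₂, eB, heB, hb⟩ := hg U y'
  obtain ⟨F₁, e₁, he₁, h1⟩ := hfg U y'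
  obtain ⟨G, hG, -, ⟨c⟩⟩ := exists_inverse (isEquivOver_fpCompFactor y' f g)
  obtain ⟨eB', heB', ⟨cB⟩, cB₂⟩ := exists_inverse heB
  have : (BasedFunctor.id 𝒴).toFunctor.Full := id_full _
  have : (BasedFunctor.id 𝒴).toFunctor.Faithful := id_faithful _
  let q := fpFst (fpSnd y' g) f
  let eA := BasedFunctor.comp e₁ G
  obtain ⟨ir⟩ := spHom_iso (BasedFunctor.comp (BasedFunctor.comp eA q) eB')
  let z := BasedFunctor.comp eB (fpSnd y' g)
  let E : fp z f ⥤ᵇ fp (fpSnd y' g) f :=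
    fpMap (F' := fpSnd y' g) (G' := f) eB (BasedFunctor.id _) (BasedFunctor.id _) (Iso.refl _) (Iso.refl _)
  have hE : IsEquivOver E := isEquivOver_fpMap _ _ _ _ _ heB (isEquivOver_id _)
  obtain ⟨E', hE', -, ⟨cE⟩⟩ := exists_inverse hE
  let e := BasedFunctor.comp eA E'
  have he : IsEquivOver e := isEquivOver_comp (isEquivOver_comp he₁ hG) hE'
  let i₀ : BasedFunctor.comp e (fpFst z f) ≅ BasedFunctor.comp eA (BasedFunctor.comp (BasedFunctor.comp E' E) (BasedFunctor.comp q eB')) :=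
    (Stk.restr (BasedFunctor.comp e (fpFst z f)) _).mapIso cB.symm
  let i : BasedFunctor.comp e (fpFst z f) ≅ AlgSt.ofSpMap (spHom (BasedFunctor.comp (BasedFunctor.comp eA q) eB')) :=
    i₀ ≪≫ (Stk.restr eA _).mapIso ((postB _ (BasedFunctor.comp q eB')).mapIso cE) ≪≫ ir
  let σ : overCat U ⥤ᵇ fp y' g := fpLift (BasedFunctor.id _) y (Iso.refl _)
  obtain ⟨is⟩ := spHom_iso (BasedFunctor.comp (BasedFunctor.comp (AlgSt.toOverCat U) σ) eB')
  set s := spHom (BasedFunctor.comp (BasedFunctor.comp (AlgSt.toOverCat U) σ) eB')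
  obtain ⟨_, _, ⟨cB'⟩⟩ : True ∧ True ∧ Nonempty (BasedFunctor.comp eB' eB ≅ BasedFunctor.id _) := ⟨trivial, trivial, cB₂⟩
  let j : y ≅ BasedFunctor.comp (BasedFunctor.comp (AlgSt.ofOverCat U) (AlgSt.ofSpMap s)) z :=
    (Stk.restr σ _).mapIso ((postB _ (fpSnd y' g)).mapIso cB'.symm) ≪≫
      (Stk.restr (AlgSt.ofOverCat U) _).mapIso ((postB _ z).mapIso is)
  have sq := IsPullback.of_hasPullback (spHom (BasedFunctor.comp (BasedFunctor.comp eA q) eB')) s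
  have hQ : AlgSp.IsAlgSpace (pullback (spHom (BasedFunctor.comp (BasedFunctor.comp eA q) eB')) s) :=
    AlgSpLib.isAlgSpace_pullback (Y := ⟨_, AlgSp.IsAlgSpace.yon_obj U⟩) _ s
  obtain ⟨E₀, hE₀, k₀⟩ := exists_chart_rep z he i sq j
  refine ⟨⟨_, hQ⟩, E₀, hE₀, ?_⟩
  rw [k₀]
  refine hPb F₁.property F₂.property hQ (AlgSp.IsAlgSpace.yon_obj U) _ s _ _ sq
    (hcancel F₁.property F₂.property (AlgSp.IsAlgSpace.yon_obj U) _ _ hb ?_)
  rw [← spMapOfOver_comp]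
  have k : AlgSt.spMapOfOver (BasedFunctor.comp (BasedFunctor.comp (BasedFunctor.comp eA q) eB')
      (BasedFunctor.comp eB (fpFst y' g))) = AlgSt.spMapOfOver (BasedFunctor.comp e₁ (fpFst y' (BasedFunctor.comp f g))) :=
    spMapOfOver_congr ((Stk.restr (BasedFunctor.comp eA q) _).mapIso ((postB _ (fpFst y' g)).mapIso cB') ≪≫
      (Stk.restr e₁ _).mapIso ((postB _ (fpFst y' (BasedFunctor.comp f g))).mapIso c)).hom
  rw [k]
  exact h1

/-- Invariance of diagonal properties under equivalences of squares. -/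
theorem diag_transport {f : 𝒳 ⥤ᵇ 𝒴} {f' : 𝒳' ⥤ᵇ 𝒴'} {a : 𝒳' ⥤ᵇ 𝒳} {b : 𝒴' ⥤ᵇ 𝒴} (ha : IsEquivOver a)
    (hb : IsEquivOver b) (e : BasedFunctor.comp f' b ≅ BasedFunctor.comp a f) :
    AlgSt.RepByAlgSpWith P (FibCat.diag f') ↔ AlgSt.RepByAlgSpWith P (FibCat.diag f) := by
  obtain ⟨_, _, -⟩ := EqvData.of_isEquivOver hb
  exact repByAlgSpWith_iff_of_square (b := pairMap a b e) ha (isEquivOver_fpMap a a b e e ha ha) (diagMapIso a b e)

/-- The diagonal of a map of fibre products inherits a property stable under composition. -/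
theorem diag_fpLift {τ : AlgSp.CovNotion S} (hτ : HasAtlasCovers τ) (hR : RespSrc P)
    (hP : AlgSp.IsLocalOnBase τ P)
    (hPc : ∀ ⦃X Y Z : AlgSp.Sp S⦄, AlgSp.IsAlgSpace X → AlgSp.IsAlgSpace Y → AlgSp.IsAlgSpace Z →
      ∀ (a : X ⟶ Y) (b : Y ⟶ Z), P a → P b → P (a ≫ b))
    (h𝒳 : IsFibGrpd 𝒳.p) (h𝒳' : IsFibGrpd 𝒳'.p) (h𝒴 : IsFibGrpd 𝒴.p) (h𝒵 : IsFibGrpd 𝒵.p)
    (p' : 𝒳' ⥤ᵇ 𝒵) (q' : 𝒴' ⥤ᵇ 𝒵) (f : 𝒳 ⥤ᵇ 𝒳') (g : 𝒴 ⥤ᵇ 𝒴')
    (e : BasedFunctor.comp (BasedFunctor.comp (fpFst (BasedFunctor.comp f p') (BasedFunctor.comp g q')) f) p' ≅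
      BasedFunctor.comp (BasedFunctor.comp (fpSnd (BasedFunctor.comp f p') (BasedFunctor.comp g q')) g) q')
    (he : ∀ x, e.hom.toNatTrans.app x = x.obj.iso.hom)
    (hf : AlgSt.RepByAlgSpWith P (FibCat.diag f)) (hg : AlgSt.RepByAlgSpWith P (FibCat.diag g)) :
    AlgSt.RepByAlgSpWith P (FibCat.diag
      (fpLift (BasedFunctor.comp (fpFst (BasedFunctor.comp f p') (BasedFunctor.comp g q')) f)
        (BasedFunctor.comp (fpSnd (BasedFunctor.comp f p') (BasedFunctor.comp g q')) g) e)) := by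
  let k := BasedFunctor.comp g q'
  let h₁ : fp (BasedFunctor.comp f p') k ⥤ᵇ fp p' k :=
    fpLift (BasedFunctor.comp (fpFst (BasedFunctor.comp f p') k) f) (fpSnd (BasedFunctor.comp f p') k)
      (fpIso (BasedFunctor.comp f p') k)
  let h₂ : fp p' k ⥤ᵇ fp p' q' := fpLift (fpFst p' k) (BasedFunctor.comp (fpSnd p' k) g) (fpIso p' k)
  have d₂ : AlgSt.RepByAlgSpWith P (FibCat.diag h₂) := by
    refine (diag_transport (a := fpCompFactor p' g q') (b := BasedFunctor.id _) (f := h₂)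
      (f' := fpFst (fpSnd p' q') g) (isEquivOver_fpCompFactor p' g q') (isEquivOver_id _) ?_).1 (diag_fpFst _ hg)
    exact isoMk (fun t => fpIsoMk (Iso.refl _) t.obj.iso (by
        show p'.map (𝟙 _) ≫ t.obj.fst.obj.iso.hom ≫ q'.map t.obj.iso.hom =
          t.obj.fst.obj.iso.hom ≫ q'.map t.obj.iso.hom
        rw [p'.toFunctor.map_id]
        exact Category.id_comp _))
      (fun t => fpIsoMk_vert _ _ _ (IsHomLift.id rfl))
      (fun φ => fp_hom_ext ((Category.comp_id _).trans (Category.id_comp _).symm) φ.hom.w)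
  have d₁ : AlgSt.RepByAlgSpWith P (FibCat.diag h₁) := by
    refine (diag_transport (a := BasedFunctor.comp (fpCompFactor k f p') (fpSwap k (BasedFunctor.comp f p')))
      (b := fpSwap k p') (f := h₁) (f' := fpFst (fpSnd k p') f)
      (isEquivOver_comp (isEquivOver_fpCompFactor k f p') (isEquivOver_fpSwap _ _)) (isEquivOver_fpSwap k p') ?_).1
      (diag_fpFst _ hf)
    exact isoMk (fun t => fpIsoMk t.obj.iso (Iso.refl _) (by
        show p'.map t.obj.iso.hom ≫ (t.obj.fst.obj.iso ≪≫ p'.toFunctor.mapIso t.obj.iso).inv =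
          t.obj.fst.obj.iso.inv ≫ k.map (𝟙 _)
        rw [k.toFunctor.map_id]
        simp))
      (fun t => fpIsoMk_vert _ _ _ (vert_change 𝒳'.p _ (fp_iso_vert t) rfl))
      (fun φ => fp_hom_ext φ.hom.w ((Category.comp_id _).trans (Category.id_comp _).symm))
  let i : BasedFunctor.comp h₁ h₂ ≅ fpLift (BasedFunctor.comp (fpFst (BasedFunctor.comp f p') k) f)
      (BasedFunctor.comp (fpSnd (BasedFunctor.comp f p') k) g) e :=
    isoMk (fun t => fpIsoMk (Iso.refl _) (Iso.refl _) (by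
        show p'.map (𝟙 _) ≫ e.hom.toNatTrans.app t = t.obj.iso.hom ≫ q'.map (𝟙 _)
        rw [he, p'.toFunctor.map_id, q'.toFunctor.map_id]
        exact (Category.id_comp _).trans (Category.comp_id _).symm))
      (fun t => fpIsoMk_vert _ _ _ (IsHomLift.id rfl))
      (fun φ => fp_hom_ext ((Category.comp_id _).trans (Category.id_comp _).symm)
        ((Category.comp_id _).trans (Category.id_comp _).symm))
  have hk : IsFibGrpd (fp (BasedFunctor.comp f p') k).p := fibGrpd_fp h𝒳 h𝒴 h𝒵 _ _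
  have hk' : IsFibGrpd (fp p' k).p := fibGrpd_fp h𝒳' h𝒴 h𝒵 _ _
  exact (diag_transport (a := BasedFunctor.id _) (b := BasedFunctor.id _) (f' := BasedFunctor.comp h₁ h₂)
    (f := fpLift (BasedFunctor.comp (fpFst (BasedFunctor.comp f p') k) f) (BasedFunctor.comp (fpSnd (BasedFunctor.comp f p') k) g) e)
    (isEquivOver_id _) (isEquivOver_id _) i).1 (diag_comp hτ hR hP hPc hk hk' d₁ d₂)

end Groth.Agent.Stk19
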