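import Groth.Agent.Stk19.AlgSt.Sep
import Groth.Agent.Stk19.AlgSt.SepSp
import Groth.Agent.Stk19.RepDiag

/-! The diagonal of an algebraic stack is locally of finite type. -/

set_option autoImplicit false
set_option backward.isDefEq.respectTransparency false
set_option backward.isDefEq.respectTransparency.types false

universe u

open CategoryTheory CategoryTheory.Limits AlgebraicGeometry Opposite FibCat Groth.Agent.Desc19

namespace Groth.Agent.Stk19

variable {S : Scheme.{u}} {P : MorphismProperty (AlgSp.Sp S)}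
variable {𝒳 𝒴 𝒵 : AlgSt.Cat S}

theorem respSrc_locP {Q : MorphismProperty Scheme.{u}} (hQ : AlgSpLib.EtLocal Q) :
    RespSrc (AlgSp.LocP (S := S) Q) := respSrc_of_baseChange (pbStable_locP hQ)

theorem respSrc_surjective : RespSrc (AlgSp.IsSurjectiveMor (S := S)) := fun X X' U _ _ σ a ha => by
  intro x
  obtain ⟨z, rfl⟩ := ha x
  refine ⟨AlgSp.Points.map σ.inv z, ?_⟩
  rw [← AlgSp.Points.map_comp, Iso.inv_hom_id_assoc]

theorem key {U T W : Over S} {u : overCat U ⥤ᵇ 𝒳} {x : overCat T ⥤ᵇ 𝒳} {F : AlgSp.Sp S}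
    (e : AlgSt.ofSp F ⥤ᵇ fp x u) (l : (AlgSp.yon S).obj W ⟶ F) {c : W ⟶ T}
    (hl : (AlgSp.yon S).map c = l ≫ AlgSt.spMapOfOver (BasedFunctor.comp e (fpFst x u))) :
    Nonempty (BasedFunctor.comp (BasedFunctor.comp (BasedFunctor.comp (AlgSt.ofOverCat W) (AlgSt.ofSpMap l))
        (BasedFunctor.comp e (fpSnd x u))) u ≅ BasedFunctor.comp (AlgSt.overMap c) x) := by
  obtain ⟨i⟩ := spMapOfOver_iso (BasedFunctor.comp e (fpFst x u))
  let p := BasedFunctor.comp (BasedFunctor.comp (AlgSt.ofOverCat W) (AlgSt.ofSpMap l)) e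
  refine ⟨(Stk.restr p _).mapIso (fpIso x u).symm ≪≫
    (postB _ x).mapIso ((Stk.restr (BasedFunctor.comp (AlgSt.ofOverCat W) (AlgSt.ofSpMap l)) _).mapIso i) ≪≫ eqToIso ?_⟩
  show BasedFunctor.comp (BasedFunctor.comp (AlgSt.ofOverCat W) (AlgSt.ofSpMap l))
      (BasedFunctor.comp (BasedFunctor.comp (AlgSt.ofSpMap (AlgSt.spMapOfOver (BasedFunctor.comp e (fpFst x u))))
        (AlgSt.toOverCat T)) x) = _
  rw [show BasedFunctor.comp (AlgSt.overMap c) x =
      BasedFunctor.comp (BasedFunctor.comp (AlgSt.ofOverCat W) (AlgSt.ofSpMap ((AlgSp.yon S).map c)))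
        (BasedFunctor.comp (AlgSt.toOverCat T) x) from rfl, hl]
  rfl

/-- A smooth surjective scheme cover through which two points lift to the atlas. -/
theorem exists_cover_lift {U T : Over S} {u : overCat U ⥤ᵇ 𝒳}
    (hu : AlgSt.RepByAlgSpWith (AlgSp.LocP @Smooth) u) (hus : AlgSt.RepByAlgSpWith AlgSp.IsSurjectiveMor u)
    (x₁ x₂ : overCat T ⥤ᵇ 𝒳) :
    ∃ (W : Over S) (c : W ⟶ T) (_ : Smooth c.left) (_ : Surjective c.left) (l₁ l₂ : overCat W ⥤ᵇ overCat U),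
      Nonempty (BasedFunctor.comp l₁ u ≅ BasedFunctor.comp (AlgSt.overMap c) x₁) ∧
      Nonempty (BasedFunctor.comp l₂ u ≅ BasedFunctor.comp (AlgSt.overMap c) x₂) := by
  have hQ₀ := repByAlgSpWith_and respSrc_surjective hu hus
  obtain ⟨F₁, e₁, he₁, ha₁⟩ := hQ₀ T x₁
  obtain ⟨F₂, e₂, he₂, ha₂⟩ := hQ₀ T x₂
  set a₁ := AlgSt.spMapOfOver (BasedFunctor.comp e₁ (fpFst x₁ u))
  set a₂ := AlgSt.spMapOfOver (BasedFunctor.comp e₂ (fpFst x₂ u))
  have sq := IsPullback.of_hasPullback a₁ a₂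
  have hF : AlgSp.IsAlgSpace (pullback a₁ a₂) :=
    AlgSpLib.isAlgSpace_pullback (Z := ⟨_, AlgSp.IsAlgSpace.yon_obj T⟩) a₁ a₂
  obtain ⟨W, w, hwe, hws⟩ := hF.atlas
  obtain ⟨c, hc⟩ := (AlgSp.yon S).map_surjective (w ≫ pullback.fst a₁ a₂ ≫ a₁)
  have hsm : AlgSp.LocP @Smooth (w ≫ pullback.fst a₁ a₂ ≫ a₁) := by
    refine AlgSpLib.locP_comp AlgSpLib.etLocal_smooth (AlgSp.IsAlgSpace.yon_obj W) hF (AlgSp.IsAlgSpace.yon_obj T) ?_
      (AlgSpLib.locP_comp AlgSpLib.etLocal_smooth hF F₁.property (AlgSp.IsAlgSpace.yon_obj T) ?_ ha₁.1)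
    · exact AlgSpLib.locP_of_repWith AlgSpLib.etLocal_smooth (AlgSp.IsAlgSpace.yon_obj W)
        (AlgSpLib.RepWith.mono (fun _ _ f (_ : Etale f) => (inferInstance : Smooth f)) hwe)
    · exact AlgSpLib.locP_of_isPullback AlgSpLib.etLocal_smooth F₂.property (AlgSp.IsAlgSpace.yon_obj T) hF sq.flip ha₂.1
  have hsj : Function.Surjective (AlgSp.Points.map (w ≫ pullback.fst a₁ a₂ ≫ a₁)) := fun x => by
    obtain ⟨y, rfl⟩ := ha₁.2 x
    obtain ⟨z, rfl⟩ := AlgSpLib.surjective_map_of_isPullback sq.flip ha₂.2 y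
    obtain ⟨r, rfl⟩ := AlgSpLib.surjective_map_of_repWith hws z
    exact ⟨r, by rw [AlgSp.Points.map_comp, AlgSp.Points.map_comp]⟩
  rw [← hc] at hsm hsj
  refine ⟨W, c, AlgSp.locP_yon_map hsm, (AlgSpLib.surjective_map_yon_map_iff c).1 hsj,
    BasedFunctor.comp (BasedFunctor.comp (AlgSt.ofOverCat W) (AlgSt.ofSpMap (w ≫ pullback.fst a₁ a₂)))
      (BasedFunctor.comp e₁ (fpSnd x₁ u)),
    BasedFunctor.comp (BasedFunctor.comp (AlgSt.ofOverCat W) (AlgSt.ofSpMap (w ≫ pullback.snd a₁ a₂)))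
      (BasedFunctor.comp e₂ (fpSnd x₂ u)), ?_, ?_⟩
  all_goals
    first
    | exact key e₁ (w ≫ pullback.fst a₁ a₂) (by rw [hc, Category.assoc])
    | exact key e₂ (w ≫ pullback.snd a₁ a₂) (by rw [hc, Category.assoc, pullback.condition])

/-- The projection of `U ×_𝒳 U` to `U × U` is locally of finite type. -/
theorem fpToProd_lft {U : Over S} (u : overCat U ⥤ᵇ 𝒳) (hu : AlgSt.RepByAlgSpWith (AlgSp.LocP @Smooth) u) :
    AlgSt.RepByAlgSpWith (AlgSp.LocP @LocallyOfFiniteType) (fpToProd u u) := by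
  have h₁ : AlgSt.RepByAlgSpWith (AlgSp.LocP @LocallyOfFiniteType)
      (BasedFunctor.comp (fpToProd u u) (fpFst (toSelf (overCat U)) (toSelf (overCat U)))) :=
    repByAlgSpWith_mono (fun _ _ _ _ ha => AlgSpLib.locP_mono
      (fun _ _ f (_ : Smooth f) => (inferInstance : LocallyOfFiniteType f)) ha) (repByAlgSpWith_fpFst u hu)
  refine repByAlgSpWith_of_comp (Q := ⊤) (pbStable_locP AlgSpLib.etLocal_lft) ?_
    (repByAlgSp1_iff_with_top.1 (repByAlgSp1_of_repByAlgSp _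
      (repByAlgSp_prod (repByAlgSp_overCat U) (repByAlgSp_overCat U)) (repByAlgSp_overCat U))) h₁
  intro X Y Z hX hY hZ a b _ hab
  exact AlgSpLib.locP_of_comp' (Q := ⊤) AlgSpLib.etLocal_lft hX hY hZ
    (fun A B C f g hfg _ => by
      have : LocallyOfFiniteType (f ≫ g) := hfg
      exact locallyOfFiniteType_of_comp f g) hab (AlgSpLib.locP_top b)

/-- The diagonal of an algebraic stack is locally of finite type. -/
theorem diag_toSelf_lft {K : Precoverage Scheme.{u}} (h : AlgSt.IsAlgStack K 𝒳) :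
    AlgSt.RepByAlgSpWith (AlgSp.LocP @LocallyOfFiniteType) (FibCat.diag (toSelf 𝒳)) := fun T z => by
  obtain ⟨U, u, hu, hus⟩ := h.atlas
  obtain ⟨W, c, _, _, l₁, l₂, ⟨i₁⟩, ⟨i₂⟩⟩ := exists_cover_lift hu hus
    (BasedFunctor.comp z (fpFst (toSelf 𝒳) (toSelf 𝒳))) (BasedFunctor.comp z (fpSnd (toSelf 𝒳) (toSelf 𝒳)))
  let w : overCat W ⥤ᵇ fp (toSelf (overCat U)) (toSelf (overCat U)) := pairSelf l₁ l₂
  let i : BasedFunctor.comp w (prodPair u u) ≅ BasedFunctor.comp (AlgSt.overMap c) z :=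
    isoMk (fun a => prodIso (appIso i₁ a) (appIso i₂ a) (by
        show 𝒳.p.map (i₂.hom.toNatTrans.app a) = _ ≫ 𝒳.p.map (i₁.hom.toNatTrans.app a) ≫ _
        rw [based_app_map i₂.hom a, based_app_map i₁.hom a]
        simp))
      (fun a => fpIsoMk_vert _ _ _ (vert_change 𝒳.p _ (based_vert i₁ a) rfl))
      (fun φ => fp_hom_ext (i₁.hom.toNatTrans.naturality φ) (i₂.hom.toNatTrans.naturality φ))
  have hw : AlgSt.RepByAlgSpWith (AlgSp.LocP @LocallyOfFiniteType) (fpFst (prodPair u u) (FibCat.diag (toSelf 𝒳))) :=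
    (repByAlgSpWith_iff_of_square (f' := fpToProd u u) (f := fpFst (prodPair u u) (FibCat.diag (toSelf 𝒳)))
      (a := magicSquare u u) (b := BasedFunctor.id _) (isEquivOver_magicSquare u u) (isEquivOver_id _)
      (Iso.refl _)).1 (fpToProd_lft u hu)
  obtain ⟨E, hE, hE', -⟩ := exists_congr (F := BasedFunctor.comp w (prodPair u u)) (G := FibCat.diag (toSelf 𝒳))
    i (Iso.refl _)
  have hW := witness_transfer (isEquivOver_comp (isEquivOver_fpPaste w (prodPair u u) (FibCat.diag (toSelf 𝒳))) hE)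
    (q' := fpFst (BasedFunctor.comp (AlgSt.overMap c) z) (FibCat.diag (toSelf 𝒳)))
    (eqToIso (show BasedFunctor.comp (fpPaste w (prodPair u u) (FibCat.diag (toSelf 𝒳)))
      (BasedFunctor.comp E (fpFst _ (FibCat.diag (toSelf 𝒳)))) = _ by rw [hE', fpPaste_fst])) (hw W w)
  obtain ⟨F, e, he⟩ := h.diag T z
  have := id_full (fp (toSelf 𝒳) (toSelf 𝒳))
  have := id_faithful (fp (toSelf 𝒳) (toSelf 𝒳))
  let z' := BasedFunctor.comp (AlgSt.toOverCat T) z
  let E' : fp z (FibCat.diag (toSelf 𝒳)) ⥤ᵇ fp z' (FibCat.diag (toSelf 𝒳)) :=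
    fpMap (F' := z') (G' := FibCat.diag (toSelf 𝒳)) (AlgSt.ofOverCat T) (BasedFunctor.id _) (BasedFunctor.id _)
      (Iso.refl _) (Iso.refl _)
  have hE'' : IsEquivOver E' := isEquivOver_fpMap _ _ _ _ _ (isEquivOver_ofOverCat T) (isEquivOver_id _)
  obtain ⟨j⟩ := spHom_iso (BasedFunctor.comp (BasedFunctor.comp e (fpFst z (FibCat.diag (toSelf 𝒳)))) (AlgSt.ofOverCat T))
  set a := AlgSt.spMapOfOver (BasedFunctor.comp e (fpFst z (FibCat.diag (toSelf 𝒳))))
  have hs := prop_of_chart (respSrc_locP AlgSpLib.etLocal_lft) (isAlgSpace_pullback_yon (Z := ⟨_, AlgSp.IsAlgSpace.yon_obj T⟩) a ((AlgSp.yon S).map c))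
    z' (e := BasedFunctor.comp e E') (isEquivOver_comp he hE'') (a := a) j (IsPullback.of_hasPullback a ((AlgSp.yon S).map c))
    (y := BasedFunctor.comp (AlgSt.overMap c) z) (Iso.refl _) hW
  refine ⟨F, e, he, ?_⟩
  exact locP_of_scheme_cover AlgSpLib.etLocal_lft c F.property a (IsPullback.of_hasPullback a ((AlgSp.yon S).map c)) hs

/-- Every diagonal of a morphism to an algebraic stack is locally of finite type. -/
theorem diag_lft {K K' : Precoverage Scheme.{u}} (h𝒳 : AlgSt.IsAlgStack K 𝒳) (h𝒴 : AlgSt.IsAlgStack K' 𝒴)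
    (f : 𝒳 ⥤ᵇ 𝒴) : AlgSt.RepByAlgSpWith (AlgSp.LocP @LocallyOfFiniteType) (FibCat.diag f) := by
  refine of_comp_graph (pbStable_locP AlgSpLib.etLocal_lft) (schemeTested_locP AlgSpLib.etLocal_lft)
    (compStable_locP AlgSpLib.etLocal_lft) h𝒳.isStack.1 (fibGrpd_fp h𝒳.isStack.1 h𝒳.isStack.1 h𝒴.isStack.1 f f)
    (fibGrpd_fp h𝒳.isStack.1 h𝒳.isStack.1 fibGrpd_selfOver _ _)
    (g := fpPush f f (toSelf 𝒴)) ?_ ?_
  · exact diag_of_rep1 (pbStable_locP AlgSpLib.etLocal_lft)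
      (repByAlgSp1_of_with (fpPush_with' f f (repByAlgSp1_iff_with_top.1 h𝒴.diag)))
      fun V Z a => locP_lft_diagonal V.property a
  · exact repByAlgSpWith_of_iso (diagCompIso f (toSelf 𝒴)).symm
      ((diag_transport (f' := BasedFunctor.comp f (toSelf 𝒴)) (f := toSelf 𝒳) (a := BasedFunctor.id _)
        (b := BasedFunctor.id _) (isEquivOver_id _) (isEquivOver_id _) (selfIso _ _)).2 (diag_toSelf_lft h𝒳))

section OfComp

variable {K K' K'' : Precoverage Scheme.{u}}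

/-- Separation properties of `f` from those of `f ≫ g`. -/
theorem diag_of_comp (h𝒳 : AlgSt.IsAlgStack K 𝒳) (h𝒴 : AlgSt.IsAlgStack K' 𝒴) (h𝒵 : IsFibGrpd 𝒵.p)
    (hPb : PbStable P) (hS : SchemeTested P) (hPc : CompStable P) (f : 𝒳 ⥤ᵇ 𝒴) (g : 𝒴 ⥤ᵇ 𝒵)
    {R : MorphismProperty (AlgSp.Sp S)} (hg : AlgSt.RepByAlgSpWith R (FibCat.diag g))
    (hR : ∀ (V Z : AlgSp.Space S) (a : V.obj ⟶ Z.obj), R a → P (pullback.diagonal a))
    (h : AlgSt.RepByAlgSpWith P (FibCat.diag (BasedFunctor.comp f g))) :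
    AlgSt.RepByAlgSpWith P (FibCat.diag f) :=
  of_comp_graph hPb hS hPc h𝒳.isStack.1 (fibGrpd_fp h𝒳.isStack.1 h𝒳.isStack.1 h𝒴.isStack.1 f f)
    (fibGrpd_fp h𝒳.isStack.1 h𝒳.isStack.1 h𝒵 _ _) (g := fpPush f f g)
    (diag_of_with hPb (fpPush_with' f f hg) hR) (repByAlgSpWith_of_iso (diagCompIso f g).symm h)

end OfComp

theorem pbStable_mono : PbStable (MorphismProperty.monomorphisms (AlgSp.Sp S)) :=
  fun _ _ _ _ _ _ _ _ _ _ _ _ sq ha => MorphismProperty.of_isPullback sq ha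

theorem diagonal_proper_of_mono (V Z : AlgSp.Space S) (a : V.obj ⟶ Z.obj)
    (ha : MorphismProperty.monomorphisms (AlgSp.Sp S) a) : AlgSp.IsProperMor (pullback.diagonal a) :=
  diagonal_isProperMor V.property (have : Mono a := ha; diagWith_of_mono (Q := @IsClosedImmersion) a)

end Groth.Agent.Stk19
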