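import Groth.Agent.Stk19.AlgSt.SepDiag
import Groth.Agent.AlgSpLib.MorTop

/-! Locality on the source of properties representable by algebraic spaces. -/

set_option autoImplicit false
set_option backward.isDefEq.respectTransparency false
set_option backward.isDefEq.respectTransparency.types false

universe u

open CategoryTheory CategoryTheory.Limits AlgebraicGeometry Opposite FibCat Groth.Agent.Desc19

namespace Groth.Agent.Stk19

variable {S : Scheme.{u}} {P : MorphismProperty (AlgSp.Sp S)} {𝒳 𝒴 𝒵 : AlgSt.Cat S}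

theorem atlasDescent_locP {Q : MorphismProperty Scheme.{u}} (hQ : AlgSpLib.EtLocal Q) :
    AtlasDescent (AlgSp.LocP (S := S) Q) := fun V Z a W p hpe hps h =>
  AlgSpLib.locP_of_target_cover hQ V.property Z.property p hpe hps (IsPullback.of_hasPullback a p) h

theorem atlasDescent_surjective : AtlasDescent (AlgSp.IsSurjectiveMor (S := S)) := fun V Z a W p _ hps h z => by
  obtain ⟨w, rfl⟩ := AlgSpLib.surjective_map_of_repWith hps z
  obtain ⟨r, rfl⟩ := h w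
  exact ⟨AlgSp.Points.map (pullback.fst a p) r, by
    rw [← AlgSp.Points.map_comp, pullback.condition, AlgSp.Points.map_comp]⟩

theorem rep_locP {Q : MorphismProperty Scheme.{u}} (hQ : AlgSpLib.EtLocal Q) {f : 𝒳 ⥤ᵇ 𝒴}
    (hf : AlgSt.RepByAlgSpWith (AlgSp.LocP Q) f) {V Z : AlgSp.Space S} (z : AlgSt.ofSp Z.obj ⥤ᵇ 𝒴)
    {e : AlgSt.ofSp V.obj ⥤ᵇ fp z f} (he : IsEquivOver e) {a : V.obj ⟶ Z.obj}
    (i : BasedFunctor.comp e (fpFst z f) ≅ AlgSt.ofSpMap a) : AlgSp.LocP Q a :=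
  rep_prop_desc (respSrc_locP hQ) (atlasDescent_locP hQ) hf z he i

theorem rep_surjective {f : 𝒳 ⥤ᵇ 𝒴} (hf : AlgSt.RepByAlgSpWith AlgSp.IsSurjectiveMor f) {V Z : AlgSp.Space S}
    (z : AlgSt.ofSp Z.obj ⥤ᵇ 𝒴) {e : AlgSt.ofSp V.obj ⥤ᵇ fp z f} (he : IsEquivOver e) {a : V.obj ⟶ Z.obj}
    (i : BasedFunctor.comp e (fpFst z f) ≅ AlgSt.ofSpMap a) : AlgSp.IsSurjectiveMor a :=
  rep_prop_desc respSrc_surjective atlasDescent_surjective hf z he i

/-- Source locality. -/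
theorem with_of_comp_cover {τ : AlgSp.CovNotion S} (hR : RespSrc P) (hP : AlgSp.IsLocalOnSource τ P)
    (h𝒳 : IsFibGrpd 𝒳.p) (h𝒴 : IsFibGrpd 𝒴.p) {x : 𝒳 ⥤ᵇ 𝒴} {y : 𝒴 ⥤ᵇ 𝒵} (hx : AlgSt.RepByAlgSp1 x)
    (hy : AlgSt.RepByAlgSp1 y)
    (hτ : ∀ {V W : AlgSp.Space S} (z : AlgSt.ofSp W.obj ⥤ᵇ 𝒴) (a : V.obj ⟶ W.obj)
      {e : AlgSt.ofSp V.obj ⥤ᵇ fp z x}, IsEquivOver e → (BasedFunctor.comp e (fpFst z x) ≅ AlgSt.ofSpMap a) →
      τ (fun _ : PUnit.{u + 1} => V.obj) (fun _ => a))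
    (h : AlgSt.RepByAlgSpWith P (BasedFunctor.comp x y)) : AlgSt.RepByAlgSpWith P y := fun U t => by
  obtain ⟨W, eW, heW⟩ := hy U t
  let z := BasedFunctor.comp eW (fpSnd t y)
  obtain ⟨V, a, e, he, ⟨i⟩⟩ := exists_rep_map h𝒳 h𝒴 hx W z
  have : (BasedFunctor.id 𝒴).toFunctor.Full := id_full _
  have : (BasedFunctor.id 𝒴).toFunctor.Faithful := id_faithful _
  let E : fp z x ⥤ᵇ fp (fpSnd t y) x :=
    fpMap (F' := fpSnd t y) (G' := x) eW (BasedFunctor.id _) (BasedFunctor.id _) (Iso.refl _) (Iso.refl _)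
  have hE : IsEquivOver E := isEquivOver_fpMap _ _ _ _ _ heW (isEquivOver_id _)
  let e' := BasedFunctor.comp e (BasedFunctor.comp E (fpCompFactor t x y))
  have he' : IsEquivOver e' := isEquivOver_comp he (isEquivOver_comp hE (isEquivOver_fpCompFactor t x y))
  obtain ⟨F, e₀, he₀, hp⟩ := h U t
  have hV : P (AlgSt.spMapOfOver (BasedFunctor.comp e' (fpFst t (BasedFunctor.comp x y)))) :=
    repWith_any hR he₀ hp (F' := V) e' he'
  have k : BasedFunctor.comp e' (fpFst t (BasedFunctor.comp x y)) =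
      BasedFunctor.comp (BasedFunctor.comp e (fpFst z x)) (BasedFunctor.comp eW (fpFst t y)) := rfl
  rw [k, spMapOfOver_comp, spHom_congr i.hom, spHom_ofSpMap] at hV
  refine ⟨W, eW, heW, ?_⟩
  exact (hP (fun _ : PUnit.{u + 1} => V.obj) (fun _ => a.hom) W.property (fun _ => V.property)
    (hτ z a.hom he i) _ (AlgSp.IsAlgSpace.yon_obj U)).2 fun _ => hV

end Groth.Agent.Stk19
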