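import Groth.Agent.Stk19.AlgSt.SepDiag
import Groth.Agent.Stk19.AlgSt.SrcLocal
import Groth.Agent.Stk19.ProdMap
import Groth.Agent.Stk19.RelStack
import Groth.Agent.Stk19.Stack
import Groth.Prelude.Def_AlgSt2

/-! Products and fibre products of algebraic stacks. -/

set_option autoImplicit false
set_option backward.isDefEq.respectTransparency false
set_option backward.isDefEq.respectTransparency.types false

universe u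

open CategoryTheory CategoryTheory.Limits AlgebraicGeometry Opposite FibCat Groth.Agent.Desc19

namespace Groth.Agent.Stk19

variable {S : Scheme.{u}} {P : MorphismProperty (AlgSp.Sp S)} {𝒳 𝒴 𝒵 : AlgSt.Cat S}

theorem repByAlgSp1_fpToProd (hΔ : AlgSt.RepByAlgSp1 (FibCat.diag (toSelf 𝒵))) (f : 𝒳 ⥤ᵇ 𝒵) (g : 𝒴 ⥤ᵇ 𝒵) :
    AlgSt.RepByAlgSp1 (fpToProd f g) :=
  (repByAlgSp1_iff_of_square (f' := fpToProd f g) (f := fpFst (prodPair f g) (FibCat.diag (toSelf 𝒵)))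
    (a := magicSquare f g) (b := BasedFunctor.id _) (isEquivOver_magicSquare f g) (isEquivOver_id _) (Iso.refl _)).2
    (repByAlgSp1_fpFst _ hΔ)

theorem prodLeft_with {𝒳' : AlgSt.Cat S} {f : 𝒳 ⥤ᵇ 𝒴} (h : AlgSt.RepByAlgSpWith P f) :
    AlgSt.RepByAlgSpWith P (prodMapB f (BasedFunctor.id 𝒳')) :=
  (repByAlgSpWith_iff_of_square (f' := prodMapB f (BasedFunctor.id 𝒳')) (f := fpFst (fpFst (toSelf 𝒴) (toSelf 𝒳')) f)
    (a := prodLeft f 𝒳') (b := BasedFunctor.id _) (isEquivOver_prodLeft f 𝒳') (isEquivOver_id _) (Iso.refl _)).2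
    (repByAlgSpWith_fpFst _ h)

theorem prodRight_with {𝒳' : AlgSt.Cat S} {f : 𝒳 ⥤ᵇ 𝒴} (h : AlgSt.RepByAlgSpWith P f) :
    AlgSt.RepByAlgSpWith P (prodMapB (BasedFunctor.id 𝒳') f) :=
  (repByAlgSpWith_iff_of_square (f' := prodMapB (BasedFunctor.id 𝒳') f) (f := fpFst (fpSnd (toSelf 𝒳') (toSelf 𝒴)) f)
    (a := prodRight f 𝒳') (b := BasedFunctor.id _) (isEquivOver_prodRight f 𝒳') (isEquivOver_id _) (Iso.refl _)).2
    (repByAlgSpWith_fpFst _ h)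

theorem repByAlgSp1_prodMap {𝒳' 𝒴' : AlgSt.Cat S} (h𝒳 : IsFibGrpd 𝒳.p) (h𝒳' : IsFibGrpd 𝒳'.p) (h𝒴 : IsFibGrpd 𝒴.p)
    {f : 𝒳 ⥤ᵇ 𝒴} {f' : 𝒳' ⥤ᵇ 𝒴'} (hf : AlgSt.RepByAlgSp1 f) (hf' : AlgSt.RepByAlgSp1 f') :
    AlgSt.RepByAlgSp1 (prodMapB f f') :=
  repByAlgSp1_of_iso (prodMapFactor f f') (repByAlgSp1_comp (fibGrpd_fp h𝒳 h𝒳' fibGrpd_selfOver _ _)
    (fibGrpd_fp h𝒴 h𝒳' fibGrpd_selfOver _ _)
    (repByAlgSp1_of_with (prodLeft_with (repByAlgSp1_iff_with_top.1 hf)))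
    (repByAlgSp1_of_with (prodRight_with (repByAlgSp1_iff_with_top.1 hf'))))

theorem diag_prod_rep1 (h𝒳 : IsFibGrpd 𝒳.p) (h𝒴 : IsFibGrpd 𝒴.p) (hX : AlgSt.RepByAlgSp1 (FibCat.diag (toSelf 𝒳)))
    (hY : AlgSt.RepByAlgSp1 (FibCat.diag (toSelf 𝒴))) :
    AlgSt.RepByAlgSp1 (FibCat.diag (toSelf (fp (toSelf 𝒳) (toSelf 𝒴)))) :=
  (repByAlgSp1_diag_iff (fibGrpd_fp h𝒳 h𝒴 fibGrpd_selfOver _ _)).2 fun U z => by
    let a := BasedFunctor.comp z (fpFst (toSelf 𝒳) (toSelf 𝒴))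
    let b := BasedFunctor.comp z (fpSnd (toSelf 𝒳) (toSelf 𝒴))
    let d : overCat U ⥤ᵇ fp (toSelf (overCat U)) (toSelf (overCat U)) :=
      pairSelf (BasedFunctor.id _) (BasedFunctor.id _)
    let i : BasedFunctor.comp d (prodMapB a b) ≅ z :=
      isoMk (fun t => prodIso (Iso.refl _) (Iso.refl _) (by simp))
        (fun t => fpIsoMk_vert _ _ _ (IsHomLift.id rfl))
        (fun φ => fp_hom_ext ((Category.comp_id _).trans (Category.id_comp _).symm)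
          ((Category.comp_id _).trans (Category.id_comp _).symm))
    refine repByAlgSp1_of_iso i (repByAlgSp1_comp (isFibGrpd_overCat U)
      (fibGrpd_fp (isFibGrpd_overCat U) (isFibGrpd_overCat U) fibGrpd_selfOver _ _)
      (repByAlgSp1_of_repByAlgSp d (repByAlgSp_overCat U) (repByAlgSp_prod (repByAlgSp_overCat U) (repByAlgSp_overCat U)))
      (repByAlgSp1_prodMap (isFibGrpd_overCat U) (isFibGrpd_overCat U) h𝒳
        ((repByAlgSp1_diag_iff h𝒳).1 hX U a) ((repByAlgSp1_diag_iff h𝒴).1 hY U b)))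

theorem diag_fp_rep1 (h𝒳 : IsFibGrpd 𝒳.p) (h𝒴 : IsFibGrpd 𝒴.p) (h𝒵 : IsFibGrpd 𝒵.p)
    (hX : AlgSt.RepByAlgSp1 (FibCat.diag (toSelf 𝒳))) (hY : AlgSt.RepByAlgSp1 (FibCat.diag (toSelf 𝒴)))
    (hZ : AlgSt.RepByAlgSp1 (FibCat.diag (toSelf 𝒵))) (f : 𝒳 ⥤ᵇ 𝒵) (g : 𝒴 ⥤ᵇ 𝒵) :
    AlgSt.RepByAlgSp1 (FibCat.diag (toSelf (fp f g))) := by
  have hG := repByAlgSp1_fpToProd hZ f g
  have hp := fibGrpd_fp h𝒳 h𝒴 fibGrpd_selfOver (toSelf 𝒳) (toSelf 𝒴)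
  refine (repByAlgSp1_diag_iff (fibGrpd_fp h𝒳 h𝒴 h𝒵 f g)).2 fun U x => ?_
  exact repByAlgSp1_of_comp x (fpToProd f g) (fibGrpd_fp h𝒳 h𝒴 h𝒵 f g) hp
    ((repByAlgSp1_diag_iff hp).1 (diag_prod_rep1 h𝒳 h𝒴 hX hY) U _)
    (repByAlgSp1_of_with (diag_of_rep1 (P := ⊤) (fun _ _ _ _ _ _ _ _ _ _ _ _ _ _ => trivial) hG fun _ _ _ => trivial))

/-- Atlases of a fibre product. -/
theorem hasAtlas_fp (hR : RespSrc P) (hD : AtlasDescent P) (hPb : PbStable P) (hPc : CompStable P)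
    (hId : ∀ U : Over S, P (𝟙 ((AlgSp.yon S).obj U)))
    (hAt : ∀ {W : Over S} {Z : AlgSp.Space S} (q : (AlgSp.yon S).obj W ⟶ Z.obj), AlgSp.RepWith @Etale q →
      AlgSp.RepWith @Surjective q → P q)
    (h𝒳 : IsFibGrpd 𝒳.p) (h𝒴 : IsFibGrpd 𝒴.p) (h𝒵 : IsFibGrpd 𝒵.p)
    (hZ : AlgSt.RepByAlgSp1 (FibCat.diag (toSelf 𝒵))) (f : 𝒳 ⥤ᵇ 𝒵) (g : 𝒴 ⥤ᵇ 𝒵)
    {U V : Over S} {x : overCat U ⥤ᵇ 𝒳} {y : overCat V ⥤ᵇ 𝒴} (hx : AlgSt.RepByAlgSpWith P x)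
    (hy : AlgSt.RepByAlgSpWith P y) : ∃ (W : Over S) (w : overCat W ⥤ᵇ fp f g), AlgSt.RepByAlgSpWith P w := by
  let xf := BasedFunctor.comp x f
  let yg := BasedFunctor.comp y g
  obtain ⟨T, e, he⟩ : AlgSt.RepByAlgSp (fp xf yg) :=
    repByAlgSp_fp_of_rep1 yg xf (isFibGrpd_overCat V) h𝒵 (repByAlgSp_overCat U)
      ((repByAlgSp1_diag_iff h𝒵).1 hZ V yg)
  obtain ⟨W, q, hqe, hqs⟩ := T.property.atlas
  obtain ⟨G, hG, -, -⟩ := exists_inverse (isEquivOver_fpCompFactor xf y g)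
  obtain ⟨G', hG', -, -⟩ := exists_inverse (isEquivOver_fpPaste x f g)
  have hU := isFibGrpd_overCat (C := Over S) U
  have hV := isFibGrpd_overCat (C := Over S) V
  have hN := fibGrpd_fp (fibGrpd_fp hU h𝒴 h𝒵 xf g) hV h𝒴 (fpSnd xf g) y
  have hM := fibGrpd_fp hU (fibGrpd_fp h𝒳 h𝒴 h𝒵 f g) h𝒳 x (fpFst f g)
  have hM' := fibGrpd_fp hU h𝒴 h𝒵 xf g
  have hT := fibGrpd_of_repByAlgSp (repByAlgSp_ofSp T)
  have s₁ : AlgSt.RepByAlgSpWith P (BasedFunctor.comp (BasedFunctor.comp (AlgSt.ofOverCat W) (AlgSt.ofSpMap q)) e) :=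
    repByAlgSpWith_comp_desc hR hD hPc (isFibGrpd_overCat W) hT
      (repByAlgSpWith_comp_desc hR hD hPc (isFibGrpd_overCat W) (fibGrpd_of_repByAlgSp (repByAlgSp_ofSp ⟨_, AlgSp.IsAlgSpace.yon_obj W⟩))
        (repByAlgSpWith_of_isEquivOver (isEquivOver_ofOverCat W) hId)
        (repByAlgSpWith_ofSpMap hPb (V := ⟨_, AlgSp.IsAlgSpace.yon_obj W⟩) q (hAt q hqe hqs)))
      (repByAlgSpWith_of_isEquivOver he hId)
  have s₂ : AlgSt.RepByAlgSpWith P (BasedFunctor.comp G (fpFst (fpSnd xf g) y)) :=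
    repByAlgSpWith_comp_desc hR hD hPc (fibGrpd_fp hU hV h𝒵 xf yg) hN
      (repByAlgSpWith_of_isEquivOver hG hId) (repByAlgSpWith_fpFst _ hy)
  have s₃ : AlgSt.RepByAlgSpWith P (BasedFunctor.comp G' (fpSnd x (fpFst f g))) :=
    repByAlgSpWith_comp_desc hR hD hPc hM' hM
      (repByAlgSpWith_of_isEquivOver hG' hId) (repByAlgSpWith_fpSnd _ hx)
  exact ⟨W, _, repByAlgSpWith_comp_desc hR hD hPc (isFibGrpd_overCat W) hM'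
    (repByAlgSpWith_comp_desc hR hD hPc (isFibGrpd_overCat W) (fibGrpd_fp hU hV h𝒵 xf yg) s₁ s₂) s₃⟩

theorem surjective_etale_map {W : Over S} {Z : AlgSp.Space S} (q : (AlgSp.yon S).obj W ⟶ Z.obj)
    (hqs : AlgSp.RepWith @Surjective q) : AlgSp.IsSurjectiveMor q :=
  AlgSpLib.surjective_map_of_repWith hqs

theorem pbStable_surjective : PbStable (AlgSp.IsSurjectiveMor (S := S)) :=
  fun _ _ _ _ _ _ _ _ _ _ _ _ sq ha => AlgSpLib.surjective_map_of_isPullback sq.flip.flip ha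

theorem compStable_surjective : CompStable (AlgSp.IsSurjectiveMor (S := S)) :=
  fun _ _ _ _ _ _ a b ha hb z => by
    obtain ⟨y, rfl⟩ := hb z
    obtain ⟨x, rfl⟩ := ha y
    exact ⟨x, AlgSp.Points.map_comp a b x⟩

theorem AtlasDescent.inf {Q : MorphismProperty (AlgSp.Sp S)} (h : AtlasDescent P) (h' : AtlasDescent Q) :
    AtlasDescent (P ⊓ Q) := fun _ _ a _ p i j hx => ⟨h a p i j hx.1, h' a p i j hx.2⟩

theorem surjective_id (U : Over S) : AlgSp.IsSurjectiveMor (𝟙 ((AlgSp.yon S).obj U)) := fun z =>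
  ⟨z, AlgSp.Points.map_id z⟩

/-- Atlases with an etale-local property. -/
theorem hasAtlas_fp_locP {Q : MorphismProperty Scheme.{u}} (hQ : AlgSpLib.EtLocal Q)
    (h𝒳 : IsFibGrpd 𝒳.p) (h𝒴 : IsFibGrpd 𝒴.p) (h𝒵 : IsFibGrpd 𝒵.p)
    (hZ : AlgSt.RepByAlgSp1 (FibCat.diag (toSelf 𝒵))) (f : 𝒳 ⥤ᵇ 𝒵) (g : 𝒴 ⥤ᵇ 𝒵)
    (hX : AlgSt.HasAtlas (AlgSp.LocP Q) 𝒳) (hY : AlgSt.HasAtlas (AlgSp.LocP Q) 𝒴) :
    AlgSt.HasAtlas (AlgSp.LocP Q) (fp f g) := by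
  obtain ⟨U, x, hx₁, hx₂⟩ := hX
  obtain ⟨V, y, hy₁, hy₂⟩ := hY
  have hPb : PbStable (AlgSp.LocP Q ⊓ AlgSp.IsSurjectiveMor : MorphismProperty (AlgSp.Sp S)) :=
    (pbStable_locP hQ).inf pbStable_surjective
  obtain ⟨W, w, hw⟩ := hasAtlas_fp (respSrc_of_baseChange hPb)
    ((atlasDescent_locP hQ).inf atlasDescent_surjective) hPb ((compStable_locP hQ).inf compStable_surjective)
    (fun U => ⟨AlgSpLib.locP_of_repWith hQ (AlgSp.IsAlgSpace.yon_obj U)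
      (AlgSpLib.RepWith.mono hQ.of_etale (AlgSp.repWith_id _ U)), surjective_id U⟩)
    (fun {W Z} q he hs => ⟨AlgSpLib.locP_of_repWith hQ (AlgSp.IsAlgSpace.yon_obj W)
      (AlgSpLib.RepWith.mono hQ.of_etale he), surjective_etale_map q hs⟩)
    h𝒳 h𝒴 h𝒵 hZ f g (repByAlgSpWith_and respSrc_surjective hx₁ hx₂) (repByAlgSpWith_and respSrc_surjective hy₁ hy₂)
  exact ⟨W, w, repByAlgSpWith_mono (fun _ _ _ _ ha => ha.1) hw, repByAlgSpWith_mono (fun _ _ _ _ ha => ha.2) hw⟩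

theorem isAlgStack_fp {K : Precoverage Scheme.{u}} (h𝒵 : Stk.IsStack (QuotSh.J K S) 𝒵)
    (hZ : AlgSt.RepByAlgSp1 (FibCat.diag (toSelf 𝒵))) (h𝒳 : AlgSt.IsAlgStack K 𝒳) (h𝒴 : AlgSt.IsAlgStack K 𝒴)
    (f : 𝒳 ⥤ᵇ 𝒵) (g : 𝒴 ⥤ᵇ 𝒵) : AlgSt.IsAlgStack K (fp f g) where
  isStack := isStack_fp f g _ h𝒳.isStack h𝒴.isStack (isStack_isPrestack h𝒵)
  diag := diag_fp_rep1 h𝒳.isStack.1 h𝒴.isStack.1 h𝒵.1 h𝒳.diag h𝒴.diag hZ f g
  atlas := hasAtlas_fp_locP AlgSpLib.etLocal_smooth h𝒳.isStack.1 h𝒴.isStack.1 h𝒵.1 hZ f g h𝒳.atlas h𝒴.atlas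

end Groth.Agent.Stk19
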