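import Groth.Agent.Stk19.AlgSt.LocQ
import Groth.Agent.EGA43.Limit.Basic

/-! Consequences of the chart description of `LocQ`. -/

set_option autoImplicit false
set_option backward.isDefEq.respectTransparency false
set_option backward.isDefEq.respectTransparency.types false

universe u

open CategoryTheory CategoryTheory.Limits AlgebraicGeometry Opposite FibCat Groth.Agent.Desc19

namespace Groth.Agent.Stk19

variable {S : Scheme.{u}} {P : MorphismProperty (AlgSp.Sp S)} {𝒳 𝒴 𝒵 : AlgSt.Cat S}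

local notation "AS" => AlgSt.IsAlgStack Scheme.fppfPrecoverage
local notation "Sm" => AlgSt.RepByAlgSpWith (AlgSp.LocP @Smooth)
local notation "Srj" => AlgSt.RepByAlgSpWith AlgSp.IsSurjectiveMor

/-- A lift is determined by its projections. -/
theorem fpLift_uniq {C : Type*} [Category C] {𝒜 ℬ 𝒞 𝒰 : BasedCategory C} {F : 𝒜 ⥤ᵇ 𝒞} {G : ℬ ⥤ᵇ 𝒞}
    (K : 𝒰 ⥤ᵇ fp F G) (b : 𝒰 ⥤ᵇ ℬ) (i : BasedFunctor.comp K (fpSnd F G) ≅ b) :
    Nonempty (K ≅ fpLift (BasedFunctor.comp K (fpFst F G)) b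
      ((Stk.restr K _).mapIso (fpIso F G) ≪≫ (postB _ G).mapIso i)) :=
  ⟨isoMk (fun a => fpIsoMk (Iso.refl _) (appIso i a) (by
      show F.map (𝟙 _) ≫ (K.obj a).obj.iso.hom ≫ G.map (i.hom.toNatTrans.app a) =
        (K.obj a).obj.iso.hom ≫ G.map (i.hom.toNatTrans.app a)
      rw [F.toFunctor.map_id]
      exact Category.id_comp _))
    (fun a => fpIsoMk_vert _ _ _ (IsHomLift.id rfl))
    (fun φ => fp_hom_ext ((Category.comp_id _).trans (Category.id_comp _).symm) (i.hom.toNatTrans.naturality φ))⟩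

/-- The every-square form. -/
theorem locQ_iff_squares (hP : AlgSp.IsSmoothLocalST P) (h𝒳 : AS 𝒳) (h𝒴 : AS 𝒴) (f : 𝒳 ⥤ᵇ 𝒴) :
    AlgSt.LocQ P f ↔ ∀ (U V : Over S) (x : overCat U ⥤ᵇ 𝒳) (y : overCat V ⥤ᵇ 𝒴) (h : U ⟶ V)
      (α : BasedFunctor.comp x f ≅ BasedFunctor.comp (AlgSt.overMap h) y),
      Sm x → Sm y → Sm (fpLift x (AlgSt.overMap h) α) → P ((AlgSp.yon S).map h) := by
  constructor
  · intro hf U V x y h α _ hy he
    refine good_of_locQ hP h𝒳 h𝒴 hf hy U (BasedFunctor.comp (fpLift x (AlgSt.overMap h) α) (fpSwap f y)) h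
      (with_comp_equiv (isEquivOver_fpSwap f y) he) (eqToIso ?_)
    exact based_ext rfl
  · intro hf
    obtain ⟨V, y, hy, hys⟩ := h𝒴.atlas
    refine locQ_of_good h𝒳 h𝒴 hy hys fun U e k he i => ?_
    let K := BasedFunctor.comp e (fpSwap y f)
    have hK : Sm K := with_comp_equiv (isEquivOver_fpSwap y f) he
    let j : BasedFunctor.comp K (fpSnd f y) ≅ AlgSt.overMap k :=
      eqToIso (show BasedFunctor.comp K (fpSnd f y) = BasedFunctor.comp e (fpFst y f) from based_ext rfl) ≪≫ i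
    obtain ⟨l⟩ := fpLift_uniq K (AlgSt.overMap k) j
    exact hf U V (BasedFunctor.comp K (fpFst f y)) y k
      ((Stk.restr K _).mapIso (fpIso f y) ≪≫ (postB _ y).mapIso j)
      (with_comp_locP AlgSpLib.etLocal_smooth
        (isAlgStack_fp h𝒴.isStack h𝒴.diag h𝒳 (isAlgStack_overCat V) f y).isStack.1 hK (repByAlgSpWith_fpFst f hy))
      hy (repByAlgSpWith_of_iso l hK)

theorem isSurjective_ofSpMap {F G : AlgSp.Sp S} {a : F ⟶ G} (h : AlgSt.IsSurjective (AlgSt.ofSpMap a)) :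
    AlgSp.IsSurjectiveMor a := fun z => by
  obtain ⟨x, hx⟩ := h (stPt z)
  obtain ⟨x', rfl⟩ := stPt_bijective.2 x
  exact ⟨x', stPt_bijective.1 ((map_stPt a x').symm.trans hx)⟩

theorem prop_of_locQ_ofSpMap (hP : AlgSp.IsSmoothLocalST P) {F G : AlgSp.Space S} (a : F ⟶ G)
    (h : AlgSt.LocQ P (AlgSt.ofSpMap a.hom)) : P a.hom := by
  obtain ⟨U, V, x, y, k, α, hx, hxs, hy, hk⟩ := h
  obtain ⟨i⟩ := spHom_iso (BasedFunctor.comp (AlgSt.toOverCat U) x)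
  obtain ⟨j⟩ := spHom_iso (BasedFunctor.comp (AlgSt.toOverCat V) y)
  have e : spHom (BasedFunctor.comp (AlgSt.toOverCat U) x) ≫ a.hom =
      (AlgSp.yon S).map k ≫ spHom (BasedFunctor.comp (AlgSt.toOverCat V) y) := by
    rw [← spHom_ofSpMap a.hom, ← spHom_ofSpMap ((AlgSp.yon S).map k), ← spHom_comp, ← spHom_comp]
    exact spHom_congr ((Stk.restr (AlgSt.toOverCat U) _).mapIso α).hom
  have hU := AlgSp.IsAlgSpace.yon_obj U
  have hV := AlgSp.IsAlgSpace.yon_obj V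
  refine smST_of_square hP F.property G.property hU hV _ _ _ ?_ ?_ ?_ e hk
  · exact prop_of_repByAlgSpWith_ofSpMap (pbStable_locP AlgSpLib.etLocal_smooth)
      (schemeTested_locP AlgSpLib.etLocal_smooth) (V := ⟨_, hU⟩) (Z := F) _
      (repByAlgSpWith_of_iso i (with_equiv_comp (isEquivOver_toOverCat U) hx))
  · refine isSurjective_ofSpMap fun p => ?_
    obtain ⟨q, rfl⟩ := isSurjective_of_with (setoid_ofSp F.obj).1 hxs p
    obtain ⟨r, rfl⟩ := (points_bijective_of_equiv (isEquivOver_toOverCat U)).2 q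
    exact ⟨r, by rw [← points_map_congr i, points_map_comp]⟩
  · exact prop_of_repByAlgSpWith_ofSpMap (pbStable_locP AlgSpLib.etLocal_smooth)
      (schemeTested_locP AlgSpLib.etLocal_smooth) (V := ⟨_, hV⟩) (Z := G) _
      (repByAlgSpWith_of_iso j (with_equiv_comp (isEquivOver_toOverCat V) hy))

/-- A chart square of algebraic spaces gives `LocQ`. -/
theorem locQ_of_spaces (hP : AlgSp.IsSmoothLocalST P) {f : 𝒳 ⥤ᵇ 𝒴}
    (h𝒳 : IsFibGrpd 𝒳.p) {U V : AlgSp.Space S}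
    {x : AlgSt.ofSp U.obj ⥤ᵇ 𝒳} {y : AlgSt.ofSp V.obj ⥤ᵇ 𝒴} {h : U.obj ⟶ V.obj}
    (α : BasedFunctor.comp x f ≅ BasedFunctor.comp (AlgSt.ofSpMap h) y)
    (hx : Sm x) (hxs : Srj x) (hy : Sm y) (hh : P h) : AlgSt.LocQ P f := by
  obtain ⟨V', b, hbe, hbs⟩ := V.property.atlas
  have sq := IsPullback.of_hasPullback h b
  have hQ : AlgSp.IsAlgSpace (pullback h b) := isAlgSpace_pullback_yon (Z := V) h b
  obtain ⟨U', w, hwe, hws⟩ := hQ.atlas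
  obtain ⟨k, hk⟩ := (AlgSp.yon S).map_surjective (w ≫ pullback.snd h b)
  have hae : AlgSp.RepWith @Etale (w ≫ pullback.fst h b) :=
    AlgSpLib.RepWith.comp hwe (AlgSpLib.RepWith.baseChange sq.flip hbe)
  have has : AlgSp.RepWith @Surjective (w ≫ pullback.fst h b) :=
    AlgSpLib.RepWith.comp hws (AlgSpLib.RepWith.baseChange sq.flip hbs)
  let c := BasedFunctor.comp (AlgSt.ofOverCat U') (AlgSt.ofSpMap (w ≫ pullback.fst h b))
  let d := BasedFunctor.comp (AlgSt.ofOverCat V') (AlgSt.ofSpMap b)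
  have hx' := with_comp_locP AlgSpLib.etLocal_smooth (setoid_ofSp U.obj).1
    (with_sp_chart AlgSpLib.etLocal_smooth U.property _ hae) hx
  have e : BasedFunctor.comp c (AlgSt.ofSpMap h) = BasedFunctor.comp (AlgSt.overMap k) d := by
    show BasedFunctor.comp (AlgSt.ofOverCat U') (AlgSt.ofSpMap ((w ≫ pullback.fst h b) ≫ h)) =
      BasedFunctor.comp (BasedFunctor.comp (AlgSt.overMap k) (AlgSt.ofOverCat V')) (AlgSt.ofSpMap b)
    rw [ofOver_overMap, hk, Category.assoc, pullback.condition, ← Category.assoc]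
    rfl
  refine ⟨U', V', BasedFunctor.comp c x, BasedFunctor.comp d y, k,
    (Stk.restr c _).mapIso α ≪≫ eqToIso (congrArg (fun t => BasedFunctor.comp t y) e), hx',
    repByAlgSpWith_comp_desc respSrc_surjective atlasDescent_surjective compStable_surjective
      (isFibGrpd_overCat U') (setoid_ofSp U.obj).1
      (with_equiv_comp (isEquivOver_ofOverCat U') (repByAlgSpWith_ofSpMap pbStable_surjective
        (V := ⟨_, AlgSp.IsAlgSpace.yon_obj U'⟩) (Z := U) _ (surjective_etale_map _ has))) hxs,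
    with_comp_locP AlgSpLib.etLocal_smooth (setoid_ofSp V.obj).1
      (with_sp_chart AlgSpLib.etLocal_smooth V.property b hbe) hy, ?_⟩
  rw [hk]
  exact hP.precomp (AlgSp.IsAlgSpace.yon_obj U') hQ (AlgSp.IsAlgSpace.yon_obj V') _ _
    (locP_atlas AlgSpLib.etLocal_smooth hwe)
    (hP.baseChange U.property V.property hQ (AlgSp.IsAlgSpace.yon_obj V') _ _ _ _ sq
      (locP_atlas AlgSpLib.etLocal_smooth hbe) hh)

/-- A representable morphism with `P` has `P` on every chart. -/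
theorem good_of_with (hP : AlgSp.IsSmoothLocalST P) {f : 𝒳 ⥤ᵇ 𝒴} (hf : AlgSt.RepByAlgSpWith P f)
    {V : Over S} (y : overCat V ⥤ᵇ 𝒴) : Good P f y := fun W e k he i => by
  obtain ⟨F, eF, heF, ha⟩ := hf V y
  obtain ⟨G, hG, -, ⟨c⟩⟩ := exists_inverse heF
  obtain ⟨iF⟩ := spMapOfOver_iso (BasedFunctor.comp eF (fpFst y f))
  obtain ⟨im⟩ := spHom_iso (BasedFunctor.comp (AlgSt.toOverCat W) (BasedFunctor.comp e G))
  set a := AlgSt.spMapOfOver (BasedFunctor.comp eF (fpFst y f))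
  have hm : AlgSp.LocP @Smooth (spHom (BasedFunctor.comp (AlgSt.toOverCat W) (BasedFunctor.comp e G))) :=
    prop_of_repByAlgSpWith_ofSpMap (pbStable_locP AlgSpLib.etLocal_smooth)
      (schemeTested_locP AlgSpLib.etLocal_smooth) (V := ⟨_, AlgSp.IsAlgSpace.yon_obj W⟩) (Z := F) _
      (repByAlgSpWith_of_iso im (with_equiv_comp (isEquivOver_toOverCat W) (with_comp_equiv hG he)))
  have e' : spHom (BasedFunctor.comp (AlgSt.toOverCat W) (BasedFunctor.comp e G)) ≫ a = (AlgSp.yon S).map k := by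
    rw [← spMapOfOver_comp]
    refine (spMapOfOver_congr ((Stk.restr (BasedFunctor.comp (AlgSt.toOverCat W) e) _).mapIso
      ((postB _ (fpFst y f)).mapIso c) ≪≫ (Stk.restr (AlgSt.toOverCat W) _).mapIso i).hom).trans ?_
    show AlgSt.spMapOfOver (BasedFunctor.comp (AlgSt.toOverCat W) (AlgSt.overMap k)) = _
    rw [spMapOfOver_overMap, spMapOfOver_toOverCat, Category.id_comp]
  rw [← e']
  exact hP.precomp (AlgSp.IsAlgSpace.yon_obj W) F.property (AlgSp.IsAlgSpace.yon_obj V) _ _ hm ha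

theorem locQ_of_with (hP : AlgSp.IsSmoothLocalST P) (h𝒳 : AS 𝒳) (h𝒴 : AS 𝒴) {f : 𝒳 ⥤ᵇ 𝒴}
    (hf : AlgSt.RepByAlgSpWith P f) : AlgSt.LocQ P f := by
  obtain ⟨V, y, hy, hys⟩ := h𝒴.atlas
  exact locQ_of_good h𝒳 h𝒴 hy hys (good_of_with hP hf y)

theorem with_of_locQ (hP : AlgSp.IsSmoothLocalST P) (hPb : PbStable P) (hD : SchDescent P)
    (h𝒳 : AS 𝒳) (h𝒴 : AS 𝒴) {f : 𝒳 ⥤ᵇ 𝒴} (hf : AlgSt.RepByAlgSp1 f) (h : AlgSt.LocQ P f) :
    AlgSt.RepByAlgSpWith P f := by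
  obtain ⟨V, y, hy, hys⟩ := h𝒴.atlas
  obtain ⟨F, eF, heF⟩ := hf V y
  obtain ⟨W, w, hwe, hws⟩ := F.property.atlas
  obtain ⟨k, hk⟩ := (AlgSp.yon S).map_surjective (w ≫ AlgSt.spMapOfOver (BasedFunctor.comp eF (fpFst y f)))
  obtain ⟨iF⟩ := spMapOfOver_iso (BasedFunctor.comp eF (fpFst y f))
  let c := BasedFunctor.comp (AlgSt.ofOverCat W) (AlgSt.ofSpMap w)
  have hi : BasedFunctor.comp c (BasedFunctor.comp (AlgSt.ofSpMap (AlgSt.spMapOfOver (BasedFunctor.comp eF (fpFst y f))))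
      (AlgSt.toOverCat V)) = AlgSt.overMap k := by
    rw [show AlgSt.overMap k = BasedFunctor.comp (BasedFunctor.comp (AlgSt.ofOverCat W)
      (AlgSt.ofSpMap ((AlgSp.yon S).map k))) (AlgSt.toOverCat V) from rfl, hk]
    rfl
  have hk' : P ((AlgSp.yon S).map k) := good_of_locQ hP h𝒳 h𝒴 h hy W (BasedFunctor.comp c eF) k
    (with_comp_equiv heF (with_sp_chart AlgSpLib.etLocal_smooth F.property w hwe))
    ((Stk.restr c _).mapIso iF ≪≫ eqToIso hi)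
  rw [hk] at hk'
  have ha := smST_source hP F.property (AlgSp.IsAlgSpace.yon_obj V) (AlgSp.IsAlgSpace.yon_obj W) w
    (locP_atlas AlgSpLib.etLocal_smooth hwe) (surjective_etale_map w hws) hk'
  refine with_of_cover (respSrc_of_baseChange hPb) hD hf (with_flat_of_smooth hy).1 (with_flat_of_smooth hy).2 hys ?_
  exact (repByAlgSpWith_iff_of_square (f' := AlgSt.ofSpMap (AlgSt.spMapOfOver (BasedFunctor.comp eF (fpFst y f))))
    (f := fpFst y f) (a := eF) (b := AlgSt.toOverCat V) heF (isEquivOver_toOverCat V) iF.symm).1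
    (repByAlgSpWith_ofSpMap hPb (V := F) (Z := ⟨_, AlgSp.IsAlgSpace.yon_obj V⟩) _ ha)

/-- Two charts composed give a chart of a composite. -/
theorem exists_composite_chart (h𝒳 : AS 𝒳) (h𝒴 : AS 𝒴) (h𝒵 : AS 𝒵) (f : 𝒳 ⥤ᵇ 𝒴) (g : 𝒴 ⥤ᵇ 𝒵)
    {V W₁ T : Over S} {z : overCat V ⥤ᵇ 𝒵} {e₁ : overCat W₁ ⥤ᵇ fp z g} {k₁ : W₁ ⟶ V}
    (i₁ : BasedFunctor.comp e₁ (fpFst z g) ≅ AlgSt.overMap k₁)
    {m : overCat T ⥤ᵇ fp (BasedFunctor.comp e₁ (fpSnd z g)) f} {t : T ⟶ W₁}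
    (j : BasedFunctor.comp m (fpFst (BasedFunctor.comp e₁ (fpSnd z g)) f) ≅ AlgSt.overMap t) :
    ∃ e' : overCat T ⥤ᵇ fp z (BasedFunctor.comp f g),
      Nonempty (BasedFunctor.comp e' (fpFst z (BasedFunctor.comp f g)) ≅ AlgSt.overMap (t ≫ k₁)) ∧
      (Sm e₁ → Sm m → Sm e') ∧ (Srj e₁ → Srj m → Srj e') := by
  let q₁ := fpFst (fpSnd z g) f
  obtain ⟨G, hG, -, ⟨c⟩⟩ := exists_inverse (isEquivOver_fpPaste e₁ (fpSnd z g) f)
  let m' := BasedFunctor.comp m G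
  let b := BasedFunctor.comp (fpSnd e₁ q₁) (fpCompFactor z f g)
  have hN := isAlgStack_fp h𝒵.isStack h𝒵.diag (isAlgStack_overCat V) h𝒴 z g
  have hN₁ := isAlgStack_fp h𝒴.isStack h𝒴.diag hN h𝒳 (fpSnd z g) f
  have hM := isAlgStack_fp hN.isStack hN.diag (isAlgStack_overCat W₁) hN₁ e₁ q₁
  obtain ⟨j₁⟩ := overMap_comp t k₁
  refine ⟨BasedFunctor.comp m' b, ⟨?_⟩, fun h h' => ?_, fun h h' => ?_⟩
  · refine (Stk.restr m' _).mapIso ((postB _ (fpFst z g)).mapIso (fpIso e₁ q₁).symm) ≪≫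
      (Stk.restr m' _).mapIso ((Stk.restr (fpFst e₁ q₁) _).mapIso i₁) ≪≫
      (Stk.restr m _).mapIso ((postB _ (BasedFunctor.comp (fpFst (BasedFunctor.comp e₁ (fpSnd z g)) f) (AlgSt.overMap k₁))).mapIso c) ≪≫
      (postB _ (AlgSt.overMap k₁)).mapIso j ≪≫ j₁
  · exact with_comp_locP AlgSpLib.etLocal_smooth hM.isStack.1 (with_comp_equiv hG h')
      (with_comp_equiv (isEquivOver_fpCompFactor z f g) (repByAlgSpWith_fpSnd q₁ h))
  · exact repByAlgSpWith_comp_desc respSrc_surjective atlasDescent_surjective compStable_surjective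
      (isFibGrpd_overCat T) hM.isStack.1 (with_comp_equiv hG h')
      (with_comp_equiv (isEquivOver_fpCompFactor z f g) (repByAlgSpWith_fpSnd q₁ h))

theorem exists_charts_over (h𝒳 : AS 𝒳) (h𝒴 : AS 𝒴) (f : 𝒳 ⥤ᵇ 𝒴) {V : Over S} (y : overCat V ⥤ᵇ 𝒴) :
    ∃ (W : Over S) (e : overCat W ⥤ᵇ fp y f) (k : W ⟶ V), Sm e ∧ Srj e ∧
      Nonempty (BasedFunctor.comp e (fpFst y f) ≅ AlgSt.overMap k) ∧
      (Sm y → Sm (BasedFunctor.comp e (fpSnd y f))) ∧ (Srj y → Srj (BasedFunctor.comp e (fpSnd y f))) ∧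
      (AlgSt.IsSurjective f → Function.Surjective k.left) := by
  have hN := isAlgStack_fp h𝒴.isStack h𝒴.diag (isAlgStack_overCat V) h𝒳 y f
  obtain ⟨W, e, he, hes⟩ := hN.atlas
  obtain ⟨k, ⟨i⟩⟩ := exists_overMap_iso (BasedFunctor.comp e (fpFst y f))
  refine ⟨W, e, k, he, hes, ⟨i⟩, fun hy => ?_, fun hy => ?_, fun hf t => ?_⟩
  · exact with_comp_locP AlgSpLib.etLocal_smooth hN.isStack.1 he
      (with_equiv_comp (isEquivOver_fpSwap y f) (repByAlgSpWith_fpFst f hy))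
  · exact repByAlgSpWith_comp_desc respSrc_surjective atlasDescent_surjective compStable_surjective
      (isFibGrpd_overCat W) hN.isStack.1 hes (with_equiv_comp (isEquivOver_fpSwap y f) (repByAlgSpWith_fpFst f hy))
  · obtain ⟨p, hp⟩ := isSurjective_fpFst h𝒳.isStack.1 h𝒴.isStack.1 (isFibGrpd_overCat V) f y hf
      (AlgSt.Points.ofChart (BasedFunctor.id _) t)
    obtain ⟨w, rfl⟩ := ofChart_surjective hN.isStack.1 hes p
    refine ⟨w, (ofChart_id_bijective V).1 ?_⟩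
    rw [← hp, map_ofChart, ofChart_congr i]
    exact (ofChart_overMap k (BasedFunctor.id _) w).symm

theorem locQ_comp (hP : AlgSp.IsSmoothLocalST P)
    (hPc : ∀ ⦃T W V : Over S⦄ (t : T ⟶ W) (k : W ⟶ V), P ((AlgSp.yon S).map t) → P ((AlgSp.yon S).map k) →
      P ((AlgSp.yon S).map (t ≫ k)))
    (h𝒳 : AS 𝒳) (h𝒴 : AS 𝒴) (h𝒵 : AS 𝒵) {f : 𝒳 ⥤ᵇ 𝒴} {g : 𝒴 ⥤ᵇ 𝒵} (hf : AlgSt.LocQ P f)
    (hg : AlgSt.LocQ P g) : AlgSt.LocQ P (BasedFunctor.comp f g) := by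
  obtain ⟨V, z, hz, hzs⟩ := h𝒵.atlas
  obtain ⟨W₁, e₁, k₁, he₁, hes₁, ⟨i₁⟩, hx₁, -, -⟩ := exists_charts_over h𝒴 h𝒵 g z
  obtain ⟨T, m, t, hm, hms, ⟨j⟩, -, -, -⟩ := exists_charts_over h𝒳 h𝒴 f (BasedFunctor.comp e₁ (fpSnd z g))
  obtain ⟨e', ⟨i'⟩, he', hes'⟩ := exists_composite_chart h𝒳 h𝒴 h𝒵 f g i₁ j
  have hN := isAlgStack_fp h𝒵.isStack h𝒵.diag (isAlgStack_overCat V) h𝒳 z (BasedFunctor.comp f g)
  refine locQ_of_good h𝒳 h𝒵 hz hzs (pcov_of_one hP hN.isStack.1 (he' he₁ hm)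
    (ofChart_surjective hN.isStack.1 (hes' hes₁ hms)) i' (hPc t k₁ ?_ ?_))
  · exact good_of_locQ hP h𝒳 h𝒴 hf (hx₁ hz) T m t hm j
  · exact good_of_locQ hP h𝒴 h𝒵 hg hz W₁ e₁ k₁ he₁ i₁

/-- Descent of `LocQ` along a cover of the source. -/
theorem locQ_of_precomp (hP : AlgSp.IsSmoothLocalST P) (h𝒳 : AS 𝒳) (h𝒴 : AS 𝒴) (h𝒵 : AS 𝒵) {f : 𝒳 ⥤ᵇ 𝒴}
    {g : 𝒴 ⥤ᵇ 𝒵} (hf : AlgSt.IsSurjective f)
    (hsrc : ∀ ⦃T W V : Over S⦄ (t : T ⟶ W) (k : W ⟶ V) (x : overCat W ⥤ᵇ 𝒴) (m : overCat T ⥤ᵇ fp x f), Sm x → Sm m →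
      (BasedFunctor.comp m (fpFst x f) ≅ AlgSt.overMap t) → Surjective t.left →
      P ((AlgSp.yon S).map (t ≫ k)) → P ((AlgSp.yon S).map k))
    (h : AlgSt.LocQ P (BasedFunctor.comp f g)) : AlgSt.LocQ P g := by
  obtain ⟨V, z, hz, hzs⟩ := h𝒵.atlas
  refine locQ_of_good h𝒴 h𝒵 hz hzs fun W₁ e₁ k₁ he₁ i₁ => ?_
  have hN := isAlgStack_fp h𝒵.isStack h𝒵.diag (isAlgStack_overCat V) h𝒴 z g
  have hx₁ : Sm (BasedFunctor.comp e₁ (fpSnd z g)) := with_comp_locP AlgSpLib.etLocal_smooth hN.isStack.1 he₁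
    (with_equiv_comp (isEquivOver_fpSwap z g) (repByAlgSpWith_fpFst g hz))
  obtain ⟨T, m, t, hm, hms, ⟨j⟩, -, -, hts⟩ := exists_charts_over h𝒳 h𝒴 f (BasedFunctor.comp e₁ (fpSnd z g))
  obtain ⟨e', ⟨i'⟩, he', -⟩ := exists_composite_chart h𝒳 h𝒴 h𝒵 f g i₁ j
  exact hsrc t k₁ _ m hx₁ hm j ⟨hts hf⟩ (good_of_locQ hP h𝒳 h𝒵 h hz T e' _ (he' he₁ hm) i')

/-- Cancellation. -/
theorem locQ_of_comp (hP : AlgSp.IsSmoothLocalST P) {R : MorphismProperty (AlgSp.Sp S)}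
    (h𝒳 : AS 𝒳) (h𝒴 : AS 𝒴) (h𝒵 : AS 𝒵) {f : 𝒳 ⥤ᵇ 𝒴} {g : 𝒴 ⥤ᵇ 𝒵}
    (hR : AlgSp.IsSmoothLocalST R) (hg : AlgSt.LocQ R g)
    (hcancel : ∀ ⦃T W V : Over S⦄ (t : T ⟶ W) (k : W ⟶ V), R ((AlgSp.yon S).map k) →
      P ((AlgSp.yon S).map (t ≫ k)) → P ((AlgSp.yon S).map t))
    (h : AlgSt.LocQ P (BasedFunctor.comp f g)) : AlgSt.LocQ P f := by
  obtain ⟨V, z, hz, hzs⟩ := h𝒵.atlas
  obtain ⟨W₁, e₁, k₁, he₁, hes₁, ⟨i₁⟩, hx₁, hxs₁, -⟩ := exists_charts_over h𝒴 h𝒵 g z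
  refine locQ_of_good h𝒳 h𝒴 (hx₁ hz) (hxs₁ hzs) fun T m t hm j => ?_
  obtain ⟨e', ⟨i'⟩, he', -⟩ := exists_composite_chart h𝒳 h𝒴 h𝒵 f g i₁ j
  exact hcancel t k₁ (good_of_locQ hR h𝒴 h𝒵 hg hz W₁ e₁ k₁ he₁ i₁)
    (good_of_locQ hP h𝒳 h𝒵 h hz T e' _ (he' he₁ hm) i')

theorem locQ_fpFst (hP : AlgSp.IsSmoothLocalST P)
    (hPb : ∀ ⦃G W V : Over S⦄ (k : W ⟶ V) (g : G ⟶ V), P ((AlgSp.yon S).map k) →
      P ((AlgSp.yon S).map (pullback.snd k g)))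
    (h𝒳 : AS 𝒳) (h𝒴 : AS 𝒴) (h𝒵 : AS 𝒵) {f : 𝒳 ⥤ᵇ 𝒴} (g : 𝒵 ⥤ᵇ 𝒴) (hf : AlgSt.LocQ P f) :
    AlgSt.LocQ P (fpFst g f) := by
  obtain ⟨V, y, hy, hys⟩ := h𝒴.atlas
  obtain ⟨G, e, p, -, -, ⟨i⟩, hx, hxs, -⟩ := exists_charts_over h𝒵 h𝒴 g y
  have k₁ : Good P f (BasedFunctor.comp (AlgSt.overMap p) y) :=
    good_comp hP h𝒳 h𝒴 p (fun W k => hPb k p) (good_of_locQ hP h𝒳 h𝒴 hf hy)
  have k₂ : Good P f (BasedFunctor.comp (BasedFunctor.comp e (fpSnd y g)) g) :=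
    good_congr ((postB _ y).mapIso i.symm ≪≫ (Stk.restr e _).mapIso (fpIso y g)) k₁
  refine locQ_of_good (isAlgStack_fp h𝒴.isStack h𝒴.diag h𝒵 h𝒳 g f) h𝒵 (hx hy) (hxs hys) ?_
  exact (pcov_equiv (isEquivOver_fpPaste (BasedFunctor.comp e (fpSnd y g)) g f) (eqToIso (fpPaste_fst _ _ _))).2 k₂

/-- Descent of `LocQ` along a cover of the target. -/
theorem locQ_of_fpFst (hP : AlgSp.IsSmoothLocalST P) (h𝒳 : AS 𝒳) (h𝒴 : AS 𝒴) (h𝒵 : AS 𝒵) {f : 𝒳 ⥤ᵇ 𝒴}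
    {z : 𝒵 ⥤ᵇ 𝒴} (hz : AlgSt.IsSurjective z)
    (hdesc : ∀ ⦃G V : Over S⦄ (q : G ⟶ V) (y : overCat V ⥤ᵇ 𝒴) (e : overCat G ⥤ᵇ fp y z), Sm y → Sm e →
      (BasedFunctor.comp e (fpFst y z) ≅ AlgSt.overMap q) → Surjective q.left →
      ∀ (W : Over S) (k : W ⟶ V), P ((AlgSp.yon S).map (pullback.snd k q)) → P ((AlgSp.yon S).map k))
    (h : AlgSt.LocQ P (fpFst z f)) : AlgSt.LocQ P f := by
  obtain ⟨V, y, hy, hys⟩ := h𝒴.atlas
  obtain ⟨G, e, q, he, -, ⟨i⟩, hx, -, hqs⟩ := exists_charts_over h𝒵 h𝒴 z y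
  have k₁ := good_of_locQ hP (isAlgStack_fp h𝒴.isStack h𝒴.diag h𝒵 h𝒳 z f) h𝒵 h (hx hy)
  have k₂ : Good P f (BasedFunctor.comp (BasedFunctor.comp e (fpSnd y z)) z) :=
    (pcov_equiv (isEquivOver_fpPaste (BasedFunctor.comp e (fpSnd y z)) z f) (eqToIso (fpPaste_fst _ _ _))).1 k₁
  have k₃ : Good P f (BasedFunctor.comp (AlgSt.overMap q) y) :=
    good_congr ((Stk.restr e _).mapIso (fpIso y z).symm ≪≫ (postB _ y).mapIso i) k₂
  exact locQ_of_good h𝒳 h𝒴 hy hys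
    (pcov_descend q (hdesc q y e hy he i ⟨hqs hz⟩) ((good_comp_iff q y).1 k₃))

/-- A representable property descends along a flat cover given by charts. -/
theorem with_iff_fpFst (hPb : PbStable P) (hD : SchDescent P) (h𝒴 : AS 𝒴) (h𝒵 : AS 𝒵) {f : 𝒳 ⥤ᵇ 𝒴}
    (hf : AlgSt.RepByAlgSp1 f) {z : 𝒵 ⥤ᵇ 𝒴} (h₁ : AlgSt.LocQ (AlgSp.LocP @Flat) z)
    (h₂ : AlgSt.LocQ (AlgSp.LocP @LocallyOfFinitePresentation) z) (h₃ : AlgSt.IsSurjective z) :
    AlgSt.RepByAlgSpWith P f ↔ AlgSt.RepByAlgSpWith P (fpFst z f) := by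
  refine ⟨repByAlgSpWith_fpFst z, fun h => ?_⟩
  obtain ⟨W, w, hw, hf₁, hf₂⟩ := exists_chart_flat_lfp h𝒵 h₁ h₂
  have hs : Srj (BasedFunctor.comp w z) :=
    with_surjective_of_ofChart h𝒴.isStack.1 (repByAlgSp1_of_with hf₁) fun p => by
      obtain ⟨q, rfl⟩ := h₃ p
      obtain ⟨t, rfl⟩ := hw q
      exact ⟨t, (map_ofChart w z t).symm⟩
  exact with_of_cover (respSrc_of_baseChange hPb) hD hf hf₁ hf₂ hs
    ((repByAlgSpWith_iff_of_square (f' := fpFst w (fpFst z f)) (f := fpFst (BasedFunctor.comp w z) f)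
      (a := fpPaste w z f) (b := BasedFunctor.id _) (isEquivOver_fpPaste w z f) (isEquivOver_id _)
      (eqToIso (fpPaste_fst w z f).symm)).1 (repByAlgSpWith_fpFst w h))

section Scheme

theorem locP_yon_iff {Q : MorphismProperty Scheme.{u}} [Q.RespectsIso] [Q.IsStableUnderBaseChange]
    (hQ : AlgSpLib.EtLocal Q) {W V : Over S} (k : W ⟶ V) :
    AlgSp.LocP Q ((AlgSp.yon S).map k) ↔ Q k.left :=
  ⟨AlgSp.locP_yon_map, fun h => by
    have h' : AlgSp.RepWith Q ((AlgSp.yon S).map k) := (AlgSp.repWith_yon_map_iff Q k).2 h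
    exact AlgSpLib.locP_of_repWith hQ (AlgSp.IsAlgSpace.yon_obj W) h'⟩

/-- Descent of properties along flat covers of schemes, read on representable spaces. -/
theorem descend_yon (hP : AlgSp.IsSmoothLocalST P) (hD : SchDescent P) {G V W : Over S} (q : G ⟶ V)
    [Flat q.left] [LocallyOfFinitePresentation q.left] [Surjective q.left] (k : W ⟶ V)
    (h : P ((AlgSp.yon S).map (pullback.snd k q))) : P ((AlgSp.yon S).map k) := by
  refine hD (V := ⟨_, AlgSp.IsAlgSpace.yon_obj W⟩) _ q inferInstance inferInstance inferInstance ?_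
  let sq₁ := (IsPullback.of_hasPullback k q).map (AlgSp.yon S)
  have hA : AlgSp.IsAlgSpace (pullback ((AlgSp.yon S).map k) ((AlgSp.yon S).map q)) :=
    isAlgSpace_pullback_yon (Z := ⟨_, AlgSp.IsAlgSpace.yon_obj V⟩) (V := ⟨_, AlgSp.IsAlgSpace.yon_obj W⟩) _ _
  rw [← sq₁.isoPullback_inv_snd]
  exact hP.precomp hA (AlgSp.IsAlgSpace.yon_obj _) (AlgSp.IsAlgSpace.yon_obj G) _ _
    (AlgSpLib.locP_of_repWith AlgSpLib.etLocal_smooth hA
      (AlgSpLib.RepWith.mono AlgSpLib.etLocal_smooth.of_etale (AlgSpLib.repWith_of_isIso @Etale _))) h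

end Scheme

end Groth.Agent.Stk19
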