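import Groth.Agent.AlgSpLib.SmoothSpace
import Groth.Agent.AlgSpLib.FppfSpace
import Groth.Agent.AlgSpLib.SourceLocal
import Groth.Prelude.Def_AlgSpCov

/-! Properties of morphisms of algebraic spaces that are smooth local on source and target. -/

set_option autoImplicit false
set_option backward.isDefEq.respectTransparency false
set_option backward.isDefEq.respectTransparency.types false

universe u

open CategoryTheory CategoryTheory.Limits AlgebraicGeometry

namespace Groth.Agent.Stk19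

variable {S : Scheme.{u}} {P : MorphismProperty (AlgSp.Sp S)} {X Y Z U V : AlgSp.Sp S}

theorem smST_of_square (hP : AlgSp.IsSmoothLocalST P) (hX : AlgSp.IsAlgSpace X) (hY : AlgSp.IsAlgSpace Y)
    (hU : AlgSp.IsAlgSpace U) (hV : AlgSp.IsAlgSpace V) {f : X ⟶ Y} (a : U ⟶ X) (b : V ⟶ Y) (h : U ⟶ V)
    (ha : AlgSp.LocP @Smooth a) (has : AlgSp.IsSurjectiveMor a) (hb : AlgSp.LocP @Smooth b)
    (w : a ≫ f = h ≫ b) (hh : P h) : P f :=
  (hP.locality hX hY f).2 fun x => (has x).elim fun v hv =>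
    ⟨U, V, a, b, h, v, hU, hV, ha, hb, w, hv, hh⟩

theorem smST_postcomp (hP : AlgSp.IsSmoothLocalST P) (hX : AlgSp.IsAlgSpace X) (hY : AlgSp.IsAlgSpace Y)
    (hZ : AlgSp.IsAlgSpace Z) {f : X ⟶ Y} (g : Y ⟶ Z) (hf : P f) (hg : AlgSp.LocP @Smooth g) : P (f ≫ g) :=
  smST_of_square hP hX hZ hX hY (𝟙 X) g f (AlgSpLib.locP_id AlgSpLib.etLocal_smooth hX)
    (fun x => ⟨x, AlgSp.Points.map_id x⟩) hg (Category.id_comp _) hf

theorem smST_source (hP : AlgSp.IsSmoothLocalST P) (hX : AlgSp.IsAlgSpace X) (hY : AlgSp.IsAlgSpace Y)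
    (hU : AlgSp.IsAlgSpace U) {f : X ⟶ Y} (a : U ⟶ X) (ha : AlgSp.LocP @Smooth a)
    (has : AlgSp.IsSurjectiveMor a) (h : P (a ≫ f)) : P f :=
  smST_of_square hP hX hY hU hY a (𝟙 Y) (a ≫ f) ha has (AlgSpLib.locP_id AlgSpLib.etLocal_smooth hY)
    (Category.comp_id _).symm h

theorem smoothLocalST_locP {Q : MorphismProperty Scheme.{u}} (hQ : AlgSpLib.EtLocal Q) (hle : @Smooth.{u} ≤ Q)
    (hsrc : AlgSp.IsLocalOnSource (AlgSp.IsSmCover (S := S)) (AlgSp.LocP Q)) :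
    AlgSp.IsSmoothLocalST (AlgSp.LocP (S := S) Q) where
  precomp _ _ _ hX hY hZ _ _ hf hg := AlgSpLib.locP_comp hQ hX hY hZ (AlgSpLib.locP_mono hle hf) hg
  baseChange _ _ _ _ hX hY hX' _ _ _ _ _ sq _ hf := AlgSpLib.locP_of_isPullback hQ hX hY hX' sq hf
  locality X Y hX hY f := by
    constructor
    · exact fun hf x => ⟨X, Y, 𝟙 X, 𝟙 Y, f, x, hX, hY, AlgSpLib.locP_id AlgSpLib.etLocal_smooth hX,
        AlgSpLib.locP_id AlgSpLib.etLocal_smooth hY, by simp, AlgSp.Points.map_id x, hf⟩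
    · intro h
      choose U V a b k v hU hV ha hb w hv hk using h
      obtain ⟨W, p, hpe, hps⟩ := hX.atlas
      refine (hsrc (fun t : ↥W.left => U (AlgSp.Points.ofPt p t)) (fun t => a (AlgSp.Points.ofPt p t)) hX
        (fun t => hU _) ⟨fun t => ha _, fun x => ?_⟩ f hY).2 fun t => ?_
      · obtain ⟨t, rfl⟩ := AlgSpLib.surjective_ofPt p hps x
        exact ⟨t, _, hv _⟩
      · rw [w]
        exact AlgSpLib.locP_comp hQ (hU _) (hV _) hY (hk _) (AlgSpLib.locP_mono hle (hb _))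

theorem isSmCover_isFppfCover {ι : Type u} {Xi : ι → AlgSp.Sp S} {g : ∀ i, Xi i ⟶ X}
    (h : AlgSp.IsSmCover Xi g) : AlgSp.IsFppfCover Xi g :=
  ⟨fun i => ⟨AlgSpLib.locP_mono (Q := @Flat) (fun _ _ k (_ : Smooth k) => inferInstance) (h.1 i),
    AlgSpLib.locP_mono (Q := @LocallyOfFinitePresentation) (fun _ _ k (_ : Smooth k) => inferInstance) (h.1 i)⟩, h.2⟩

theorem smST_lft : AlgSp.IsSmoothLocalST (AlgSp.LocP (S := S) @LocallyOfFiniteType) :=
  smoothLocalST_locP AlgSpLib.etLocal_lft (fun _ _ k (_ : Smooth k) => inferInstance)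
    fun _ _ Xi g hX hXi hc => AlgSpLib.isLocalOnSource_fppf_lft Xi g hX hXi (isSmCover_isFppfCover hc)

theorem smST_lfp : AlgSp.IsSmoothLocalST (AlgSp.LocP (S := S) @LocallyOfFinitePresentation) :=
  smoothLocalST_locP AlgSpLib.etLocal_lfp (fun _ _ k (_ : Smooth k) => inferInstance)
    fun _ _ Xi g hX hXi hc => AlgSpLib.isLocalOnSource_fppf_lfp Xi g hX hXi (isSmCover_isFppfCover hc)

theorem smST_flat : AlgSp.IsSmoothLocalST (AlgSp.LocP (S := S) @Flat) :=
  smoothLocalST_locP AlgSpLib.etLocal_flat (fun _ _ k (_ : Smooth k) => inferInstance)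
    fun _ _ Xi g hX hXi hc Y f hY =>
      ⟨fun hf i => AlgSpLib.locP_comp AlgSpLib.etLocal_flat (hXi i) hX hY
        ((isSmCover_isFppfCover hc).1 i).1 hf,
      fun h => AlgSpLib.locP_of_family (P := @Flat.{u}) (R := @Flat.{u}) AlgSpLib.etLocal_flat
        (fun _ hk => IsZariskiLocalAtSource.sigmaDesc hk) (fun _ hk => IsZariskiLocalAtSource.sigmaDesc hk)
        (fun c k (hc' : Flat c) _ (h : Flat (c ≫ k)) => FlatLocal.flat_of_comp c k) hX g hXi
        (fun i => ((isSmCover_isFppfCover hc).1 i).1) hc.2 h⟩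

theorem smST_smooth : AlgSp.IsSmoothLocalST (AlgSp.LocP (S := S) @Smooth) :=
  smoothLocalST_locP AlgSpLib.etLocal_smooth le_rfl AlgSpLib.isLocalOnSource_smooth_smooth

end Groth.Agent.Stk19
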