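import Groth.Agent.Stk19.AlgSt.FlatCover
import Groth.Agent.Stk19.AlgSt.SmST

/-! The property `LocQ` read on every smooth chart of the target. -/

set_option autoImplicit false
set_option backward.isDefEq.respectTransparency false
set_option backward.isDefEq.respectTransparency.types false

universe u

open CategoryTheory CategoryTheory.Limits AlgebraicGeometry Opposite FibCat Groth.Agent.Desc19

namespace Groth.Agent.Stk19

variable {S : Scheme.{u}} {P : MorphismProperty (AlgSp.Sp S)} {𝒳 𝒴 𝒲 𝒲' : AlgSt.Cat S}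

local notation "AS" => AlgSt.IsAlgStack Scheme.fppfPrecoverage
local notation "Sm" => AlgSt.RepByAlgSpWith (AlgSp.LocP @Smooth)
local notation "Srj" => AlgSt.RepByAlgSpWith AlgSp.IsSurjectiveMor

theorem exists_overMap_iso {W V : Over S} (d : overCat W ⥤ᵇ overCat V) :
    ∃ k : W ⟶ V, Nonempty (d ≅ AlgSt.overMap k) := by
  obtain ⟨i⟩ := spMapOfOver_iso (BasedFunctor.comp (AlgSt.toOverCat W) d)
  obtain ⟨k, hk⟩ := (AlgSp.yon S).map_surjective (AlgSt.spMapOfOver (BasedFunctor.comp (AlgSt.toOverCat W) d))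
  refine ⟨k, ⟨(Stk.restr (AlgSt.ofOverCat W) _).mapIso i ≪≫ eqToIso ?_⟩⟩
  show BasedFunctor.comp (AlgSt.ofOverCat W)
      (BasedFunctor.comp (AlgSt.ofSpMap (AlgSt.spMapOfOver (BasedFunctor.comp (AlgSt.toOverCat W) d))) (AlgSt.toOverCat V)) = _
  rw [← hk]
  rfl

theorem overMap_inj {W V : Over S} {k k' : W ⟶ V} (i : AlgSt.overMap k ≅ AlgSt.overMap k') : k = k' :=
  (AlgSp.yon S).map_injective (ofSpMap_inj
    (((postB _ (AlgSt.ofOverCat V)).mapIso ((Stk.restr (AlgSt.toOverCat W) _).mapIso i)).hom :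
      AlgSt.ofSpMap ((AlgSp.yon S).map k) ⟶ AlgSt.ofSpMap ((AlgSp.yon S).map k')))

theorem overMap_comp {W U V : Over S} (p : W ⟶ U) (c : U ⟶ V) :
    Nonempty (BasedFunctor.comp (AlgSt.overMap p) (AlgSt.overMap c) ≅ AlgSt.overMap (p ≫ c)) :=
  ⟨isoMk (fun a => Over.isoMk (Iso.refl _) (by
      show 𝟙 _ ≫ a.hom ≫ p ≫ c = (a.hom ≫ p) ≫ c
      rw [Category.id_comp, Category.assoc]))
    (fun a => (vert_iff (overCat V).p _).2 ⟨rfl, rfl, rfl⟩) (fun φ => Over.OverMorphism.ext (by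
      show φ.left ≫ 𝟙 _ = 𝟙 _ ≫ φ.left
      rw [Category.id_comp, Category.comp_id]))⟩

theorem with_equiv_comp {Q : MorphismProperty (AlgSp.Sp S)} {𝒵 : AlgSt.Cat S} {T : 𝒵 ⥤ᵇ 𝒳} (hT : IsEquivOver T)
    {f : 𝒳 ⥤ᵇ 𝒴} (h : AlgSt.RepByAlgSpWith Q f) : AlgSt.RepByAlgSpWith Q (BasedFunctor.comp T f) :=
  (repByAlgSpWith_iff_of_square (f := f) (f' := BasedFunctor.comp T f) hT (isEquivOver_id _) (Iso.refl _)).2 h

theorem with_comp_equiv {Q : MorphismProperty (AlgSp.Sp S)} {𝒵 : AlgSt.Cat S} {E : 𝒴 ⥤ᵇ 𝒵} (hE : IsEquivOver E)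
    {f : 𝒳 ⥤ᵇ 𝒴} (h : AlgSt.RepByAlgSpWith Q f) : AlgSt.RepByAlgSpWith Q (BasedFunctor.comp f E) :=
  (repByAlgSpWith_iff_of_square (f := BasedFunctor.comp f E) (f' := f) (isEquivOver_id _) hE (Iso.refl _)).1 h

theorem surjective_yon {W U : Over S} {c : W ⟶ U} (h : Function.Surjective c.left) :
    AlgSp.IsSurjectiveMor ((AlgSp.yon S).map c) :=
  (AlgSpLib.surjective_map_yon_map_iff c).2 ⟨h⟩

theorem smooth_yon {W U : Over S} (c : W ⟶ U) [hc : Smooth c.left] :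
    AlgSp.LocP @Smooth ((AlgSp.yon S).map c) := by
  have k : AlgSp.RepWith @Smooth ((AlgSp.yon S).map c) := (AlgSp.repWith_yon_map_iff @Smooth c).2 hc
  exact AlgSpLib.locP_of_repWith AlgSpLib.etLocal_smooth (AlgSp.IsAlgSpace.yon_obj W) k

/-- A functor to a scheme has `P`: all its smooth charts have `P`. -/
def PCov (P : MorphismProperty (AlgSp.Sp S)) {V : Over S} (q : 𝒲 ⥤ᵇ overCat V) : Prop :=
  ∀ (W : Over S) (e : overCat W ⥤ᵇ 𝒲) (k : W ⟶ V), Sm e → (BasedFunctor.comp e q ≅ AlgSt.overMap k) →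
    P ((AlgSp.yon S).map k)

theorem pcov_of_one (hP : AlgSp.IsSmoothLocalST P) (h : IsFibGrpd 𝒲.p) {V : Over S} {q : 𝒲 ⥤ᵇ overCat V}
    {W₀ : Over S} {e₀ : overCat W₀ ⥤ᵇ 𝒲} (he₀ : Sm e₀) (hs₀ : Function.Surjective (AlgSt.Points.ofChart e₀))
    {k₀ : W₀ ⟶ V} (i₀ : BasedFunctor.comp e₀ q ≅ AlgSt.overMap k₀) (hk₀ : P ((AlgSp.yon S).map k₀)) :
    PCov P q := by
  intro W e k he i
  obtain ⟨T, p, r, ⟨α⟩, hr, hp, hsurj⟩ := exists_chart_fp h e (repByAlgSp1_of_with he₀)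
  have := hr AlgSpLib.etLocal_smooth he₀
  have := hp AlgSpLib.etLocal_smooth he
  obtain ⟨j₁⟩ := overMap_comp p k₀
  obtain ⟨j₂⟩ := overMap_comp r k
  have e : p ≫ k₀ = r ≫ k := overMap_inj (j₁.symm ≪≫ (Stk.restr (AlgSt.overMap p) _).mapIso i₀.symm ≪≫
    (postB _ q).mapIso α ≪≫ (Stk.restr (AlgSt.overMap r) _).mapIso i ≪≫ j₂)
  refine smST_source hP (AlgSp.IsAlgSpace.yon_obj W) (AlgSp.IsAlgSpace.yon_obj V) (AlgSp.IsAlgSpace.yon_obj T)
    ((AlgSp.yon S).map r) (smooth_yon r) (surjective_yon fun t => ?_) ?_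
  · obtain ⟨s, hs⟩ := hs₀ (AlgSt.Points.ofChart _ t)
    obtain ⟨w, -, rfl⟩ := hsurj s t hs
    exact ⟨w, rfl⟩
  · rw [← Functor.map_comp, ← e, Functor.map_comp]
    exact hP.precomp (AlgSp.IsAlgSpace.yon_obj T) (AlgSp.IsAlgSpace.yon_obj W₀) (AlgSp.IsAlgSpace.yon_obj V)
      _ _ (smooth_yon p) hk₀

theorem pcov_equiv {V : Over S} {q : 𝒲 ⥤ᵇ overCat V} {q' : 𝒲' ⥤ᵇ overCat V} {E : 𝒲 ⥤ᵇ 𝒲'} (hE : IsEquivOver E)
    (j : BasedFunctor.comp E q' ≅ q) : PCov P q ↔ PCov P q' := by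
  constructor
  · intro h W e k he i
    obtain ⟨G, hG, -, ⟨c⟩⟩ := exists_inverse hE
    exact h W (BasedFunctor.comp e G) k (with_comp_equiv hG he)
      ((Stk.restr (BasedFunctor.comp e G) _).mapIso j.symm ≪≫
        (Stk.restr e _).mapIso ((postB _ q').mapIso c) ≪≫ i)
  · intro h W e k he i
    exact h W (BasedFunctor.comp e E) k (with_comp_equiv hE he) ((Stk.restr e _).mapIso j ≪≫ i)

/-- Base change of a chart of a functor to a scheme. -/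
theorem exists_chart_baseChange {V G W : Over S} {q : 𝒲 ⥤ᵇ overCat V} (g : G ⟶ V) {e : overCat W ⥤ᵇ 𝒲}
    {k : W ⟶ V} (i : BasedFunctor.comp e q ≅ AlgSt.overMap k) :
    ∃ e' : overCat (pullback k g) ⥤ᵇ fp (AlgSt.overMap g) q,
      Nonempty (BasedFunctor.comp e' (fpFst (AlgSt.overMap g) q) ≅ AlgSt.overMap (pullback.snd k g)) ∧
      (Sm e → Sm e') ∧ (Srj e → Srj e') := by
  obtain ⟨E, hE, hE₁, -⟩ := exists_fp_equiv ((IsPullback.of_hasPullback k g).map (AlgSp.yon S)).flip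
  obtain ⟨hfull, hfaith, -⟩ := EqvData.of_isEquivOver (isEquivOver_toOverCat V)
  let E₁ : fp (AlgSt.ofSpMap ((AlgSp.yon S).map g)) (AlgSt.ofSpMap ((AlgSp.yon S).map k)) ⥤ᵇ
      fp (AlgSt.overMap g) (AlgSt.overMap k) :=
    fpMap (AlgSt.toOverCat G) (AlgSt.toOverCat W) (AlgSt.toOverCat V) (Iso.refl _) (Iso.refl _)
  have hE₁' : IsEquivOver E₁ := isEquivOver_fpMap _ _ _ _ _ (isEquivOver_toOverCat G) (isEquivOver_toOverCat W)
  obtain ⟨E₂, hE₂, hE₂f, -⟩ := exists_congr (F := AlgSt.overMap g) (G := AlgSt.overMap k) (Iso.refl _) i.symm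
  obtain ⟨G', hG', -, ⟨c⟩⟩ := exists_inverse (isEquivOver_fpCompFactor (AlgSt.overMap g) e q)
  let T := BasedFunctor.comp (BasedFunctor.comp (AlgSt.ofOverCat (pullback k g)) E)
    (BasedFunctor.comp E₁ (BasedFunctor.comp E₂ G'))
  have hT : IsEquivOver T := isEquivOver_comp (isEquivOver_comp (isEquivOver_ofOverCat _) hE)
    (isEquivOver_comp hE₁' (isEquivOver_comp hE₂ hG'))
  refine ⟨BasedFunctor.comp T (fpFst (fpSnd (AlgSt.overMap g) q) e), ⟨?_⟩,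
    fun h => with_equiv_comp hT (repByAlgSpWith_fpFst _ h), fun h => with_equiv_comp hT (repByAlgSpWith_fpFst _ h)⟩
  let T₀ := BasedFunctor.comp (BasedFunctor.comp (AlgSt.ofOverCat (pullback k g)) E) (BasedFunctor.comp E₁ E₂)
  refine (Stk.restr T₀ _).mapIso ((postB _ (fpFst (AlgSt.overMap g) (BasedFunctor.comp e q))).mapIso c) ≪≫ eqToIso ?_
  show BasedFunctor.comp (BasedFunctor.comp (AlgSt.ofOverCat (pullback k g)) E)
    (BasedFunctor.comp E₁ (BasedFunctor.comp E₂ (fpFst (AlgSt.overMap g) (BasedFunctor.comp e q)))) = _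
  rw [hE₂f]
  show BasedFunctor.comp (AlgSt.ofOverCat (pullback k g))
    (BasedFunctor.comp (BasedFunctor.comp E (fpFst _ _)) (AlgSt.toOverCat G)) = _
  rw [hE₁]
  rfl

theorem pcov_baseChange (hP : AlgSp.IsSmoothLocalST P) {V G : Over S} {q : 𝒲 ⥤ᵇ overCat V} (h : AS 𝒲)
    (g : G ⟶ V) (hg : ∀ (W : Over S) (k : W ⟶ V), P ((AlgSp.yon S).map k) →
      P ((AlgSp.yon S).map (pullback.snd k g))) (hq : PCov P q) :
    PCov P (fpFst (AlgSt.overMap g) q) := by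
  obtain ⟨W, e, he, hes⟩ := h.atlas
  obtain ⟨k, ⟨i⟩⟩ := exists_overMap_iso (BasedFunctor.comp e q)
  obtain ⟨e', ⟨i'⟩, he', hes'⟩ := exists_chart_baseChange g i
  have hN := isAlgStack_fp (isAlgStack_overCat V).isStack (isAlgStack_overCat V).diag (isAlgStack_overCat G) h
    (AlgSt.overMap g) q
  exact pcov_of_one hP hN.isStack.1 (he' he) (ofChart_surjective hN.isStack.1 (hes' hes)) i' (hg W k (hq W e k he i))

theorem pcov_descend {V G : Over S} {q : 𝒲 ⥤ᵇ overCat V} (g : G ⟶ V)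
    (hg : ∀ (W : Over S) (k : W ⟶ V), P ((AlgSp.yon S).map (pullback.snd k g)) → P ((AlgSp.yon S).map k))
    (hq : PCov P (fpFst (AlgSt.overMap g) q)) : PCov P q := by
  intro W e k he i
  obtain ⟨e', ⟨i'⟩, he', -⟩ := exists_chart_baseChange g i
  exact hg W k (hq _ e' _ (he' he) i')

/-- The base change of `f` to the chart `y` has `P`. -/
def Good (P : MorphismProperty (AlgSp.Sp S)) (f : 𝒳 ⥤ᵇ 𝒴) {V : Over S} (y : overCat V ⥤ᵇ 𝒴) : Prop :=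
  PCov P (fpFst y f)

theorem good_congr {f : 𝒳 ⥤ᵇ 𝒴} {V : Over S} {y y' : overCat V ⥤ᵇ 𝒴} (i : y ≅ y') (h : Good P f y) : Good P f y' := by
  obtain ⟨E, hE, hE₁, -⟩ := exists_congr (F := y) (G := f) i (Iso.refl _)
  exact (pcov_equiv hE (eqToIso hE₁)).1 h

theorem good_comp_iff {f : 𝒳 ⥤ᵇ 𝒴} {V G : Over S} (g : G ⟶ V) (y : overCat V ⥤ᵇ 𝒴) :
    Good P f (BasedFunctor.comp (AlgSt.overMap g) y) ↔ PCov P (fpFst (AlgSt.overMap g) (fpFst y f)) :=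
  (pcov_equiv (isEquivOver_fpPaste (AlgSt.overMap g) y f) (eqToIso (fpPaste_fst _ _ _))).symm

theorem good_comp (hP : AlgSp.IsSmoothLocalST P) (h𝒳 : AS 𝒳) (h𝒴 : AS 𝒴) {f : 𝒳 ⥤ᵇ 𝒴} {V G : Over S}
    (g : G ⟶ V) (hg : ∀ (W : Over S) (k : W ⟶ V), P ((AlgSp.yon S).map k) →
      P ((AlgSp.yon S).map (pullback.snd k g))) {y : overCat V ⥤ᵇ 𝒴} (h : Good P f y) :
    Good P f (BasedFunctor.comp (AlgSt.overMap g) y) :=
  (good_comp_iff g y).2 (pcov_baseChange hP (isAlgStack_fp h𝒴.isStack h𝒴.diag (isAlgStack_overCat V) h𝒳 y f) g hg h)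

theorem smST_baseChange_smooth (hP : AlgSp.IsSmoothLocalST P) {V G : Over S} (g : G ⟶ V) [Smooth g.left]
    (W : Over S) (k : W ⟶ V) (hk : P ((AlgSp.yon S).map k)) : P ((AlgSp.yon S).map (pullback.snd k g)) :=
  hP.baseChange (AlgSp.IsAlgSpace.yon_obj W) (AlgSp.IsAlgSpace.yon_obj V) (AlgSp.IsAlgSpace.yon_obj _)
    (AlgSp.IsAlgSpace.yon_obj G) _ _ _ _ ((IsPullback.of_hasPullback k g).map (AlgSp.yon S)) (smooth_yon g) hk

theorem with_sp_chart {Q : MorphismProperty Scheme.{u}} (hQ : AlgSpLib.EtLocal Q) {W : Over S} {F : AlgSp.Sp S}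
    (hF : AlgSp.IsAlgSpace F) (w : (AlgSp.yon S).obj W ⟶ F) (hw : AlgSp.RepWith @Etale w) :
    AlgSt.RepByAlgSpWith (AlgSp.LocP Q) (BasedFunctor.comp (AlgSt.ofOverCat W) (AlgSt.ofSpMap w)) :=
  with_equiv_comp (isEquivOver_ofOverCat W) (repByAlgSpWith_ofSpMap (pbStable_locP hQ)
    (V := ⟨_, AlgSp.IsAlgSpace.yon_obj W⟩) (Z := ⟨F, hF⟩) w (locP_atlas hQ hw))

/-- `LocQ` gives the property on every smooth chart of the target. -/
theorem good_of_locQ (hP : AlgSp.IsSmoothLocalST P) (h𝒳 : AS 𝒳) (h𝒴 : AS 𝒴) {f : 𝒳 ⥤ᵇ 𝒴}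
    (h : AlgSt.LocQ P f) {V : Over S} {y : overCat V ⥤ᵇ 𝒴} (hy : Sm y) : Good P f y := by
  obtain ⟨U₀, V₀, x₀, y₀, h₀, α, hx₀, hxs₀, hy₀, hh₀⟩ := h
  obtain ⟨G, eG, heG, hg⟩ := hy₀ V y
  obtain ⟨G', eG', heG', hg'⟩ := hy V₀ y₀
  have hg₀ := repWith_any (respSrc_locP AlgSpLib.etLocal_smooth) heG' hg' (BasedFunctor.comp eG (fpSwap y y₀))
    (isEquivOver_comp heG (isEquivOver_fpSwap y y₀))
  set g := AlgSt.spMapOfOver (BasedFunctor.comp eG (fpFst y y₀))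
  obtain ⟨g₀, hg₀e⟩ : ∃ g₀, g₀ = AlgSt.spMapOfOver (BasedFunctor.comp eG (fpSnd y y₀)) := ⟨_, rfl⟩
  have hg₀' : AlgSp.LocP @Smooth g₀ := by rw [hg₀e]; exact hg₀
  obtain ⟨is⟩ := spMapOfOver_iso (BasedFunctor.comp eG (fpSnd y y₀))
  rw [← hg₀e] at is
  have sq := IsPullback.of_hasPullback g₀ ((AlgSp.yon S).map h₀)
  have hQ : AlgSp.IsAlgSpace (pullback g₀ ((AlgSp.yon S).map h₀)) :=
    isAlgSpace_pullback_yon (Z := ⟨_, AlgSp.IsAlgSpace.yon_obj V₀⟩) g₀ ((AlgSp.yon S).map h₀)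
  have hPQ : P (pullback.fst g₀ ((AlgSp.yon S).map h₀) ≫ g) :=
    smST_postcomp hP hQ G.property (AlgSp.IsAlgSpace.yon_obj V) g
      (hP.baseChange (AlgSp.IsAlgSpace.yon_obj U₀) (AlgSp.IsAlgSpace.yon_obj V₀) hQ G.property _ _ _ _ sq.flip hg₀' hh₀)
      hg
  obtain ⟨E, hE, hE₁, -⟩ := exists_fp_equiv sq
  obtain ⟨hfull, hfaith, -⟩ := EqvData.of_isEquivOver (isEquivOver_toOverCat V₀)
  let E₁ : fp (AlgSt.ofSpMap g₀) (AlgSt.ofSpMap ((AlgSp.yon S).map h₀)) ⥤ᵇ fp (fpSnd y y₀) (AlgSt.overMap h₀) :=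
    fpMap eG (AlgSt.toOverCat U₀) (AlgSt.toOverCat V₀) is.symm (Iso.refl _)
  have hE₁' : IsEquivOver E₁ := isEquivOver_fpMap _ _ _ _ _ heG (isEquivOver_toOverCat U₀)
  obtain ⟨E₂, hE₂, hE₂f, -⟩ := exists_congr (F := y) (G := BasedFunctor.comp (AlgSt.overMap h₀) y₀) (Iso.refl _) α.symm
  obtain ⟨G₁, hG₁, -, ⟨c⟩⟩ := exists_inverse (isEquivOver_fpCompFactor y x₀ f)
  let C := fpCompFactor y (AlgSt.overMap h₀) y₀
  let T := BasedFunctor.comp E (BasedFunctor.comp E₁ (BasedFunctor.comp C (BasedFunctor.comp E₂ G₁)))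
  have hT : IsEquivOver T := isEquivOver_comp hE (isEquivOver_comp hE₁' (isEquivOver_comp
    (isEquivOver_fpCompFactor y (AlgSt.overMap h₀) y₀) (isEquivOver_comp hE₂ hG₁)))
  let eQ := BasedFunctor.comp T (fpFst (fpSnd y f) x₀)
  obtain ⟨W, w, hwe, hws⟩ := hQ.atlas
  obtain ⟨k, hk⟩ := (AlgSp.yon S).map_surjective (w ≫ pullback.fst g₀ ((AlgSp.yon S).map h₀) ≫ g)
  obtain ⟨ig⟩ := spMapOfOver_iso (BasedFunctor.comp eG (fpFst y y₀))
  have hN := isAlgStack_fp h𝒴.isStack h𝒴.diag (isAlgStack_overCat V) h𝒳 y f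
  have hQf := setoid_ofSp (pullback g₀ ((AlgSp.yon S).map h₀))
  let c₀ := BasedFunctor.comp (AlgSt.ofOverCat W) (AlgSt.ofSpMap w)
  have he : Sm (BasedFunctor.comp c₀ eQ) := with_comp_locP AlgSpLib.etLocal_smooth hQf.1
    (with_sp_chart AlgSpLib.etLocal_smooth hQ w hwe) (with_equiv_comp hT (repByAlgSpWith_fpFst _ hx₀))
  have heQs : AlgSt.IsSurjective eQ :=
    isSurjective_of_with hN.isStack.1 (with_equiv_comp hT (repByAlgSpWith_fpFst _ hxs₀))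
  refine pcov_of_one hP hN.isStack.1 he (fun p => ?_) (k₀ := k) ?_ ?_
  · obtain ⟨z, rfl⟩ := heQs p
    obtain ⟨z', rfl⟩ := stPt_bijective.2 z
    obtain ⟨t, rfl⟩ := AlgSpLib.surjective_ofPt w hws z'
    exact ⟨t, (map_ofChart c₀ eQ t).symm⟩
  · let T₀ := BasedFunctor.comp c₀ (BasedFunctor.comp E (BasedFunctor.comp E₁ (BasedFunctor.comp C E₂)))
    refine (Stk.restr T₀ _).mapIso ((postB _ (fpFst y (BasedFunctor.comp x₀ f))).mapIso c) ≪≫ eqToIso ?_ ≪≫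
      (Stk.restr (BasedFunctor.comp c₀ (AlgSt.ofSpMap (pullback.fst g₀ ((AlgSp.yon S).map h₀)))) _).mapIso ig ≪≫
      eqToIso ?_
    · show BasedFunctor.comp c₀ (BasedFunctor.comp E (BasedFunctor.comp E₁ (BasedFunctor.comp C
        (BasedFunctor.comp E₂ (fpFst y (BasedFunctor.comp x₀ f)))))) = _
      rw [hE₂f]
      show BasedFunctor.comp c₀ (BasedFunctor.comp (BasedFunctor.comp E (fpFst _ _))
        (BasedFunctor.comp eG (fpFst y y₀))) = _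
      rw [hE₁]
      rfl
    · show BasedFunctor.comp (BasedFunctor.comp (BasedFunctor.comp (AlgSt.ofOverCat W) (AlgSt.ofSpMap w))
        (AlgSt.ofSpMap (pullback.fst g₀ ((AlgSp.yon S).map h₀))))
        (BasedFunctor.comp (AlgSt.ofSpMap g) (AlgSt.toOverCat V)) = _
      rw [show AlgSt.overMap k = BasedFunctor.comp (BasedFunctor.comp (AlgSt.ofOverCat W)
        (AlgSt.ofSpMap ((AlgSp.yon S).map k))) (AlgSt.toOverCat V) from rfl, hk]
      rfl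
  · rw [hk]
    exact hP.precomp (AlgSp.IsAlgSpace.yon_obj W) hQ (AlgSp.IsAlgSpace.yon_obj V) _ _
      (locP_atlas AlgSpLib.etLocal_smooth hwe) hPQ

/-- The property on one atlas of the target gives `LocQ`. -/
theorem locQ_of_good (h𝒳 : AS 𝒳) (h𝒴 : AS 𝒴) {f : 𝒳 ⥤ᵇ 𝒴} {V : Over S} {y : overCat V ⥤ᵇ 𝒴}
    (hy : Sm y) (hys : Srj y) (h : Good P f y) : AlgSt.LocQ P f := by
  have hN := isAlgStack_fp h𝒴.isStack h𝒴.diag (isAlgStack_overCat V) h𝒳 y f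
  obtain ⟨W, e, he, hes⟩ := hN.atlas
  obtain ⟨k, ⟨i⟩⟩ := exists_overMap_iso (BasedFunctor.comp e (fpFst y f))
  refine ⟨W, V, BasedFunctor.comp e (fpSnd y f), y, k,
    (Stk.restr e _).mapIso (fpIso y f).symm ≪≫ (postB _ y).mapIso i, ?_, ?_, hy, h W e k he i⟩
  · have hsw := with_equiv_comp (isEquivOver_fpSwap y f) (repByAlgSpWith_fpFst f hy)
    exact with_comp_locP AlgSpLib.etLocal_smooth hN.isStack.1 he hsw
  · exact repByAlgSpWith_comp_desc respSrc_surjective atlasDescent_surjective compStable_surjective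
      (isFibGrpd_overCat W) hN.isStack.1 hes (with_equiv_comp (isEquivOver_fpSwap y f) (repByAlgSpWith_fpFst f hys))

theorem locQ_iff_good (hP : AlgSp.IsSmoothLocalST P) (h𝒳 : AS 𝒳) (h𝒴 : AS 𝒴) {f : 𝒳 ⥤ᵇ 𝒴} {V : Over S}
    {y : overCat V ⥤ᵇ 𝒴} (hy : Sm y) (hys : Srj y) : AlgSt.LocQ P f ↔ Good P f y :=
  ⟨fun h => good_of_locQ hP h𝒳 h𝒴 h hy, locQ_of_good h𝒳 h𝒴 hy hys⟩

end Groth.Agent.Stk19
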