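import Groth.Agent.Stk19.Psh
import Groth.Agent.Stk19.Fp2
import Groth.Prelude.Def_AlgSt3

/-! Sheaves as categories over the site of schemes; the comparison with slices. -/

set_option autoImplicit false
set_option backward.isDefEq.respectTransparency false
set_option backward.isDefEq.respectTransparency.types false

universe v₂ u₂ u

open CategoryTheory CategoryTheory.Limits AlgebraicGeometry Opposite FibCat Groth.Agent.Desc19

namespace Groth.Agent.Stk19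

variable {S : Scheme.{u}} {F G H : AlgSp.Sp S} {𝒳 : BasedCategory.{v₂, u₂} (Over S)}

theorem ofSpMap_comp (a : F ⟶ G) (b : G ⟶ H) :
    BasedFunctor.comp (AlgSt.ofSpMap a) (AlgSt.ofSpMap b) = AlgSt.ofSpMap (a ≫ b) := rfl

theorem ofSpMap_id (F : AlgSp.Sp S) : AlgSt.ofSpMap (𝟙 F) = BasedFunctor.id (AlgSt.ofSp F) := rfl

section Psh

variable {P Q R : (Over S)ᵒᵖ ⥤ Type (u + 1)}

/-- The map of presheaves under a functor over the base. -/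
def pshHom (Φ : Stk.ofPsh P ⥤ᵇ Stk.ofPsh Q) : P ⟶ Q where
  app T := ↾fun x => secOf Φ ⟨T.unop, x⟩
  naturality T T' g := by
    ext x
    exact (secOf_compat Φ (⟨g.unop, rfl⟩ : (⟨T'.unop, P.map g x⟩ : (Stk.ofPsh P).obj) ⟶ ⟨T.unop, x⟩)).symm

theorem secOf_ofPshMap (a : P ⟶ Q) (t : (Stk.ofPsh P).obj) :
    secOf (Stk.ofPshMap a) t = a.app (op t.base) t.sec := by
  show Q.map (𝟙 t.base).op (a.app (op t.base) t.sec) = _
  rw [op_id, Functor.map_id_apply]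

theorem pshIso_of_secEq {A B : 𝒳 ⥤ᵇ Stk.ofPsh P} (h : ∀ a, secOf A a = secOf B a) :
    Nonempty (A ≅ B) :=
  ⟨⟨homOfSecEq h, homOfSecEq fun a => (h a).symm, psh_hom_unique _ _, psh_hom_unique _ _⟩⟩

theorem pshHom_iso (Φ : Stk.ofPsh P ⥤ᵇ Stk.ofPsh Q) : Nonempty (Φ ≅ Stk.ofPshMap (pshHom Φ)) :=
  pshIso_of_secEq fun t => (secOf_ofPshMap (pshHom Φ) t).symm

theorem psh_ext {a b : P ⟶ Q} (h : ∀ (t : (Stk.ofPsh P).obj), secOf (Stk.ofPshMap a) t = secOf (Stk.ofPshMap b) t) :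
    a = b := by
  ext T x
  exact (secOf_ofPshMap a ⟨T.unop, x⟩).symm.trans ((h ⟨T.unop, x⟩).trans (secOf_ofPshMap b ⟨T.unop, x⟩))

theorem pshHom_congr {Φ Ψ : Stk.ofPsh P ⥤ᵇ Stk.ofPsh Q} (α : Φ ⟶ Ψ) : pshHom Φ = pshHom Ψ := by
  ext T x
  exact secOf_eq_of_hom α ⟨T.unop, x⟩

theorem pshHom_ofPshMap (a : P ⟶ Q) : pshHom (Stk.ofPshMap a) = a := by
  ext T x
  exact secOf_ofPshMap a ⟨T.unop, x⟩

theorem pshHom_comp (Φ : Stk.ofPsh P ⥤ᵇ Stk.ofPsh Q) (Ψ : Stk.ofPsh Q ⥤ᵇ Stk.ofPsh R) :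
    pshHom (BasedFunctor.comp Φ Ψ) = pshHom Φ ≫ pshHom Ψ := by
  obtain ⟨i⟩ := pshHom_iso Φ
  obtain ⟨j⟩ := pshHom_iso Ψ
  refine (pshHom_congr ?_).trans (pshHom_ofPshMap (pshHom Φ ≫ pshHom Ψ))
  exact ((postB _ Ψ).map i.hom) ≫ (Stk.restr (Stk.ofPshMap (pshHom Φ)) _).map j.hom

theorem isIso_pshHom {Φ : Stk.ofPsh P ⥤ᵇ Stk.ofPsh Q} (h : IsEquivOver Φ) : IsIso (pshHom Φ) := by
  obtain ⟨Ψ, ⟨u⟩, ⟨c⟩⟩ := h
  refine ⟨pshHom Ψ, ?_, ?_⟩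
  · rw [← pshHom_comp, pshHom_congr u.hom, show BasedFunctor.id (Stk.ofPsh P) = Stk.ofPshMap (𝟙 P) from rfl, pshHom_ofPshMap]
  · rw [← pshHom_comp, pshHom_congr c.hom, show BasedFunctor.id (Stk.ofPsh Q) = Stk.ofPshMap (𝟙 Q) from rfl, pshHom_ofPshMap]

end Psh

/-- The map of sheaves under a functor over the base. -/
def spHom (Φ : AlgSt.ofSp F ⥤ᵇ AlgSt.ofSp G) : F ⟶ G :=
  ObjectProperty.homMk (pshHom Φ)

theorem secOf_ofSpMap (a : F ⟶ G) (t : (AlgSt.ofSp F).obj) :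
    secOf (AlgSt.ofSpMap a) t = a.hom.app (op t.base) t.sec :=
  secOf_ofPshMap a.hom t

theorem secOf_spHom (Φ : AlgSt.ofSp F ⥤ᵇ AlgSt.ofSp G) (t : (AlgSt.ofSp F).obj) :
    secOf (AlgSt.ofSpMap (spHom Φ)) t = secOf Φ t :=
  secOf_ofSpMap (spHom Φ) t

theorem spHom_iso (Φ : AlgSt.ofSp F ⥤ᵇ AlgSt.ofSp G) : Nonempty (Φ ≅ AlgSt.ofSpMap (spHom Φ)) :=
  pshIso_of_secEq fun t => (secOf_spHom Φ t).symm

theorem sp_hom_ext {a b : F ⟶ G} (h : ∀ (t : (AlgSt.ofSp F).obj), secOf (AlgSt.ofSpMap a) t = secOf (AlgSt.ofSpMap b) t) :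
    a = b := by
  apply ObjectProperty.hom_ext
  ext T x
  exact (secOf_ofSpMap a ⟨T.unop, x⟩).symm.trans ((h ⟨T.unop, x⟩).trans (secOf_ofSpMap b ⟨T.unop, x⟩))

theorem ofSpMap_inj {a b : F ⟶ G} (α : AlgSt.ofSpMap a ⟶ AlgSt.ofSpMap b) : a = b :=
  sp_hom_ext fun t => secOf_eq_of_hom α t

theorem spHom_congr {Φ Ψ : AlgSt.ofSp F ⥤ᵇ AlgSt.ofSp G} (α : Φ ⟶ Ψ) : spHom Φ = spHom Ψ :=
  sp_hom_ext fun t => (secOf_spHom Φ t).trans ((secOf_eq_of_hom α t).trans (secOf_spHom Ψ t).symm)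

theorem spHom_ofSpMap (a : F ⟶ G) : spHom (AlgSt.ofSpMap a) = a :=
  sp_hom_ext fun t => secOf_spHom _ t

theorem spHom_comp (Φ : AlgSt.ofSp F ⥤ᵇ AlgSt.ofSp G) (Ψ : AlgSt.ofSp G ⥤ᵇ AlgSt.ofSp H) :
    spHom (BasedFunctor.comp Φ Ψ) = spHom Φ ≫ spHom Ψ := by
  obtain ⟨i⟩ := spHom_iso Φ
  obtain ⟨j⟩ := spHom_iso Ψ
  refine (spHom_congr ?_).trans (spHom_ofSpMap (spHom Φ ≫ spHom Ψ))
  exact ((postB _ Ψ).map i.hom) ≫ (Stk.restr (AlgSt.ofSpMap (spHom Φ)) _).map j.hom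

theorem isEquivOver_ofSpMap (a : F ⟶ G) [IsIso a] : IsEquivOver (AlgSt.ofSpMap a) :=
  ⟨AlgSt.ofSpMap (inv a),
    ⟨eqToIso (by rw [ofSpMap_comp, IsIso.hom_inv_id, ofSpMap_id])⟩,
    ⟨eqToIso (by rw [ofSpMap_comp, IsIso.inv_hom_id, ofSpMap_id])⟩⟩

theorem isIso_spHom {Φ : AlgSt.ofSp F ⥤ᵇ AlgSt.ofSp G} (h : IsEquivOver Φ) : IsIso (spHom Φ) := by
  obtain ⟨Ψ, ⟨u⟩, ⟨c⟩⟩ := h
  refine ⟨spHom Ψ, ?_, ?_⟩
  · rw [← spHom_comp, spHom_congr u.hom, ← ofSpMap_id, spHom_ofSpMap]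
  · rw [← spHom_comp, spHom_congr c.hom, ← ofSpMap_id, spHom_ofSpMap]

theorem setoid_ofSp (F : AlgSp.Sp S) : IsFibSetoid (AlgSt.ofSp F).p := fibSet_fibSetoid fibSet_ofPsh

theorem isStack_ofSp (F : AlgSp.Sp S) : Stk.IsStack (AlgSp.J S) (AlgSt.ofSp F) :=
  (isStack_ofPsh_iff _).2 ((isSheaf_iff_isSheaf_of_type _ _).1 F.property)

theorem isEquivOver_ofOverCat (U : Over S) : IsEquivOver (AlgSt.ofOverCat U) :=
  ⟨AlgSt.toOverCat U, ⟨Iso.refl _⟩, ⟨Iso.refl _⟩⟩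

theorem isEquivOver_toOverCat (U : Over S) : IsEquivOver (AlgSt.toOverCat U) :=
  ⟨AlgSt.ofOverCat U, ⟨Iso.refl _⟩, ⟨Iso.refl _⟩⟩

theorem isStack_overCat (U : Over S) : Stk.IsStack (AlgSp.J S) (overCat U) :=
  (isStack_iff_of_equiv _ (isEquivOver_ofOverCat U)).2 (isStack_ofSp _)

theorem toOver_ofOver (U : Over S) :
    BasedFunctor.comp (AlgSt.toOverCat U) (AlgSt.ofOverCat U) = BasedFunctor.id _ := rfl

theorem spMapOfOver_eq {U : Over S} (Φ : AlgSt.ofSp F ⥤ᵇ overCat U) :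
    AlgSt.spMapOfOver Φ = spHom (BasedFunctor.comp Φ (AlgSt.ofOverCat U)) := rfl

theorem spMapOfOver_congr {U : Over S} {Φ Ψ : AlgSt.ofSp F ⥤ᵇ overCat U} (α : Φ ⟶ Ψ) :
    AlgSt.spMapOfOver Φ = AlgSt.spMapOfOver Ψ := by
  rw [spMapOfOver_eq, spMapOfOver_eq]
  exact spHom_congr ((postB _ (AlgSt.ofOverCat U)).map α)

theorem spMapOfOver_ofSpMap_comp {U : Over S} (a : F ⟶ G) (Φ : AlgSt.ofSp G ⥤ᵇ overCat U) :
    AlgSt.spMapOfOver (BasedFunctor.comp (AlgSt.ofSpMap a) Φ) = a ≫ AlgSt.spMapOfOver Φ := by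
  rw [spMapOfOver_eq, spMapOfOver_eq, show BasedFunctor.comp (BasedFunctor.comp (AlgSt.ofSpMap a) Φ) (AlgSt.ofOverCat U)
    = BasedFunctor.comp (AlgSt.ofSpMap a) (BasedFunctor.comp Φ (AlgSt.ofOverCat U)) from rfl, spHom_comp, spHom_ofSpMap]

theorem spMapOfOver_comp {U : Over S} (Ψ : AlgSt.ofSp F ⥤ᵇ AlgSt.ofSp G) (Φ : AlgSt.ofSp G ⥤ᵇ overCat U) :
    AlgSt.spMapOfOver (BasedFunctor.comp Ψ Φ) = spHom Ψ ≫ AlgSt.spMapOfOver Φ := by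
  rw [spMapOfOver_eq, spMapOfOver_eq, ← spHom_comp]
  rfl

theorem ofOver_overMap {U V : Over S} (h : U ⟶ V) :
    BasedFunctor.comp (AlgSt.overMap h) (AlgSt.ofOverCat V) =
      BasedFunctor.comp (AlgSt.ofOverCat U) (AlgSt.ofSpMap ((AlgSp.yon S).map h)) := rfl

theorem spMapOfOver_overMap {U V : Over S} (Φ : AlgSt.ofSp F ⥤ᵇ overCat U) (h : U ⟶ V) :
    AlgSt.spMapOfOver (BasedFunctor.comp Φ (AlgSt.overMap h)) = AlgSt.spMapOfOver Φ ≫ (AlgSp.yon S).map h := by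
  rw [spMapOfOver_eq, spMapOfOver_eq, show BasedFunctor.comp (BasedFunctor.comp Φ (AlgSt.overMap h)) (AlgSt.ofOverCat V)
    = BasedFunctor.comp (BasedFunctor.comp Φ (AlgSt.ofOverCat U)) (AlgSt.ofSpMap ((AlgSp.yon S).map h)) from rfl,
    spHom_comp, spHom_ofSpMap]

theorem spMapOfOver_toOverCat (U : Over S) : AlgSt.spMapOfOver (AlgSt.toOverCat U) = 𝟙 ((AlgSp.yon S).obj U) := by
  rw [spMapOfOver_eq, toOver_ofOver, ← ofSpMap_id, spHom_ofSpMap]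

/-- A functor from a sheaf to a slice is the composite of its map with the identification. -/
theorem spMapOfOver_iso {U : Over S} (Φ : AlgSt.ofSp F ⥤ᵇ overCat U) :
    Nonempty (Φ ≅ BasedFunctor.comp (AlgSt.ofSpMap (AlgSt.spMapOfOver Φ)) (AlgSt.toOverCat U)) := by
  obtain ⟨i⟩ := spHom_iso (BasedFunctor.comp Φ (AlgSt.ofOverCat U))
  exact ⟨(postB _ (AlgSt.toOverCat U)).mapIso i⟩

/-- The 2-cartesian square of presheaves. -/
theorem exists_fp_equiv_psh {P F G H : (Over S)ᵒᵖ ⥤ Type (u + 1)} {fst : P ⟶ F} {snd : P ⟶ G} {a : F ⟶ H} {b : G ⟶ H}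
    (sq : IsPullback fst snd a b) :
    ∃ E : Stk.ofPsh P ⥤ᵇ fp (Stk.ofPshMap a) (Stk.ofPshMap b), IsEquivOver E ∧
      BasedFunctor.comp E (fpFst _ _) = Stk.ofPshMap fst ∧
      BasedFunctor.comp E (fpSnd _ _) = Stk.ofPshMap snd := by
  let E : Stk.ofPsh P ⥤ᵇ fp (Stk.ofPshMap a) (Stk.ofPshMap b) := fpLift (Stk.ofPshMap fst) (Stk.ofPshMap snd)
    (eqToIso (by rw [show BasedFunctor.comp (Stk.ofPshMap fst) (Stk.ofPshMap a) = Stk.ofPshMap (fst ≫ a) from rfl, show BasedFunctor.comp (Stk.ofPshMap snd) (Stk.ofPshMap b) = Stk.ofPshMap (snd ≫ b) from rfl, sq.w]))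
  have hl : ∀ t : (Stk.ofPsh P).obj, (E.obj t).obj.iso.hom.hom = 𝟙 t.base :=
    fun t => (fp_iso_map (E.obj t)).trans (eqToHom_refl _ _)
  refine ⟨E, ?_, rfl, rfl⟩
  have hT : ∀ T : (Over S)ᵒᵖ, IsPullback (fst.app T) (snd.app T) (a.app T) (b.app T) :=
    fun T => sq.map ((evaluation _ _).obj T)
  refine EqvData.isEquivOver ⟨⟨fun {s t} k => ?_⟩, ⟨fun {s t} k k' h => ?_⟩, fun z => ?_⟩
  · have h1 : k.hom.snd.hom = k.hom.fst.hom := (fp_map_snd k).trans (by simp [fpLift])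
    have ks : G.map k.hom.snd.hom.op (snd.app _ t.sec) = snd.app _ s.sec := k.hom.snd.map_sec
    rw [h1] at ks
    refine ⟨⟨k.hom.fst.hom, ?_⟩, fp_hom_ext (Stk.EltObj.hom_ext rfl) (Stk.EltObj.hom_ext h1.symm)⟩
    refine Types.ext_of_isPullback (hT (op s.base)) ?_ ?_
    · rw [NatTrans.naturality_apply]; exact k.hom.fst.map_sec
    · rw [NatTrans.naturality_apply]; exact ks
  · exact Stk.EltObj.hom_ext (congrArg (fun m => m.hom.fst.hom) h :)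
  · let T := z.obj.fst.base
    let y : G.obj (op T) := G.map (eqToHom (fp_base_eq z).symm).op z.obj.snd.sec
    have hi : z.obj.iso.hom.hom = eqToHom (fp_base_eq z).symm := fp_iso_map z
    have hxy : a.app _ z.obj.fst.sec = b.app _ y := by
      have hm : H.map z.obj.iso.hom.hom.op (b.app _ z.obj.snd.sec) = a.app _ z.obj.fst.sec :=
        z.obj.iso.hom.map_sec
      rw [hi] at hm
      rw [← hm]
      exact (NatTrans.naturality_apply b (eqToHom (fp_base_eq z).symm).op z.obj.snd.sec).symm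
    obtain ⟨p, hp1, hp2⟩ := Types.exists_of_isPullback (hT (op T)) z.obj.fst.sec y hxy
    let e1 : (⟨T, fst.app _ p⟩ : (Stk.ofPsh F).obj) ≅ z.obj.fst := eqToIso (by rw [hp1])
    have he1 : e1.hom.hom = 𝟙 T := by
      have : ∀ (s : F.obj (op T)) (h : (⟨T, s⟩ : (Stk.ofPsh F).obj) = z.obj.fst), (eqToIso h).hom.hom = 𝟙 T := by
        intro s h
        exact (eqToHom_map (Stk.ofPsh F).p h).trans rfl
      exact this _ _
    let e2 : (⟨T, snd.app _ p⟩ : (Stk.ofPsh G).obj) ≅ z.obj.snd :=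
      { hom := ⟨eqToHom (fp_base_eq z).symm, hp2.symm⟩
        inv := ⟨eqToHom (fp_base_eq z), by
          rw [hp2]
          show G.map (eqToHom (fp_base_eq z)).op (G.map (eqToHom (fp_base_eq z).symm).op z.obj.snd.sec) = z.obj.snd.sec
          rw [← Functor.map_comp_apply, ← op_comp, eqToHom_trans, eqToHom_refl, op_id, Functor.map_id_apply]⟩
        hom_inv_id := Stk.EltObj.hom_ext ((eqToHom_trans (fp_base_eq z).symm (fp_base_eq z)).trans (eqToHom_refl _ _))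
        inv_hom_id := Stk.EltObj.hom_ext ((eqToHom_trans (fp_base_eq z) (fp_base_eq z).symm).trans (eqToHom_refl _ _)) }
    refine ⟨⟨T, p⟩, fpIsoMk e1 e2 (Stk.EltObj.hom_ext ?_), fpIsoMk_vert _ _ _ ?_⟩
    · show e1.hom.hom ≫ z.obj.iso.hom.hom = (E.obj ⟨T, p⟩).obj.iso.hom.hom ≫ e2.hom.hom
      rw [he1, hi, hl]
    · exact (vert_iff _ _).2 ⟨rfl, rfl, he1.trans rfl⟩

/-- The 2-cartesian square of sheaves. -/
theorem exists_fp_equiv {P : AlgSp.Sp S} {fst : P ⟶ F} {snd : P ⟶ G} {a : F ⟶ H} {b : G ⟶ H}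
    (sq : IsPullback fst snd a b) :
    ∃ E : AlgSt.ofSp P ⥤ᵇ fp (AlgSt.ofSpMap a) (AlgSt.ofSpMap b), IsEquivOver E ∧
      BasedFunctor.comp E (fpFst _ _) = AlgSt.ofSpMap fst ∧
      BasedFunctor.comp E (fpSnd _ _) = AlgSt.ofSpMap snd :=
  exists_fp_equiv_psh (sq.map (sheafToPresheaf _ _))

end Groth.Agent.Stk19
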