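import Groth.Agent.Stk19.AlgSt.FpAlg
import Groth.Agent.Stk19.AlgSt.Mono

/-! Small facts on algebraic stacks and their points. -/

set_option autoImplicit false
set_option backward.isDefEq.respectTransparency false
set_option backward.isDefEq.respectTransparency.types false

universe u

open CategoryTheory CategoryTheory.Limits AlgebraicGeometry Opposite FibCat Groth.Agent.Desc19

namespace Groth.Agent.Stk19

variable {S : Scheme.{u}} {P : MorphismProperty (AlgSp.Sp S)} {𝒳 𝒴 𝒵 : AlgSt.Cat S}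

theorem repByAlgSpWith_etale_iff {f : 𝒳 ⥤ᵇ 𝒴} :
    AlgSt.RepByAlgSpWith AlgSp.IsEtaleMor f ↔ AlgSt.RepByAlgSpWith (AlgSp.LocP @Etale) f :=
  ⟨repByAlgSpWith_mono fun _ _ a hV ha =>
      (AlgSpLib.isEtaleMor_iff_locP AlgSpLib.etLocal_etale hV (AlgSp.IsAlgSpace.yon_obj _) a).1 ha,
    repByAlgSpWith_mono fun _ _ a hV ha =>
      (AlgSpLib.isEtaleMor_iff_locP AlgSpLib.etLocal_etale hV (AlgSp.IsAlgSpace.yon_obj _) a).2 ha⟩

theorem hasAtlas_etale_iff : AlgSt.HasAtlas AlgSp.IsEtaleMor 𝒳 ↔ AlgSt.HasAtlas (AlgSp.LocP @Etale) 𝒳 :=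
  ⟨fun ⟨U, x, h₁, h₂⟩ => ⟨U, x, repByAlgSpWith_etale_iff.1 h₁, h₂⟩,
    fun ⟨U, x, h₁, h₂⟩ => ⟨U, x, repByAlgSpWith_etale_iff.2 h₁, h₂⟩⟩

/-- An algebraic space is a Deligne-Mumford stack. -/
theorem isDM_ofSp (F : AlgSp.Space S) : AlgSt.IsDM Scheme.fppfPrecoverage (AlgSt.ofSp F.obj) := by
  obtain ⟨U, q, hqe, hqs⟩ := F.property.atlas
  have hU : AlgSt.RepByAlgSp (AlgSt.ofSp ((AlgSp.yon S).obj U)) := repByAlgSp_ofSp ⟨_, AlgSp.IsAlgSpace.yon_obj U⟩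
  have key : ∀ {Q : MorphismProperty Scheme.{u}}, AlgSpLib.EtLocal Q →
      AlgSt.RepByAlgSpWith (AlgSp.LocP Q) (BasedFunctor.comp (AlgSt.ofOverCat U) (AlgSt.ofSpMap q)) := fun hQ =>
    repByAlgSpWith_comp_desc (respSrc_locP hQ) (atlasDescent_locP hQ) (compStable_locP hQ)
      (isFibGrpd_overCat U) (fibGrpd_of_repByAlgSp hU)
      (repByAlgSpWith_of_isEquivOver (isEquivOver_ofOverCat U) fun T =>
        AlgSpLib.locP_of_repWith hQ (AlgSp.IsAlgSpace.yon_obj T) (AlgSpLib.RepWith.mono hQ.of_etale (AlgSp.repWith_id _ T)))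
      (repByAlgSpWith_ofSpMap (pbStable_locP hQ) (V := ⟨_, AlgSp.IsAlgSpace.yon_obj U⟩) q
        (AlgSpLib.locP_of_repWith hQ (AlgSp.IsAlgSpace.yon_obj U) (AlgSpLib.RepWith.mono hQ.of_etale hqe)))
  have hs : AlgSt.RepByAlgSpWith AlgSp.IsSurjectiveMor (BasedFunctor.comp (AlgSt.ofOverCat U) (AlgSt.ofSpMap q)) :=
    repByAlgSpWith_comp_desc respSrc_surjective atlasDescent_surjective compStable_surjective
      (isFibGrpd_overCat U) (fibGrpd_of_repByAlgSp hU)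
      (repByAlgSpWith_of_isEquivOver (isEquivOver_ofOverCat U) surjective_id)
      (repByAlgSpWith_ofSpMap pbStable_surjective (V := ⟨_, AlgSp.IsAlgSpace.yon_obj U⟩) q (surjective_etale_map q hqs))
  exact ⟨⟨isStack_of_repByAlgSp (repByAlgSp_ofSp F), repByAlgSp1_diag_of_rep (repByAlgSp_ofSp F),
    U, _, key AlgSpLib.etLocal_smooth, hs⟩, hasAtlas_etale_iff.2 ⟨U, _, key AlgSpLib.etLocal_etale, hs⟩⟩

theorem isDM_of_repByAlgSp (h : AlgSt.RepByAlgSp 𝒳) : AlgSt.IsDM Scheme.fppfPrecoverage 𝒳 := by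
  obtain ⟨F, e, he⟩ := h
  exact (isDM_iff_of_equiv he).1 (isDM_ofSp F)

/-- A category relatively representable over an algebraic stack is an algebraic stack. -/
theorem isAlgStack_of_rep1 (h𝒳 : IsFibGrpd 𝒳.p) (h𝒴 : AlgSt.IsAlgStack Scheme.fppfPrecoverage 𝒴)
    (j : 𝒳 ⥤ᵇ 𝒴) (hj : AlgSt.RepByAlgSp1 j) : AlgSt.IsAlgStack Scheme.fppfPrecoverage 𝒳 := by
  have := faithful_of_repByAlgSp1 h𝒳 h𝒴.isStack.1 hj
  refine ⟨isStack_of_relative _ h𝒳 h𝒴.isStack j fun U y => isStack_of_repByAlgSp (hj U y), ?_, ?_⟩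
  · refine (repByAlgSp1_diag_iff h𝒳).2 fun U x => ?_
    exact repByAlgSp1_of_comp x j h𝒳 h𝒴.isStack.1 ((repByAlgSp1_diag_iff h𝒴.isStack.1).1 h𝒴.diag U _)
      (repByAlgSp1_of_with (diag_of_rep1 (P := ⊤) (fun _ _ _ _ _ _ _ _ _ _ _ _ _ _ => trivial) hj fun _ _ _ => trivial))
  · obtain ⟨U, y, hy₁, hy₂⟩ := h𝒴.atlas
    obtain ⟨T, e, he⟩ := hj U y
    obtain ⟨W, q, hqe, hqs⟩ := T.property.atlas
    have hA : AlgSt.RepByAlgSpWith (AlgSp.LocP @Smooth ⊓ AlgSp.IsSurjectiveMor) y :=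
      repByAlgSpWith_and respSrc_surjective hy₁ hy₂
    have hPb : PbStable (AlgSp.LocP @Smooth ⊓ AlgSp.IsSurjectiveMor : MorphismProperty (AlgSp.Sp S)) :=
      (pbStable_locP AlgSpLib.etLocal_smooth).inf pbStable_surjective
    have hR := respSrc_of_baseChange hPb
    have hD := (atlasDescent_locP (S := S) AlgSpLib.etLocal_smooth).inf atlasDescent_surjective
    have hPc := (compStable_locP (S := S) AlgSpLib.etLocal_smooth).inf compStable_surjective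
    have hI : ∀ T : Over S, (AlgSp.LocP @Smooth ⊓ AlgSp.IsSurjectiveMor : MorphismProperty (AlgSp.Sp S)) (𝟙 ((AlgSp.yon S).obj T)) :=
      fun T => ⟨AlgSpLib.locP_of_repWith AlgSpLib.etLocal_smooth (AlgSp.IsAlgSpace.yon_obj T)
        (AlgSpLib.RepWith.mono AlgSpLib.etLocal_smooth.of_etale (AlgSp.repWith_id _ T)), surjective_id T⟩
    have hN := fibGrpd_fp (isFibGrpd_overCat U) h𝒳 h𝒴.isStack.1 y j
    have hT := fibGrpd_of_repByAlgSp (repByAlgSp_ofSp T)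
    have hw := repByAlgSpWith_comp_desc hR hD hPc (isFibGrpd_overCat W) hN
      (repByAlgSpWith_comp_desc hR hD hPc (isFibGrpd_overCat W) hT
        (repByAlgSpWith_comp_desc hR hD hPc (isFibGrpd_overCat W)
          (fibGrpd_of_repByAlgSp (repByAlgSp_ofSp ⟨_, AlgSp.IsAlgSpace.yon_obj W⟩))
          (repByAlgSpWith_of_isEquivOver (isEquivOver_ofOverCat W) hI)
          (repByAlgSpWith_ofSpMap hPb (V := ⟨_, AlgSp.IsAlgSpace.yon_obj W⟩) q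
            ⟨AlgSpLib.locP_of_repWith AlgSpLib.etLocal_smooth (AlgSp.IsAlgSpace.yon_obj W)
              (AlgSpLib.RepWith.mono AlgSpLib.etLocal_smooth.of_etale hqe), surjective_etale_map q hqs⟩))
        (repByAlgSpWith_of_isEquivOver he hI))
      (repByAlgSpWith_fpSnd j hA)
    exact ⟨W, _, repByAlgSpWith_mono (fun _ _ _ _ ha => ha.1) hw, repByAlgSpWith_mono (fun _ _ _ _ ha => ha.2) hw⟩

theorem isAlgStack_selfOver : AlgSt.IsAlgStack Scheme.fppfPrecoverage (selfOver (Over S)) :=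
  (isDM_of_repByAlgSp repByAlgSp_selfOver).1

theorem exists_points_fp (h𝒳 : IsFibGrpd 𝒳.p) (h𝒴 : IsFibGrpd 𝒴.p) (h𝒵 : IsFibGrpd 𝒵.p)
    (f : 𝒳 ⥤ᵇ 𝒴) (g : 𝒵 ⥤ᵇ 𝒴) (z : AlgSt.Points 𝒵) (x : AlgSt.Points 𝒳)
    (h : AlgSt.Points.map g z = AlgSt.Points.map f x) :
    ∃ w : AlgSt.Points (fp g f), AlgSt.Points.map (fpFst g f) w = z ∧ AlgSt.Points.map (fpSnd g f) w = x := by
  obtain ⟨p, rfl⟩ := AlgSt.Points.mk_surjective z
  obtain ⟨q, rfl⟩ := AlgSt.Points.mk_surjective x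
  rw [AlgSt.Points.map_mk, AlgSt.Points.map_mk, points_mk_eq_iff h𝒴] at h
  obtain ⟨r, a, b, -⟩ := h
  let c : Over.mk r.str ⟶ 𝒵.p.obj p.obj := eqToHom r.lies.symm ≫ 𝒴.p.map a ≫ eqToHom (g.w_obj p.obj)
  let d : Over.mk r.str ⟶ 𝒳.p.obj q.obj := eqToHom r.lies.symm ≫ 𝒴.p.map b ≫ eqToHom (f.w_obj q.obj)
  obtain ⟨v, l, e₁, hl⟩ := fibGrpd_lift h𝒵 p.obj c
  obtain ⟨w, m, e₂, hm⟩ := fibGrpd_lift h𝒳 q.obj d
  obtain ⟨χ, ⟨hχ, -⟩, -⟩ := fibGrpd_fac h𝒴 a (g.map l) (eqToHom ((g.w_obj v).trans (e₁.trans r.lies.symm))) (by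
    rw [based_map g, hl]
    simp [c])
  obtain ⟨ω, ⟨hω, -⟩, -⟩ := fibGrpd_fac h𝒴 (f.map m) b (eqToHom (r.lies.trans (e₂.symm.trans (f.w_obj w).symm))) (by
    rw [based_map f, hm]
    simp [d])
  have hv : 𝒴.p.IsHomLift (𝟙 (𝒵.p.obj v)) (χ ≫ ω) := by
    have hmap : 𝒴.p.map (χ ≫ ω) = eqToHom ((g.w_obj v).trans (e₁.trans (e₂.symm.trans (f.w_obj w).symm))) := by
      rw [𝒴.p.map_comp, hχ, hω, eqToHom_trans]
    exact vert_change 𝒴.p _ (vert_of_map_eq 𝒴.p hmap) (g.w_obj v)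
  have : IsIso (χ ≫ ω) := fibGrpd_isIso_vert h𝒴 (R := 𝒵.p.obj v) _
  refine ⟨AlgSt.Points.mk { K := r.K, str := r.str, obj := fpMk v w (asIso (χ ≫ ω)) hv, lies := e₁ }, ?_, ?_⟩
  · exact AlgSt.Points.sound ⟨{ K := r.K, str := r.str, obj := v, lies := e₁ }, 𝟙 _, l, trivial⟩
  · exact AlgSt.Points.sound ⟨{ K := r.K, str := r.str, obj := w, lies := e₂ }, 𝟙 _, m, trivial⟩

theorem isSurjective_fpFst (h𝒳 : IsFibGrpd 𝒳.p) (h𝒴 : IsFibGrpd 𝒴.p) (h𝒵 : IsFibGrpd 𝒵.p)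
    (f : 𝒳 ⥤ᵇ 𝒴) (g : 𝒵 ⥤ᵇ 𝒴) (hf : AlgSt.IsSurjective f) : AlgSt.IsSurjective (fpFst g f) := fun z => by
  obtain ⟨x, hx⟩ := hf (AlgSt.Points.map g z)
  obtain ⟨w, hw, -⟩ := exists_points_fp h𝒳 h𝒴 h𝒵 f g z x hx.symm
  exact ⟨w, hw⟩

theorem isQuasiCompact_of_equiv {e : 𝒳 ⥤ᵇ 𝒴} (he : IsEquivOver e) (h : AlgSt.IsQuasiCompact 𝒳) :
    AlgSt.IsQuasiCompact 𝒴 := by
  obtain ⟨U, x, hU, h₁, h₂⟩ := h
  exact ⟨U, BasedFunctor.comp x e, hU,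
    (repByAlgSpWith_iff_of_square (f := BasedFunctor.comp x e) (isEquivOver_id _) he (Iso.refl _)).1 h₁,
    (repByAlgSpWith_iff_of_square (f := BasedFunctor.comp x e) (isEquivOver_id _) he (Iso.refl _)).1 h₂⟩

theorem isQuasiCompactMor_fpFst {K : Precoverage Scheme.{u}} {f : 𝒳 ⥤ᵇ 𝒴} (g : 𝒵 ⥤ᵇ 𝒴)
    (h : AlgSt.IsQuasiCompactMor K f) : AlgSt.IsQuasiCompactMor K (fpFst g f) := fun T hT hq z => by
  obtain ⟨G, hG, -, -⟩ := exists_inverse (isEquivOver_fpPaste z g f)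
  exact isQuasiCompact_of_equiv hG (h T hT hq _)

theorem isQuasiCompactMor_comp {K : Precoverage Scheme.{u}} {f : 𝒳 ⥤ᵇ 𝒴} {g : 𝒴 ⥤ᵇ 𝒵}
    (h𝒴 : AlgSt.IsAlgStack K 𝒴) (h𝒵 : AlgSt.IsAlgStack K 𝒵)
    (hf : AlgSt.IsQuasiCompactMor K f) (hg : AlgSt.IsQuasiCompactMor K g) :
    AlgSt.IsQuasiCompactMor K (BasedFunctor.comp f g) := fun T hT hq z =>
  isQuasiCompact_of_equiv (isEquivOver_fpCompFactor z f g)
    (hf (fp z g) (isAlgStack_fp h𝒵.isStack h𝒵.diag hT h𝒴 z g) (hg T hT hq z) (fpSnd z g))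

end Groth.Agent.Stk19
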