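import Groth.Agent.Stk19.AlgSt.Qc
import Groth.Agent.Stk19.AlgSt.Local

/-! Universally injective functors of algebraic stacks. -/

set_option autoImplicit false
set_option backward.isDefEq.respectTransparency false
set_option backward.isDefEq.respectTransparency.types false

universe u

open CategoryTheory CategoryTheory.Limits AlgebraicGeometry Opposite FibCat Groth.Agent.Desc19

namespace Groth.Agent.Stk19

variable {S : Scheme.{u}} {𝒳 𝒴 𝒵 : AlgSt.Cat S}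

local notation "AS" => AlgSt.IsAlgStack Scheme.fppfPrecoverage

theorem isSurjective_square {𝒳' 𝒴' : AlgSt.Cat S} {f : 𝒳 ⥤ᵇ 𝒴} {f' : 𝒳' ⥤ᵇ 𝒴'} {a : 𝒳 ⥤ᵇ 𝒳'} {b : 𝒴 ⥤ᵇ 𝒴'}
    (hb : Function.Injective (AlgSt.Points.map b)) (ha : AlgSt.IsSurjective a)
    (e : BasedFunctor.comp a f' ≅ BasedFunctor.comp f b) (h : AlgSt.IsSurjective f') : AlgSt.IsSurjective f := fun y => by
  obtain ⟨x, hx⟩ := h (AlgSt.Points.map b y)
  obtain ⟨x₀, rfl⟩ := ha x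
  exact ⟨x₀, hb ((points_map_comp f b x₀).symm.trans ((points_map_congr e x₀).symm.trans ((points_map_comp a f' x₀).trans hx)))⟩

theorem isSurjective_diag_fpFst (h𝒳 : AS 𝒳) (h𝒴 : AS 𝒴) (h𝒵 : AS 𝒵) {f : 𝒳 ⥤ᵇ 𝒴} (g : 𝒵 ⥤ᵇ 𝒴)
    (h : AlgSt.IsSurjective (FibCat.diag f)) : AlgSt.IsSurjective (FibCat.diag (fpFst g f)) := by
  have hff := fibGrpd_fp h𝒳.isStack.1 h𝒳.isStack.1 h𝒴.isStack.1 f f
  have hgf := fibGrpd_fp h𝒵.isStack.1 h𝒳.isStack.1 h𝒴.isStack.1 g f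
  have hN := fibGrpd_fp hgf hgf h𝒵.isStack.1 (fpFst g f) (fpFst g f)
  intro p
  obtain ⟨q, hq⟩ := isSurjective_fpFst h𝒳.isStack.1 hff hN (FibCat.diag f) (bcPair g f) h p
  obtain ⟨r, rfl⟩ := (points_bijective_of_equiv (isEquivOver_diagBaseChange g f)).2 q
  refine ⟨r, ?_⟩
  rw [← hq, ← points_map_comp, diagBaseChange_fst]

/-- Universal injectivity is surjectivity of the diagonal. -/
theorem isUnivInjective_iff (h𝒳 : AS 𝒳) (h𝒴 : AS 𝒴) (f : 𝒳 ⥤ᵇ 𝒴) :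
    AlgSt.IsUnivInjective Scheme.fppfPrecoverage f ↔ AlgSt.IsSurjective (FibCat.diag f) := by
  constructor
  · intro h p
    refine ⟨AlgSt.Points.map (fpFst f f) p, h 𝒳 h𝒳 f ?_⟩
    rw [← points_map_comp]
    exact points_map_id _
  · intro h 𝒯 hT g a b e
    have hgf := fibGrpd_fp hT.isStack.1 h𝒳.isStack.1 h𝒴.isStack.1 g f
    obtain ⟨p, hp₁, hp₂⟩ := exists_points_fp hgf hT.isStack.1 hgf (fpFst g f) (fpFst g f) a b e
    obtain ⟨r, rfl⟩ := isSurjective_diag_fpFst h𝒳 h𝒴 hT g h p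
    rw [← points_map_comp] at hp₁ hp₂
    exact hp₁.symm.trans ((points_map_id r).trans ((points_map_id r).symm.trans hp₂))

theorem isSurjective_diag_comp (h𝒳 : AS 𝒳) (h𝒴 : AS 𝒴) (h𝒵 : AS 𝒵) {f : 𝒳 ⥤ᵇ 𝒴} {g : 𝒴 ⥤ᵇ 𝒵}
    (hf : AlgSt.IsSurjective (FibCat.diag f)) (hg : AlgSt.IsSurjective (FibCat.diag g)) :
    AlgSt.IsSurjective (FibCat.diag (BasedFunctor.comp f g)) := fun p => by
  have hyy := fibGrpd_fp h𝒴.isStack.1 h𝒴.isStack.1 h𝒵.isStack.1 g g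
  have hxx := fibGrpd_fp h𝒳.isStack.1 h𝒳.isStack.1 h𝒵.isStack.1 (BasedFunctor.comp f g) (BasedFunctor.comp f g)
  obtain ⟨q, hq⟩ := isSurjective_fpFst h𝒴.isStack.1 hyy hxx (FibCat.diag g) (relPairMap f f g) hg p
  obtain ⟨r, rfl⟩ := (points_bijective_of_equiv (isEquivOver_relMagic f f g)).2 q
  obtain ⟨s, rfl⟩ := hf r
  refine ⟨s, ?_⟩
  rw [← hq, ← points_map_comp, relMagic_fst, ← points_map_comp, points_map_congr (diagCompIso f g)]

/-- Surjectivity of the diagonal is tested on lifts of field-valued points. -/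
theorem isSurjective_diag_of_lifts (h𝒳 : AS 𝒳) (h𝒴 : AS 𝒴) {f : 𝒳 ⥤ᵇ 𝒴} (g : 𝒵 ⥤ᵇ 𝒴)
    (hg : AlgSt.IsSurjective (FibCat.diag (fpFst g f)))
    (hl : ∀ (U : Over S) (y : overCat U ⥤ᵇ fp f f) (t : ↥U.left),
      ∃ (U' : Over S) (y' : overCat U' ⥤ᵇ fp f f) (t' : ↥U'.left) (z : overCat U' ⥤ᵇ 𝒵),
        AlgSt.Points.ofChart y' t' = AlgSt.Points.ofChart y t ∧
        Nonempty (BasedFunctor.comp z g ≅ BasedFunctor.comp (BasedFunctor.comp y' (fpFst f f)) f)) :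
    AlgSt.IsSurjective (FibCat.diag f) := fun p => by
  obtain ⟨K, _, str, y, hy⟩ := exists_ofChart_eq p (fibGrpd_fp h𝒳.isStack.1 h𝒳.isStack.1 h𝒴.isStack.1 f f)
  obtain ⟨U', y', t', z, ht, ⟨i⟩⟩ := hl (Over.mk str) y (IsLocalRing.closedPoint K)
  obtain ⟨l, ⟨j⟩⟩ := exists_bcPair_lift' f g y' z i
  obtain ⟨r, hr⟩ := hg (AlgSt.Points.ofChart l t')
  refine ⟨AlgSt.Points.map (BasedFunctor.comp (diagBaseChange g f) (fpSnd (bcPair g f) (FibCat.diag f))) r, ?_⟩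
  rw [← hy (IsLocalRing.closedPoint K), ← ht, ← ofChart_congr j, ← map_ofChart, ← hr, ← points_map_comp,
    ← points_map_comp]
  exact (points_map_congr ((Stk.restr (diagBaseChange g f) _).mapIso (fpIso (bcPair g f) (FibCat.diag f))) r).symm

end Groth.Agent.Stk19
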