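import Groth.Agent.Stk19.AlgSt.Qc
import Groth.Agent.Stk19.AlgSt.Local

/-! Flat covers of algebraic stacks given by charts: lifts, openness, descent of quasi-compactness. -/

set_option autoImplicit false
set_option backward.isDefEq.respectTransparency false
set_option backward.isDefEq.respectTransparency.types false

universe u

open CategoryTheory CategoryTheory.Limits AlgebraicGeometry Opposite FibCat Groth.Agent.Desc19

namespace Groth.Agent.Stk19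

variable {S : Scheme.{u}} {𝒳 𝒴 : AlgSt.Cat S}

theorem with_overMap {Q : MorphismProperty Scheme.{u}} [Q.RespectsIso] [Q.IsStableUnderBaseChange]
    (hQ : AlgSpLib.EtLocal Q) {W U : Over S} (p : W ⟶ U) (h : Q p.left) :
    AlgSt.RepByAlgSpWith (AlgSp.LocP Q) (AlgSt.overMap p) := by
  refine (repByAlgSpWith_iff_of_square (f' := AlgSt.overMap p) (f := AlgSt.ofSpMap ((AlgSp.yon S).map p))
    (a := AlgSt.ofOverCat W) (b := AlgSt.ofOverCat U) (isEquivOver_ofOverCat W) (isEquivOver_ofOverCat U)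
    (eqToIso (ofOver_overMap p))).2 ?_
  have k : AlgSp.RepWith Q ((AlgSp.yon S).map p) := (AlgSp.repWith_yon_map_iff Q p).2 h
  exact repByAlgSpWith_ofSpMap (pbStable_locP hQ) (V := ⟨_, AlgSp.IsAlgSpace.yon_obj W⟩)
    (Z := ⟨_, AlgSp.IsAlgSpace.yon_obj U⟩) _ (AlgSpLib.locP_of_repWith hQ (AlgSp.IsAlgSpace.yon_obj W) k)

theorem with_comp_chart {Q : MorphismProperty Scheme.{u}} [Q.RespectsIso] [Q.IsStableUnderBaseChange]
    (hQ : AlgSpLib.EtLocal Q) {W U : Over S} (p : W ⟶ U) (h : Q p.left) {x : overCat U ⥤ᵇ 𝒴}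
    (hx : AlgSt.RepByAlgSpWith (AlgSp.LocP Q) x) :
    AlgSt.RepByAlgSpWith (AlgSp.LocP Q) (BasedFunctor.comp (AlgSt.overMap p) x) :=
  with_comp_locP hQ (isFibGrpd_overCat U) (with_overMap hQ p h) hx

theorem exists_chart_of_locQ {Q : MorphismProperty Scheme.{u}} [Q.RespectsIso] [Q.IsStableUnderBaseChange]
    (hQ : AlgSpLib.EtLocal Q) (hle : @Smooth.{u} ≤ Q) {f : 𝒳 ⥤ᵇ 𝒴} (hf : AlgSt.LocQ (AlgSp.LocP Q) f) :
    ∃ (U : Over S) (x : overCat U ⥤ᵇ 𝒳), AlgSt.RepByAlgSpWith (AlgSp.LocP @Smooth) x ∧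
      AlgSt.RepByAlgSpWith AlgSp.IsSurjectiveMor x ∧
      AlgSt.RepByAlgSpWith (AlgSp.LocP Q) (BasedFunctor.comp x f) := by
  obtain ⟨U, V, x, y, h, α, hx, hxs, hy, hh⟩ := hf
  exact ⟨U, x, hx, hxs, repByAlgSpWith_of_iso α.symm (with_comp_chart hQ h (AlgSp.locP_yon_map hh)
    (repByAlgSpWith_mono (fun _ _ _ _ ha => AlgSpLib.locP_mono hle ha) hy))⟩

/-- One chart exhibiting flatness and local finite presentation at the same time. -/
theorem exists_chart_flat_lfp (h𝒳 : AlgSt.IsAlgStack Scheme.fppfPrecoverage 𝒳) {f : 𝒳 ⥤ᵇ 𝒴}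
    (h₁ : AlgSt.LocQ (AlgSp.LocP @Flat) f) (h₂ : AlgSt.LocQ (AlgSp.LocP @LocallyOfFinitePresentation) f) :
    ∃ (W : Over S) (w : overCat W ⥤ᵇ 𝒳), Function.Surjective (AlgSt.Points.ofChart w) ∧
      AlgSt.RepByAlgSpWith (AlgSp.LocP @Flat) (BasedFunctor.comp w f) ∧
      AlgSt.RepByAlgSpWith (AlgSp.LocP @LocallyOfFinitePresentation) (BasedFunctor.comp w f) := by
  obtain ⟨U, x, hx, hxs, hxf⟩ :=
    exists_chart_of_locQ AlgSpLib.etLocal_flat (fun _ _ g (hg : Smooth g) => inferInstance) h₁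
  obtain ⟨U', x', hx', hxs', hxf'⟩ :=
    exists_chart_of_locQ AlgSpLib.etLocal_lfp (fun _ _ g (hg : Smooth g) => inferInstance) h₂
  obtain ⟨W, p, q, ⟨α⟩, hq, hp, hsurj⟩ := exists_chart_fp h𝒳.isStack.1 x' (repByAlgSp1_of_with hx)
  have := hp AlgSpLib.etLocal_smooth hx'
  have := hq AlgSpLib.etLocal_smooth hx
  refine ⟨W, BasedFunctor.comp (AlgSt.overMap p) x, fun z => ?_,
    with_comp_chart AlgSpLib.etLocal_flat p inferInstance hxf, ?_⟩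
  · obtain ⟨s, rfl⟩ := ofChart_surjective h𝒳.isStack.1 hxs z
    obtain ⟨t, ht⟩ := ofChart_surjective h𝒳.isStack.1 hxs' (AlgSt.Points.ofChart x s)
    obtain ⟨w, rfl, rfl⟩ := hsurj s t ht.symm
    exact ⟨w, ofChart_overMap p x w⟩
  · exact repByAlgSpWith_of_iso ((postB _ f).mapIso α.symm) (with_comp_chart AlgSpLib.etLocal_lfp q inferInstance hxf')

theorem isOpenMor_of_locQ (h𝒳 : AlgSt.IsAlgStack Scheme.fppfPrecoverage 𝒳)
    (h𝒴 : AlgSt.IsAlgStack Scheme.fppfPrecoverage 𝒴) {f : 𝒳 ⥤ᵇ 𝒴}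
    (h₁ : AlgSt.LocQ (AlgSp.LocP @Flat) f) (h₂ : AlgSt.LocQ (AlgSp.LocP @LocallyOfFinitePresentation) f) :
    AlgSt.IsOpenMor f := by
  obtain ⟨W, w, hw, hf₁, hf₂⟩ := exists_chart_flat_lfp h𝒳 h₁ h₂
  intro A hA
  rw [← Set.image_preimage_eq A hw, Set.image_image]
  simp only [map_ofChart]
  exact isOpenMap_ofChart h𝒴.isStack.1 hf₁ hf₂ _ (hA.preimage (continuous_ofChart h𝒳 w))

/-- A surjective open family onto a quasi-compact scheme can be refined to a compact one. -/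
theorem exists_compact_refine {W V : Over S} (c : W ⟶ V) [CompactSpace ↥V.left] (hc : Function.Surjective c.left)
    (ho : IsOpenMap c.left) :
    ∃ (W' : Over S) (d : W' ⟶ W), CompactSpace ↥W'.left ∧ Function.Surjective (d ≫ c).left := by
  obtain ⟨σ, hσ⟩ := isCompact_univ.elim_finite_subcover
    (fun i : W.left.affineOpens => c.left '' (i.1 : Set W.left)) (fun i => ho _ i.1.2) (fun t _ => by
      obtain ⟨s, rfl⟩ := hc t
      obtain ⟨_, ⟨O, hO, rfl⟩, hs, -⟩ :=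
        W.left.isBasis_affineOpens.exists_subset_of_mem_open (Set.mem_univ s) isOpen_univ
      exact Set.mem_iUnion.2 ⟨⟨O, hO⟩, s, hs, rfl⟩)
  refine ⟨Over.mk (Sigma.desc (fun i : σ => i.1.1.ι) ≫ W.hom), Over.homMk (Sigma.desc fun i : σ => i.1.1.ι), ?_, fun t => ?_⟩
  · have : ∀ i : σ, IsAffine i.1.1.toScheme := fun i => i.1.2
    have : IsAffine (∐ fun i : σ => i.1.1.toScheme) := inferInstance
    exact (inferInstance : CompactSpace ↥(∐ fun i : σ => i.1.1.toScheme))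
  · obtain ⟨i, hi, v, hv, rfl⟩ := Set.mem_iUnion₂.1 (hσ (Set.mem_univ t))
    refine ⟨Sigma.ι (fun i : σ => i.1.1.toScheme) ⟨i, hi⟩ ⟨v, hv⟩, ?_⟩
    show c.left (((Sigma.ι (fun i : σ => i.1.1.toScheme) ⟨i, hi⟩) ≫ Sigma.desc fun i : σ => i.1.1.ι) ⟨v, hv⟩) = c.left v
    rw [Sigma.ι_desc]
    rfl

/-- Lifts of a chart along a flat cover after compact covers. -/
theorem exists_compact_lift {𝒲 : AlgSt.Cat S} {u : 𝒲 ⥤ᵇ 𝒴} (h₁ : AlgSt.RepByAlgSpWith (AlgSp.LocP @Flat) u)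
    (h₂ : AlgSt.RepByAlgSpWith (AlgSp.LocP @LocallyOfFinitePresentation) u)
    (h₃ : AlgSt.RepByAlgSpWith AlgSp.IsSurjectiveMor u) (V : Over S) (y : overCat V ⥤ᵇ 𝒴) [CompactSpace ↥V.left] :
    ∃ (W : Over S) (c : W ⟶ V) (z : overCat W ⥤ᵇ 𝒲), CompactSpace ↥W.left ∧ Function.Surjective c.left ∧
      Nonempty (BasedFunctor.comp z u ≅ BasedFunctor.comp (AlgSt.overMap c) y) := by
  obtain ⟨W, c, hf, hl, hs, z, ⟨i⟩⟩ := exists_lift_of_cover h₁ h₂ h₃ V y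
  obtain ⟨W', d, hW', hd⟩ := exists_compact_refine c hs.surj c.left.isOpenMap
  obtain ⟨j⟩ : Nonempty (BasedFunctor.comp (AlgSt.overMap d) (AlgSt.overMap c) ≅ AlgSt.overMap (d ≫ c)) :=
    ⟨isoMk (fun a => Over.isoMk (Iso.refl _) (by
        show 𝟙 _ ≫ a.hom ≫ d ≫ c = (a.hom ≫ d) ≫ c
        rw [Category.id_comp, Category.assoc]))
      (fun a => (vert_iff (overCat V).p _).2 ⟨rfl, rfl, rfl⟩) (fun φ => Over.OverMorphism.ext (by
        show φ.left ≫ 𝟙 _ = 𝟙 _ ≫ φ.left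
        rw [Category.id_comp, Category.comp_id]))⟩
  exact ⟨W', d ≫ c, BasedFunctor.comp (AlgSt.overMap d) z, hW', hd,
    ⟨(Stk.restr (AlgSt.overMap d) _).mapIso i ≪≫ (postB _ y).mapIso j⟩⟩

theorem qcMor_of_fpFst_locQ {𝒵 : AlgSt.Cat S} (h𝒳 : AlgSt.IsAlgStack Scheme.fppfPrecoverage 𝒳)
    (h𝒴 : AlgSt.IsAlgStack Scheme.fppfPrecoverage 𝒴) (h𝒵 : AlgSt.IsAlgStack Scheme.fppfPrecoverage 𝒵)
    {f : 𝒳 ⥤ᵇ 𝒴} {z : 𝒵 ⥤ᵇ 𝒴}
    (h₁ : AlgSt.LocQ (AlgSp.LocP @Flat) z) (h₂ : AlgSt.LocQ (AlgSp.LocP @LocallyOfFinitePresentation) z)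
    (h₃ : AlgSt.IsSurjective z) (h : AlgSt.IsQuasiCompactMor Scheme.fppfPrecoverage (fpFst z f)) :
    AlgSt.IsQuasiCompactMor Scheme.fppfPrecoverage f := by
  obtain ⟨W, w, hw, hf₁, hf₂⟩ := exists_chart_flat_lfp h𝒵 h₁ h₂
  have hs : AlgSt.RepByAlgSpWith AlgSp.IsSurjectiveMor (BasedFunctor.comp w z) :=
    with_surjective_of_ofChart h𝒴.isStack.1 (repByAlgSp1_of_with hf₁) fun p => by
      obtain ⟨q, rfl⟩ := h₃ p
      obtain ⟨t, rfl⟩ := hw q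
      exact ⟨t, (map_ofChart w z t).symm⟩
  refine qcMor_of_lift h𝒴 h𝒳 f h fun V y hV => ?_
  obtain ⟨W', c, z', hW', hc, ⟨i⟩⟩ := exists_compact_lift hf₁ hf₂ hs V y
  exact ⟨W', c, BasedFunctor.comp z' w, hW', hc, ⟨i⟩⟩

end Groth.Agent.Stk19
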