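import Groth.Agent.Stk19.AlgSt.Over
import Groth.Prelude.Def_AlgSpRep

/-! Representability of maps of presheaves, read through their categories. -/

set_option autoImplicit false
set_option backward.isDefEq.respectTransparency false
set_option backward.isDefEq.respectTransparency.types false

universe u

open CategoryTheory CategoryTheory.Limits AlgebraicGeometry Opposite FibCat Groth.Agent.Desc19

namespace Groth.Agent.Stk19

variable {S : Scheme.{u}} {F G : AlgSp.PSp S} {a : F ⟶ G}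

theorem exists_psh_chart {U : Over S} {ξ : (AlgSp.pyon S).obj U ⟶ G} {F' : AlgSp.PSp S} {fst : F' ⟶ F}
    {snd : F' ⟶ (AlgSp.pyon S).obj U} (sq : IsPullback fst snd a ξ) (h : Presheaf.IsSheaf (AlgSp.J S) F')
    {y : overCat U ⥤ᵇ Stk.ofPsh G} (j : BasedFunctor.comp (AlgSt.ofOverCat U) (Stk.ofPshMap ξ) ≅ y) :
    ∃ e : AlgSt.ofSp (⟨F', h⟩ : AlgSp.Sp S) ⥤ᵇ fp y (Stk.ofPshMap a), IsEquivOver e ∧
      AlgSt.spMapOfOver (BasedFunctor.comp e (fpFst y (Stk.ofPshMap a))) =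
        (ObjectProperty.homMk snd : (⟨F', h⟩ : AlgSp.Sp S) ⟶ (AlgSp.yon S).obj U) := by
  obtain ⟨E, hE, hE₁, -⟩ := exists_fp_equiv_psh sq.flip
  have := id_full (Stk.ofPsh G)
  have := id_faithful (Stk.ofPsh G)
  let E' : fp (Stk.ofPshMap ξ) (Stk.ofPshMap a) ⥤ᵇ
      fp (BasedFunctor.comp (AlgSt.ofOverCat U) (Stk.ofPshMap ξ)) (Stk.ofPshMap a) :=
    fpMap (F' := BasedFunctor.comp (AlgSt.ofOverCat U) (Stk.ofPshMap ξ)) (G' := Stk.ofPshMap a) (AlgSt.toOverCat U)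
      (BasedFunctor.id _) (BasedFunctor.id _) (Iso.refl _) (Iso.refl _)
  have hE' : IsEquivOver E' := isEquivOver_fpMap _ _ _ _ _ (isEquivOver_toOverCat U) (isEquivOver_id _)
  obtain ⟨E₂, hE₂, hE₂', -⟩ := exists_congr (F := BasedFunctor.comp (AlgSt.ofOverCat U) (Stk.ofPshMap ξ))
    (G := Stk.ofPshMap a) j (Iso.refl _)
  refine ⟨BasedFunctor.comp E (BasedFunctor.comp E' E₂), isEquivOver_comp hE (isEquivOver_comp hE' hE₂), ?_⟩
  have k : BasedFunctor.comp (BasedFunctor.comp E (BasedFunctor.comp E' E₂)) (fpFst y (Stk.ofPshMap a)) =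
      BasedFunctor.comp (AlgSt.ofSpMap (ObjectProperty.homMk snd : (⟨F', h⟩ : AlgSp.Sp S) ⟶ (AlgSp.yon S).obj U))
        (AlgSt.toOverCat U) := by
    show BasedFunctor.comp E (BasedFunctor.comp E' (BasedFunctor.comp E₂ (fpFst y (Stk.ofPshMap a)))) = _
    rw [hE₂', fpMap_fst]
    show BasedFunctor.comp (BasedFunctor.comp E (fpFst (Stk.ofPshMap ξ) (Stk.ofPshMap a))) (AlgSt.toOverCat U) = _
    rw [hE₁]
    rfl
  rw [k, spMapOfOver_ofSpMap_comp, spMapOfOver_toOverCat, Category.comp_id]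

theorem exists_psh_section {U : Over S} (y : overCat U ⥤ᵇ Stk.ofPsh G) :
    ∃ ξ : (AlgSp.pyon S).obj U ⟶ G, Nonempty (BasedFunctor.comp (AlgSt.ofOverCat U) (Stk.ofPshMap ξ) ≅ y) := by
  obtain ⟨i⟩ := pshHom_iso (BasedFunctor.comp (AlgSt.toOverCat U) y)
  exact ⟨_, ⟨((Stk.restr (AlgSt.ofOverCat U) _).mapIso i).symm⟩⟩

theorem rep1_of_repBySp (ha : AlgSp.RepBySp a) : AlgSt.RepByAlgSp1 (Stk.ofPshMap a) := fun U y => by
  obtain ⟨ξ, ⟨j⟩⟩ := exists_psh_section y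
  obtain ⟨h, hA⟩ := ha ξ _ _ (IsPullback.of_hasPullback a ξ)
  obtain ⟨e, he, -⟩ := exists_psh_chart (IsPullback.of_hasPullback a ξ) h j
  exact ⟨⟨_, hA⟩, e, he⟩

theorem repBySpWith_iff (Q : MorphismProperty (AlgSp.Sp S)) [Q.RespectsIso] (ha : AlgSp.RepBySp a) :
    AlgSp.RepBySpWith Q a ↔ AlgSt.RepByAlgSpWith Q (Stk.ofPshMap a) := by
  constructor
  · intro hQ U y
    obtain ⟨ξ, ⟨j⟩⟩ := exists_psh_section y
    obtain ⟨h, hA, hq⟩ := hQ ξ _ _ (IsPullback.of_hasPullback a ξ)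
    obtain ⟨e, he, k⟩ := exists_psh_chart (IsPullback.of_hasPullback a ξ) h j
    exact ⟨⟨_, hA⟩, e, he, k ▸ hq⟩
  · intro hQ U ξ F' fst snd sq
    obtain ⟨h, hA⟩ := ha ξ fst snd sq
    obtain ⟨e, he, k⟩ := exists_psh_chart sq h (Iso.refl _)
    obtain ⟨T, e', he', hq⟩ := hQ U _
    exact ⟨h, hA, k ▸ repWith_any respSrc_of_respectsIso he' hq (F' := ⟨⟨F', h⟩, hA⟩) e he⟩

end Groth.Agent.Stk19
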