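import Groth.Agent.Stk19.AlgSt.Local

/-! The diagonal of a stack with a flat cover. -/

set_option autoImplicit false
set_option backward.isDefEq.respectTransparency false
set_option backward.isDefEq.respectTransparency.types false

universe u

open CategoryTheory CategoryTheory.Limits AlgebraicGeometry Opposite FibCat Groth.Agent.Desc19

namespace Groth.Agent.Stk19

variable {S : Scheme.{u}} {P : MorphismProperty (AlgSp.Sp S)} {𝒳 𝒲 : AlgSt.Cat S}

/-- A property of `W ×_𝒳 W ⟶ W × W` for a flat cover gives it for the diagonal. -/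
theorem diag_toSelf_of_cover (hR : RespSrc P) (hD : SchDescent P) {w : 𝒲 ⥤ᵇ 𝒳}
    (hΔ : AlgSt.RepByAlgSp1 (FibCat.diag (toSelf 𝒳)))
    (h₁ : AlgSt.RepByAlgSpWith (AlgSp.LocP @Flat) w)
    (h₂ : AlgSt.RepByAlgSpWith (AlgSp.LocP @LocallyOfFinitePresentation) w)
    (h₃ : AlgSt.RepByAlgSpWith AlgSp.IsSurjectiveMor w)
    (h : AlgSt.RepByAlgSpWith P (fpToProd w w)) : AlgSt.RepByAlgSpWith P (FibCat.diag (toSelf 𝒳)) :=
  with_of_lifts hR hΔ (prodPair w w) (fun U y V a hlift => by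
    obtain ⟨W₁, c₁, hf₁, hl₁, hs₁, z₁, ⟨i₁⟩⟩ :=
      exists_lift_of_cover h₁ h₂ h₃ U (BasedFunctor.comp y (fpFst (toSelf 𝒳) (toSelf 𝒳)))
    obtain ⟨W₂, c₂, hf₂, hl₂, hs₂, z₂, ⟨i₂⟩⟩ := exists_lift_of_cover h₁ h₂ h₃ W₁
      (BasedFunctor.comp (AlgSt.overMap c₁) (BasedFunctor.comp y (fpSnd (toSelf 𝒳) (toSelf 𝒳))))
    let z := BasedFunctor.comp (AlgSt.overMap c₂) z₁
    let k₁ : BasedFunctor.comp z w ≅
        BasedFunctor.comp (AlgSt.overMap c₂) (BasedFunctor.comp (AlgSt.overMap c₁) (BasedFunctor.comp y (fpFst _ _))) :=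
      (Stk.restr (AlgSt.overMap c₂) _).mapIso i₁
    let t : BasedFunctor.comp (pairSelf z z₂) (prodPair w w) ≅
        BasedFunctor.comp (AlgSt.overMap c₂) (BasedFunctor.comp (AlgSt.overMap c₁) y) :=
      isoMk (fun a => prodIso (appIso k₁ a) (appIso i₂ a) (by
          show 𝒳.p.map (i₂.hom.toNatTrans.app a) = _ ≫ 𝒳.p.map (k₁.hom.toNatTrans.app a) ≫ _
          rw [based_app_map i₂.hom a, based_app_map k₁.hom a]
          simp))
        (fun a => fpIsoMk_vert _ _ _ (vert_change 𝒳.p _ (based_vert k₁ a) rfl))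
        (fun φ => fp_hom_ext (k₁.hom.toNatTrans.naturality φ) (i₂.hom.toNatTrans.naturality φ))
    have e : AlgSt.overMap (c₂ ≫ c₁) ≅ BasedFunctor.comp (AlgSt.overMap c₂) (AlgSt.overMap c₁) := by
      refine (isoToSlice _ _ fun a => ?_)
      simp [AlgSt.overMap]
      exact (Category.assoc _ _ _).symm
    refine hD a (c₂ ≫ c₁) ?_ ?_ ?_ (hlift W₂ (c₂ ≫ c₁) (pairSelf z z₂) (t ≪≫ (postB _ y).mapIso e.symm))
    · rw [Over.comp_left]
      exact MorphismProperty.comp_mem @Flat _ _ hf₂ hf₁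
    · rw [Over.comp_left]
      exact MorphismProperty.comp_mem @LocallyOfFinitePresentation _ _ hl₂ hl₁
    · rw [Over.comp_left]
      exact MorphismProperty.comp_mem @Surjective _ _ hs₂ hs₁)
    ((repByAlgSpWith_iff_of_square (f' := fpToProd w w) (f := fpFst (prodPair w w) (FibCat.diag (toSelf 𝒳)))
      (a := magicSquare w w) (b := BasedFunctor.id _) (isEquivOver_magicSquare w w) (isEquivOver_id _)
      (Iso.refl _)).1 h)

/-- Cancellation for the projection of `W ×_𝒳 W` to the product. -/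
theorem fpToProd_of_cancel (hPb : PbStable P)
    (hcancel : ∀ ⦃X Y Z : AlgSp.Sp S⦄, AlgSp.IsAlgSpace X → AlgSp.IsAlgSpace Y → AlgSp.IsAlgSpace Z →
      ∀ (a : X ⟶ Y) (b : Y ⟶ Z), P (a ≫ b) → P a)
    (W : AlgSp.Space S) (w : AlgSt.ofSp W.obj ⥤ᵇ 𝒳) (hw : AlgSt.RepByAlgSpWith P w) :
    AlgSt.RepByAlgSpWith P (fpToProd w w) :=
  repByAlgSpWith_of_comp (Q := ⊤) hPb (fun _ _ _ hX hY hZ a b _ => hcancel hX hY hZ a b)
    (repByAlgSp1_iff_with_top.1 (repByAlgSp1_of_repByAlgSp _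
      (repByAlgSp_prod (repByAlgSp_ofSp W) (repByAlgSp_ofSp W)) (repByAlgSp_ofSp W)))
    (f := fpToProd w w) (g := fpFst (toSelf (AlgSt.ofSp W.obj)) (toSelf (AlgSt.ofSp W.obj)))
    (repByAlgSpWith_fpFst w hw)

theorem cancel_unram ⦃X Y Z : AlgSp.Sp S⦄ (hX : AlgSp.IsAlgSpace X) (hY : AlgSp.IsAlgSpace Y)
    (hZ : AlgSp.IsAlgSpace Z) (a : X ⟶ Y) (b : Y ⟶ Z)
    (h : AlgSp.LocP (@LocallyOfFiniteType ⊓ @FormallyUnramified) (a ≫ b)) :
    AlgSp.LocP (@LocallyOfFiniteType ⊓ @FormallyUnramified) a :=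
  AlgSpLib.locP_of_comp' (Q := ⊤) AlgSpLib.etLocal_unramified hX hY hZ
    (fun A B C f g ⟨h₁, h₂⟩ _ => by
      have : LocallyOfFiniteType (f ≫ g) := h₁
      have : FormallyUnramified (f ≫ g) := h₂
      exact ⟨locallyOfFiniteType_of_comp f g, FormallyUnramified.of_comp f g⟩) h (AlgSpLib.locP_top b)

theorem cancel_lqf ⦃X Y Z : AlgSp.Sp S⦄ (hX : AlgSp.IsAlgSpace X) (hY : AlgSp.IsAlgSpace Y)
    (hZ : AlgSp.IsAlgSpace Z) (a : X ⟶ Y) (b : Y ⟶ Z)
    (h : AlgSp.LocP (@LocallyQuasiFinite ⊓ @LocallyOfFiniteType) (a ≫ b)) :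
    AlgSp.LocP (@LocallyQuasiFinite ⊓ @LocallyOfFiniteType) a :=
  AlgSpLib.locP_of_comp' (Q := ⊤) AlgSpLib.etLocal_lqf hX hY hZ
    (fun A B C f g ⟨h₁, h₂⟩ _ => by
      have : LocallyQuasiFinite (f ≫ g) := h₁
      have : LocallyOfFiniteType (f ≫ g) := h₂
      exact ⟨LocallyQuasiFinite.of_comp f g, locallyOfFiniteType_of_comp f g⟩) h (AlgSpLib.locP_top b)

end Groth.Agent.Stk19
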