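import Groth.Agent.Stk19.AlgSt.SepSp
import Mathlib.AlgebraicGeometry.Morphisms.FlatMono

/-! Unramified morphisms of algebraic spaces and their diagonals. -/

set_option autoImplicit false
set_option backward.isDefEq.respectTransparency false
set_option backward.isDefEq.respectTransparency.types false

universe u

open CategoryTheory CategoryTheory.Limits AlgebraicGeometry Opposite Topology AlgSp

namespace Groth.Agent.Stk19

open Groth.Agent.AlgSpLib

variable {S : Scheme.{u}}

/-- An open diagonal gives an unramified morphism. -/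
theorem locP_unram_of_diag {V Z : Space S} (a : V.obj ⟶ Z.obj) (hl : LocP @LocallyOfFiniteType a)
    (h : DiagWith @IsOpenImmersion a) : LocP (@LocallyOfFiniteType ⊓ @FormallyUnramified) a := by
  refine schemeTested_locP etLocal_unramified a fun T p => ?_
  have sq := IsPullback.of_hasPullback a p
  have hX := isAlgSpace_pullback_yon a p
  have hl' : LocP @LocallyOfFiniteType (pullback.snd a p) :=
    locP_of_isPullback etLocal_lft V.property Z.property hX sq hl
  have h' : DiagWith @IsOpenImmersion (pullback.snd a p) := RepWith.baseChange (isPullback_diagonal_map sq) h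
  obtain ⟨W, q, hqe, hqs⟩ := hX.atlas
  obtain ⟨w, hw⟩ := (yon S).map_surjective (q ≫ pullback.snd a p)
  refine locP_of_atlas etLocal_unramified hX q hqe hqs ?_
  have : IsOpenImmersion (pullback.diagonal w.left) := by
    refine (repWith_diagonal_yon_map_iff @IsOpenImmersion w).1 ?_
    suffices ∀ d : (yon S).obj W ⟶ (yon S).obj T, d = q ≫ pullback.snd a p → DiagWith @IsOpenImmersion d from this _ hw
    rintro _ rfl
    refine compStable_diagWith (Q := @IsOpenImmersion) (IsAlgSpace.yon_obj W) hX (IsAlgSpace.yon_obj T) q _ ?_ h'
    refine (repWith_diagonal_iff hqe.1).2 (RepWith.mono (fun _ _ g (_ : Etale g) => ?_) hqe)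
    exact (inferInstance : IsOpenImmersion (pullback.diagonal g))
  rw [← hw]
  refine (repWith_yon_map_iff _ w).2 ⟨?_, inferInstance⟩
  refine (repWith_yon_map_iff @LocallyOfFiniteType w).1 ?_
  rw [hw]
  exact repWith_comp_of_locP etLocal_lft (IsAlgSpace.yon_obj T) hl' q hqe

/-- An unramified morphism to a scheme has open diagonal. -/
theorem diag_of_locP_unram_aux {X : Sp S} (hX : IsAlgSpace X) {T : Over S} (b : X ⟶ (yon S).obj T)
    (h' : LocP (@LocallyOfFiniteType ⊓ @FormallyUnramified) b) : DiagWith @IsOpenImmersion b := by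
  obtain ⟨W, q, hqe, hqs⟩ := hX.atlas
  have hΔ := representable_diagonal hX b
  have hq₂ : RepWith (@Etale ⊓ @Surjective) q := RepWith.and hqe hqs
  let m := pullback.map (q ≫ b) (q ≫ b) b b q q (𝟙 _) (Category.comp_id _) (Category.comp_id _)
  have : MorphismProperty.IsStableUnderBaseChange (RepWith (S := S) (@Etale ⊓ @Surjective)) :=
    ⟨fun sq h => RepWith.baseChange sq h⟩
  have : MorphismProperty.IsStableUnderComposition (RepWith (S := S) (@Etale ⊓ @Surjective)) :=
    ⟨fun _ _ h h' => RepWith.comp h h'⟩
  have hm : RepWith (@Etale ⊓ @Surjective) m :=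
    MorphismProperty.pullbackMap (P := RepWith (S := S) (@Etale ⊓ @Surjective)) hq₂ hq₂ rfl rfl
  have : Sheaf.IsLocallySurjective m :=
    isLocallySurjective_of_etale (RepWith.mono (fun _ _ _ h => h.1) hm) (RepWith.mono (fun _ _ _ h => h.2) hm)
  refine repWith_of_isLocallySurjective hΔ m (pullback_map_diagonal_isPullback q q b) @IsOpenImmersion ?_
  obtain ⟨w, hw⟩ := (yon S).map_surjective (q ≫ b)
  have sqw := (IsPullback.of_hasPullback w w).map (yon S)
  rw [hw] at sqw
  let σ := sqw.isoPullback
  let E : Over S := hqe.1.pullback q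
  have sqE := hqe.1.isPullback q
  let τ : (yon S).obj E ≅ pullback q q := sqE.isoPullback
  obtain ⟨k, hk⟩ := (yon S).map_surjective (τ.hom ≫ pullback.map q q (q ≫ b) (q ≫ b) (𝟙 _) (𝟙 _) b
    (Category.id_comp _).symm (Category.id_comp _).symm ≫ σ.inv)
  obtain ⟨hW₁, hW₂⟩ : LocallyOfFiniteType w.left ∧ FormallyUnramified w.left := by
    refine (repWith_yon_map_iff (@LocallyOfFiniteType ⊓ @FormallyUnramified) w).1 ?_
    rw [hw]
    exact repWith_comp_of_locP etLocal_unramified (IsAlgSpace.yon_obj T) h' q hqe
  have : Mono ((yon S).map k) := by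
    rw [hk]
    have : Mono (pullback.map q q (q ≫ b) (q ≫ b) (𝟙 _) (𝟙 _) b (Category.id_comp _).symm (Category.id_comp _).symm) := by
      refine ⟨fun x y e => pullback.hom_ext ?_ ?_⟩
      · simpa using congrArg (· ≫ pullback.fst _ _) e
      · simpa using congrArg (· ≫ pullback.snd _ _) e
    infer_instance
  have hmk : Mono k := (yon S).mono_of_mono_map this
  have : Mono k.left := (inferInstance : Mono ((Over.forget S).map k))
  have : Etale k.left := by
    have hfst : (yon S).map (k ≫ pullback.fst w w) = hqe.1.fst q := by
      rw [Functor.map_comp, hk]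
      simp [σ, τ]
    have : Etale (k.left ≫ (pullback.fst w w).left) := by
      rw [← Over.comp_left]
      refine (repWith_yon_map_iff @Etale _).1 ?_
      rw [hfst]
      exact RepWith.baseChange sqE.flip hqe
    have sq' := ((IsPullback.of_hasPullback w w).map (Over.forget S)).flip
    have : LocallyOfFiniteType (pullback.fst w w).left :=
      MorphismProperty.of_isPullback (P := @LocallyOfFiniteType) sq' hW₁
    have : FormallyUnramified (pullback.fst w w).left :=
      MorphismProperty.of_isPullback (P := @FormallyUnramified) sq' hW₂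
    exact Etale.of_comp k.left (pullback.fst w w).left
  have hk' : IsOpenImmersion k.left := IsOpenImmersion.of_flat_of_mono k.left
  have := (repWith_yon_map_iff @IsOpenImmersion k).2 hk'
  rw [hk] at this
  exact (MorphismProperty.cancel_right_of_respectsIso _ _ σ.inv).1
    ((MorphismProperty.cancel_left_of_respectsIso _ τ.hom _).1 this)

/-- An unramified morphism has open diagonal. -/
theorem diag_of_locP_unram {V Z : Space S} (a : V.obj ⟶ Z.obj)
    (h : LocP (@LocallyOfFiniteType ⊓ @FormallyUnramified) a) : DiagWith @IsOpenImmersion a := by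
  refine schemeTested_diagWith a fun T p => ?_
  exact diag_of_locP_unram_aux (isAlgSpace_pullback_yon a p) _ (locP_of_isPullback etLocal_unramified V.property
    Z.property (isAlgSpace_pullback_yon a p) (IsPullback.of_hasPullback a p) h)

theorem lqf_of_self_pullback_affine {W T : Scheme.{u}} [IsAffine T] (g : W ⟶ T) [LocallyOfFiniteType g]
    [LocallyQuasiFinite (pullback.fst g g)] : LocallyQuasiFinite g := by
  refine IsZariskiLocalAtSource.iff_of_openCover (P := @LocallyQuasiFinite) W.affineCover |>.mpr fun j => ?_
  set gi := W.affineCover.f j ≫ g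
  have : LocallyQuasiFinite (pullback.fst g gi) := by
    have heq : pullback.fst g gi = pullback.map _ _ _ _ (𝟙 _) (W.affineCover.f j) (𝟙 _) (by simp)
        (by simp [gi]) ≫ pullback.fst g g := ((pullback.lift_fst _ _ _).trans (Category.comp_id _)).symm
    rw [heq]
    exact IsZariskiLocalAtSource.comp (by assumption) _
  refine .of_finite_preimage_singleton gi fun z => ?_
  by_cases hz : ∃ y, gi y = z
  · obtain ⟨y₀, hy₀⟩ := hz
    refine (((pullback.fst g gi).finite_preimage_singleton (W.affineCover.f j y₀)).image
      (pullback.snd g gi)).subset ?_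
    intro y hy
    obtain ⟨w, hw₁, hw₂⟩ := Scheme.Pullback.exists_preimage_pullback (f := g) (g := gi)
      (W.affineCover.f j y₀) y (hy₀.trans hy.symm)
    exact ⟨w, hw₁, hw₂⟩
  · exact Set.Finite.subset Set.finite_empty fun y hy => hz ⟨y, hy⟩

/-- Quasi-finiteness descends from the base change of a morphism along itself. -/
theorem lqf_of_self_pullback {W T : Scheme.{u}} (f : W ⟶ T) [LocallyOfFiniteType f]
    [LocallyQuasiFinite (pullback.fst f f)] : LocallyQuasiFinite f := by
  refine (IsZariskiLocalAtTarget.iff_of_openCover (P := @LocallyQuasiFinite) T.affineCover).mpr fun i => ?_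
  show LocallyQuasiFinite (pullback.snd f (T.affineCover.f i))
  have sq := IsPullback.of_hasPullback (pullback.snd f (T.affineCover.f i)) (pullback.snd f (T.affineCover.f i))
  have sq₀ := IsPullback.of_hasPullback f (T.affineCover.f i)
  let l := pullback.map _ _ f f (pullback.fst f (T.affineCover.f i)) (pullback.fst f (T.affineCover.f i))
    (T.affineCover.f i) sq₀.w.symm sq₀.w.symm
  have sq₁ : IsPullback l (pullback.fst (pullback.snd f (T.affineCover.f i)) (pullback.snd f (T.affineCover.f i)))
      (pullback.fst f f) (pullback.fst f (T.affineCover.f i)) := by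
    refine IsPullback.of_right ?_ (by simp [l]) (IsPullback.of_hasPullback f f).flip
    simpa [l, sq₀.w] using sq.flip.paste_horiz sq₀
  have : LocallyQuasiFinite (pullback.fst (pullback.snd f (T.affineCover.f i)) (pullback.snd f (T.affineCover.f i))) :=
    MorphismProperty.of_isPullback (P := @LocallyQuasiFinite) sq₁ inferInstance
  exact lqf_of_self_pullback_affine _

end Groth.Agent.Stk19
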