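import Groth.Agent.Stk19.AlgSt.SepRep
import Groth.Agent.Stk19.AlgSt.Local
import Groth.Agent.Stk19.AlgSt.UnramDiag
import Groth.Agent.Stk19.Inertia

/-! Separation properties read off the inertia. -/

set_option autoImplicit false
set_option backward.isDefEq.respectTransparency false
set_option backward.isDefEq.respectTransparency.types false

universe v₃ u₃ v₂ u₂ v u

open CategoryTheory CategoryTheory.Limits AlgebraicGeometry Opposite FibCat Groth.Agent.Desc19

namespace Groth.Agent.Stk19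

section

variable {C : Type u} [Category.{v} C] {𝒳 : BasedCategory.{v₂, u₂} C} {𝒴 : BasedCategory.{v₃, u₃} C}
  (F : 𝒳 ⥤ᵇ 𝒴)

/-- The two forgetful maps of the inertia agree after the diagonal through the automorphism. -/
def inertiaAutIso :
    BasedFunctor.comp (inertiaToBase F) (FibCat.diag F) ≅ BasedFunctor.comp (inertiaToBase F) (FibCat.diag F) :=
  isoMk (fun t => fpIsoMk t.aut (Iso.refl _) (by
      show F.map t.aut.hom ≫ 𝟙 _ = 𝟙 _ ≫ F.map (𝟙 _)
      rw [t.map_aut, F.toFunctor.map_id]))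
    (fun t => fpIsoMk_vert _ _ _ (vert_of_map_eq 𝒳.p (h := rfl) ((inertia_aut_map t).trans (eqToHom_refl _ _).symm)))
    (fun {s t} φ => fp_hom_ext φ.comm.symm ((Category.comp_id _).trans (Category.id_comp _).symm))

/-- The inertia as a self fibre product of the diagonal. -/
def inertiaFp : inertia F ⥤ᵇ fp (FibCat.diag F) (FibCat.diag F) :=
  fpLift (inertiaToBase F) (inertiaToBase F) (inertiaAutIso F)

theorem inertiaFp_fst : BasedFunctor.comp (inertiaFp F) (fpFst _ _) = inertiaToBase F := rfl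

theorem isEquivOver_inertiaFp : IsEquivOver (inertiaFp F) := by
  refine EqvData.isEquivOver ⟨⟨fun {s t} k => ?_⟩, ⟨fun {s t} k k' h => ?_⟩, fun z => ?_⟩
  · have h1 : k.hom.fst ≫ t.aut.hom = s.aut.hom ≫ k.hom.snd := congrArg (fun m => m.hom.fst) k.hom.w
    have h2 : k.hom.fst ≫ 𝟙 _ = 𝟙 _ ≫ k.hom.snd := congrArg (fun m => m.hom.snd) k.hom.w
    rw [Category.comp_id, Category.id_comp] at h2
    rw [← h2] at h1
    exact ⟨⟨k.hom.fst, h1.symm⟩, fp_hom_ext rfl h2⟩
  · exact InertiaObj.hom_ext (congrArg (fun m => m.hom.fst) h)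
  · let i₁ : z.obj.fst ≅ z.obj.snd := (fpFst F F).toFunctor.mapIso z.obj.iso
    let i₂ : z.obj.fst ≅ z.obj.snd := (fpSnd F F).toFunctor.mapIso z.obj.iso
    have w : F.map i₁.hom ≫ 𝟙 _ = 𝟙 _ ≫ F.map i₂.hom := z.obj.iso.hom.hom.w
    rw [Category.comp_id, Category.id_comp] at w
    refine ⟨⟨z.obj.fst, i₁ ≪≫ i₂.symm, ?_⟩, fpIsoMk (Iso.refl _) i₂ ?_, fpIsoMk_vert _ _ _ (IsHomLift.id rfl)⟩
    · show F.map (i₁.hom ≫ i₂.inv) = 𝟙 _
      rw [F.toFunctor.map_comp, w, ← F.toFunctor.map_comp, i₂.hom_inv_id, F.toFunctor.map_id]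
    · apply fp_hom_ext
      · show 𝟙 _ ≫ i₁.hom = (i₁.hom ≫ i₂.inv) ≫ i₂.hom
        simp
      · show 𝟙 _ ≫ i₂.hom = 𝟙 _ ≫ i₂.hom
        rfl

/-- The neutral section is the diagonal of the diagonal. -/
def neutralIso : BasedFunctor.comp (inertiaNeutral F) (inertiaFp F) ≅
    BasedFunctor.comp (BasedFunctor.id 𝒳) (FibCat.diag (FibCat.diag F)) :=
  isoMk (fun x => fpIsoMk (Iso.refl _) (Iso.refl _) (by
      apply fp_hom_ext
      · show 𝟙 x ≫ 𝟙 x = 𝟙 x ≫ 𝟙 x
        rfl
      · show 𝟙 x ≫ 𝟙 x = 𝟙 x ≫ 𝟙 x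
        rfl))
    (fun x => fpIsoMk_vert _ _ _ (IsHomLift.id rfl))
    (fun φ => fp_hom_ext ((Category.comp_id _).trans (Category.id_comp _).symm)
      ((Category.comp_id _).trans (Category.id_comp _).symm))

end

variable {S : Scheme.{u}} {P Q : MorphismProperty (AlgSp.Sp S)} {𝒳 𝒴 : AlgSt.Cat S} {f : 𝒳 ⥤ᵇ 𝒴}

theorem inertiaToBase_with_iff_fpFst :
    AlgSt.RepByAlgSpWith P (inertiaToBase f) ↔
      AlgSt.RepByAlgSpWith P (fpFst (FibCat.diag f) (FibCat.diag f)) :=
  repByAlgSpWith_iff_of_square (f' := inertiaToBase f) (f := fpFst (FibCat.diag f) (FibCat.diag f))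
    (a := inertiaFp f) (b := BasedFunctor.id _) (isEquivOver_inertiaFp f) (isEquivOver_id _) (Iso.refl _)

theorem neutral_with_iff :
    AlgSt.RepByAlgSpWith P (inertiaNeutral f) ↔ AlgSt.RepByAlgSpWith P (FibCat.diag (FibCat.diag f)) :=
  repByAlgSpWith_iff_of_square (f' := inertiaNeutral f) (f := FibCat.diag (FibCat.diag f))
    (a := BasedFunctor.id _) (b := inertiaFp f) (isEquivOver_id _) (isEquivOver_inertiaFp f) (neutralIso f)

theorem inertia_with_of_diag (h : AlgSt.RepByAlgSpWith P (FibCat.diag f)) :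
    AlgSt.RepByAlgSpWith P (inertiaToBase f) :=
  inertiaToBase_with_iff_fpFst.2 (repByAlgSpWith_fpFst _ h)

/-- A property of the diagonal of the inertia projection holds for the diagonal of the diagonal. -/
theorem diag_diag_of_inertia (hPb : PbStable P) (hQ : ∀ (V Z : AlgSp.Space S) (a : V.obj ⟶ Z.obj), Q a → P (pullback.diagonal a))
    (h : AlgSt.RepByAlgSpWith Q (inertiaToBase f)) : AlgSt.RepByAlgSpWith P (FibCat.diag (FibCat.diag f)) :=
  neutral_with_iff.1 (section_with (inertiaToBase f) (inertiaNeutral f) (Iso.refl _) (diag_of_with hPb h hQ))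

theorem inertia_sep_tfae (hΔ : AlgSt.RepByAlgSp1 (FibCat.diag f)) :
    [AlgSt.RepByAlgSpWith AlgSp.IsSeparatedMor (inertiaToBase f),
      AlgSt.RepByAlgSpWith AlgSp.IsSeparatedMor (FibCat.diag f),
      AlgSt.IsClosedImm (inertiaNeutral f)].TFAE := by
  tfae_have 2 → 1 := inertia_with_of_diag
  tfae_have 1 → 3 := fun h => neutral_with_iff.2
    (diag_diag_of_inertia (P := AlgSp.RepWith @IsClosedImmersion) pbStable_repWith (fun _ _ _ ha => ha) h)
  tfae_have 3 → 2 := fun h => ((with_sep_iff hΔ).out 0 1).2 (neutral_with_iff.1 h)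
  tfae_finish

theorem inertia_qs_tfae (hΔ : AlgSt.RepByAlgSp1 (FibCat.diag f)) :
    [AlgSt.RepByAlgSpWith AlgSp.IsQuasiSeparatedMor (inertiaToBase f),
      AlgSt.RepByAlgSpWith AlgSp.IsQuasiSeparatedMor (FibCat.diag f),
      AlgSt.RepByAlgSpWith AlgSp.IsQuasiCompactMor (inertiaNeutral f)].TFAE := by
  tfae_have 2 → 1 := inertia_with_of_diag
  tfae_have 1 → 3 := fun h => neutral_with_iff.2
    (diag_diag_of_inertia pbStable_qcMor (fun _ _ _ ha => isQuasiCompactMor_of_repWith ha) h)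
  tfae_have 3 → 2 := fun h => ((with_qs_iff hΔ).out 0 1).2 (neutral_with_iff.1 h)
  tfae_finish

theorem inertia_unram_iff (hl : AlgSt.RepByAlgSpWith (AlgSp.LocP @LocallyOfFiniteType) (FibCat.diag f)) :
    AlgSt.RepByAlgSpWith (AlgSp.LocP (@LocallyOfFiniteType ⊓ @FormallyUnramified)) (inertiaToBase f) ↔
      AlgSt.IsDMMor f := by
  refine ⟨fun h => ?_, inertia_with_of_diag⟩
  have hoi := diag_diag_of_inertia (P := AlgSp.RepWith @IsOpenImmersion) pbStable_repWith (fun _ _ a => diag_of_locP_unram a) h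
  have hQ := with_of_diag (P := AlgSp.RepWith @IsOpenImmersion)
    (Q := fun _ _ a => AlgSp.LocP @LocallyOfFiniteType a → AlgSp.LocP (@LocallyOfFiniteType ⊓ @FormallyUnramified) a)
    pbStable_repWith schemeTested_repWith (repByAlgSp1_of_with hl) (fun _ _ a ha hla => locP_unram_of_diag a hla ha) hoi
  exact repByAlgSpWith_mono (fun _ _ _ _ ha => ha.1 ha.2)
    (repByAlgSpWith_and (respSrc_locP AlgSpLib.etLocal_lft) hQ hl)

theorem inertia_lqf_iff (hl : AlgSt.RepByAlgSpWith (AlgSp.LocP @LocallyOfFiniteType) (FibCat.diag f)) :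
    AlgSt.RepByAlgSpWith (AlgSp.LocP (@LocallyQuasiFinite ⊓ @LocallyOfFiniteType)) (inertiaToBase f) ↔
      AlgSt.IsQuasiDMMor f := by
  refine ⟨fun h U y => ?_, inertia_with_of_diag⟩
  obtain ⟨F, e, he, ha⟩ := hl U y
  refine ⟨F, e, he, ?_⟩
  have h' := inertiaToBase_with_iff_fpFst.1 h
  set a := AlgSt.spMapOfOver (BasedFunctor.comp e (fpFst y (FibCat.diag f)))
  obtain ⟨W, q, hqe, hqs⟩ := F.property.atlas
  obtain ⟨w, hw⟩ := (AlgSp.yon S).map_surjective (q ≫ a)
  obtain ⟨z, ⟨i⟩⟩ := key' e q hw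
  obtain ⟨E, hE, hEf, -⟩ := exists_congr (F := BasedFunctor.comp z (FibCat.diag f)) (G := FibCat.diag f) i (Iso.refl _)
  have hW := witness_transfer (isEquivOver_comp (isEquivOver_fpPaste z (FibCat.diag f) (FibCat.diag f)) hE)
    (q' := fpFst (BasedFunctor.comp (AlgSt.overMap w) y) (FibCat.diag f))
    (eqToIso (show BasedFunctor.comp (fpPaste z (FibCat.diag f) (FibCat.diag f))
      (BasedFunctor.comp E (fpFst _ (FibCat.diag f))) = _ by rw [hEf, fpPaste_fst])) (h' W z)
  have := id_full (fp f f)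
  have := id_faithful (fp f f)
  let y' := BasedFunctor.comp (AlgSt.toOverCat U) y
  let E' : fp y (FibCat.diag f) ⥤ᵇ fp y' (FibCat.diag f) :=
    fpMap (F' := y') (G' := FibCat.diag f) (AlgSt.ofOverCat U) (BasedFunctor.id _) (BasedFunctor.id _)
      (Iso.refl _) (Iso.refl _)
  have hE' : IsEquivOver E' := isEquivOver_fpMap _ _ _ _ _ (isEquivOver_ofOverCat U) (isEquivOver_id _)
  obtain ⟨j⟩ := spHom_iso (BasedFunctor.comp (BasedFunctor.comp e (fpFst y (FibCat.diag f))) (AlgSt.ofOverCat U))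
  have hP₀ := isAlgSpace_pullback_yon (Z := ⟨_, AlgSp.IsAlgSpace.yon_obj U⟩) a ((AlgSp.yon S).map w)
  have hs := prop_of_chart (respSrc_locP AlgSpLib.etLocal_lqf) hP₀
    y' (e := BasedFunctor.comp e E') (isEquivOver_comp he hE') (a := a) j
    (IsPullback.of_hasPullback a ((AlgSp.yon S).map w)) (y := BasedFunctor.comp (AlgSt.overMap w) y) (Iso.refl _) hW
  refine AlgSpLib.locP_of_atlas AlgSpLib.etLocal_lqf F.property q hqe hqs ?_
  have hwl : LocallyOfFiniteType w.left := by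
    refine (AlgSp.repWith_yon_map_iff @LocallyOfFiniteType w).1 ?_
    rw [hw]
    exact AlgSpLib.repWith_comp_of_locP AlgSpLib.etLocal_lft (AlgSp.IsAlgSpace.yon_obj U) ha q hqe
  have sqw := (IsPullback.of_hasPullback w w).map (AlgSp.yon S)
  obtain ⟨m, hm₁, hm₂⟩ := (IsPullback.of_hasPullback a ((AlgSp.yon S).map w)).exists_lift
    ((AlgSp.yon S).map (pullback.fst w w) ≫ q) ((AlgSp.yon S).map (pullback.snd w w))
    (by rw [Category.assoc, ← hw]; exact sqw.w)
  have hm : AlgSp.RepWith @Etale m := by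
    refine AlgSpLib.RepWith.baseChange (IsPullback.of_bot (h₁₁ := (AlgSp.yon S).map (pullback.fst w w)) (v₁₁ := m)
      (v₁₂ := q) ?_ hm₁.symm (IsPullback.of_hasPullback a ((AlgSp.yon S).map w))) hqe
    rw [hm₂, ← hw]
    exact sqw
  have hlq : LocallyQuasiFinite (pullback.snd w w).left ∧ LocallyOfFiniteType (pullback.snd w w).left := by
    refine (AlgSp.repWith_yon_map_iff (@LocallyQuasiFinite ⊓ @LocallyOfFiniteType) (pullback.snd w w)).1 ?_
    rw [← hm₂]
    exact AlgSpLib.repWith_comp_of_locP AlgSpLib.etLocal_lqf (AlgSp.IsAlgSpace.yon_obj W) hs m hm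
  have : LocallyQuasiFinite w.left := by
    have sq' := ((IsPullback.of_hasPullback w w).map (Over.forget S)).flip
    have : LocallyQuasiFinite (pullback.fst w.left w.left) := by
      show LocallyQuasiFinite (pullback.fst ((Over.forget S).map w) ((Over.forget S).map w))
      rw [← sq'.isoPullback_inv_fst]
      exact (MorphismProperty.cancel_left_of_respectsIso @LocallyQuasiFinite _ _).2 hlq.1
    exact lqf_of_self_pullback w.left
  rw [← hw]
  exact (AlgSp.repWith_yon_map_iff (@LocallyQuasiFinite ⊓ @LocallyOfFiniteType) w).2 ⟨this, hwl⟩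

end Groth.Agent.Stk19
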