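import Groth.Agent.Stk19.AlgSt.LocQThm
import Groth.Agent.AlgSpLib.NoethSource
import Groth.Agent.H8Top.SchemeBasic
import Groth.Agent.Stk19.AlgSt.DescentSp

/-! Properties of schemes read smooth locally on algebraic stacks; noetherian stacks. -/

set_option autoImplicit false
set_option backward.isDefEq.respectTransparency false
set_option backward.isDefEq.respectTransparency.types false

universe u

open CategoryTheory CategoryTheory.Limits AlgebraicGeometry Opposite FibCat Groth.Agent.Desc19 Topology TopologicalSpace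

namespace Groth.Agent.Stk19

variable {S : Scheme.{u}} {𝒳 𝒴 : AlgSt.Cat S}

local notation "AS" => AlgSt.IsAlgStack Scheme.fppfPrecoverage
local notation "Sm" => AlgSt.RepByAlgSpWith (AlgSp.LocP @Smooth)
local notation "Srj" => AlgSt.RepByAlgSpWith AlgSp.IsSurjectiveMor

/-- Local for the smooth topology. -/
def SmLocal (P : Scheme.{u} → Prop) : Prop :=
  ∀ (U : Scheme.{u}) (R : Presieve U), R ∈ Scheme.precoverage @Smooth U → (P U ↔ ∀ ⦃V : Scheme.{u}⦄ (g : V ⟶ U), R g → P V)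

variable {P : Scheme.{u} → Prop}

theorem smLocal_up (hP : SmLocal P) {V U : Scheme.{u}} (g : V ⟶ U) [Smooth g] (h : P U) : P V := by
  let Z : Option PUnit.{u + 1} → Scheme.{u} := fun o => Option.casesOn o U fun _ => V
  let k : ∀ o, Z o ⟶ U := fun o => match o with
    | none => 𝟙 U
    | some _ => g
  refine (hP U (Presieve.ofArrows Z k) ((Scheme.ofArrows_mem_precoverage_iff _).2
    ⟨fun t => ⟨none, t, rfl⟩, fun o => ?_⟩)).1 h g (Presieve.ofArrows.mk (f := k) (some PUnit.unit))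
  match o with
  | none => exact (inferInstance : Smooth (𝟙 U))
  | some _ => exact ‹Smooth g›

theorem smLocal_down (hP : SmLocal P) {V U : Scheme.{u}} (g : V ⟶ U) [Smooth g] [Surjective g] (h : P V) : P U := by
  refine (hP U (Presieve.ofArrows (fun _ : PUnit.{u + 1} => V) fun _ => g)
    ((Scheme.ofArrows_mem_precoverage_iff _).2 ⟨fun t => ⟨PUnit.unit, g.surjective t⟩, fun _ => ‹_›⟩)).2 ?_
  rintro _ _ ⟨_⟩
  exact h

theorem smoothLocally_of_chart (h : AS 𝒳) (hP : SmLocal P) {U₀ : Over S} {x₀ : overCat U₀ ⥤ᵇ 𝒳} (hx₀ : Sm x₀)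
    (hs : Function.Surjective (AlgSt.Points.ofChart x₀)) (h₀ : P U₀.left) : AlgSt.SmoothLocally P 𝒳 := fun U x hx => by
  obtain ⟨T, p, q, -, hq, hp, hsurj⟩ := exists_chart_fp h.isStack.1 x (repByAlgSp1_of_with hx₀)
  have := hq AlgSpLib.etLocal_smooth hx₀
  have := hp AlgSpLib.etLocal_smooth hx
  have : Surjective q.left := ⟨fun t => by
    obtain ⟨s, hs'⟩ := hs (AlgSt.Points.ofChart x t)
    obtain ⟨w, -, rfl⟩ := hsurj s t hs'
    exact ⟨w, rfl⟩⟩
  exact smLocal_down hP q.left (smLocal_up hP p.left h₀)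

theorem smoothLocally_iff_atlas (h : AS 𝒳) (hP : SmLocal P) :
    AlgSt.SmoothLocally P 𝒳 ↔
      ∃ (U : Over S) (x : overCat U ⥤ᵇ 𝒳), Sm x ∧ Srj x ∧ P U.left :=
  ⟨fun hS => (h.atlas).imp fun U ⟨x, hx, hs⟩ => ⟨x, hx, hs, hS U x hx⟩,
    fun ⟨_, _, hx, hs, h₀⟩ => smoothLocally_of_chart h hP hx (ofChart_surjective h.isStack.1 hs) h₀⟩

theorem sm_of_sp_chart (h : IsFibGrpd 𝒳.p) {F : AlgSp.Space S} {x : AlgSt.ofSp F.obj ⥤ᵇ 𝒳} (hx : Sm x) {U : Over S}
    (p : (AlgSp.yon S).obj U ⟶ F.obj) (hpe : AlgSp.RepWith @Etale p) :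
    Sm (BasedFunctor.comp (BasedFunctor.comp (AlgSt.ofOverCat U) (AlgSt.ofSpMap p)) x) :=
  with_comp_locP AlgSpLib.etLocal_smooth (setoid_ofSp F.obj).1 (with_sp_chart AlgSpLib.etLocal_smooth F.property p hpe) hx

theorem etaleLocally_of_smoothLocally (h : IsFibGrpd 𝒳.p) (hS : AlgSt.SmoothLocally P 𝒳) (F : AlgSp.Space S)
    {x : AlgSt.ofSp F.obj ⥤ᵇ 𝒳} (hx : Sm x) : AlgSp.EtaleLocally P F.obj := by
  obtain ⟨U, p, hpe, hps⟩ := F.property.atlas
  exact ⟨U, p, hpe, hps, hS U _ (sm_of_sp_chart h hx p hpe)⟩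

theorem smoothLocally_of_space_chart (h : AS 𝒳) (hP : SmLocal P) {F : AlgSp.Space S} {x : AlgSt.ofSp F.obj ⥤ᵇ 𝒳}
    (hx : Sm x) (hxs : Srj x) (hF : AlgSp.EtaleLocally P F.obj) : AlgSt.SmoothLocally P 𝒳 := by
  obtain ⟨U, p, hpe, hps, hU⟩ := hF
  refine smoothLocally_of_chart h hP (sm_of_sp_chart h.isStack.1 hx p hpe) (fun z => ?_) hU
  obtain ⟨z', rfl⟩ := isSurjective_of_with h.isStack.1 hxs z
  obtain ⟨z'', rfl⟩ := stPt_bijective.2 z'
  obtain ⟨t, rfl⟩ := AlgSpLib.surjective_ofPt p hps z''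
  exact ⟨t, (map_ofChart (BasedFunctor.comp (AlgSt.ofOverCat U) (AlgSt.ofSpMap p)) x t).symm⟩

theorem sm_id (F : AlgSp.Sp S) : Sm (BasedFunctor.id (AlgSt.ofSp F)) :=
  repByAlgSpWith_of_isEquivOver (isEquivOver_id _) fun T => locP_atlas AlgSpLib.etLocal_smooth (AlgSp.repWith_id _ T)

theorem smoothLocally_sp_iff (hP : SmLocal P) (X : AlgSp.Space S) :
    AlgSt.SmoothLocally P (AlgSt.ofSp X.obj) ↔ AlgSp.EtaleLocally P X.obj :=
  ⟨fun h => etaleLocally_of_smoothLocally (setoid_ofSp X.obj).1 h X (sm_id X.obj),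
    fun h => smoothLocally_of_space_chart (isDM_ofSp X).1 hP (sm_id X.obj)
      (repByAlgSpWith_of_isEquivOver (isEquivOver_id _) surjective_id) h⟩

theorem smoothLocally_ofSch_iff (hP : SmLocal P) (U : Over S) : AlgSt.SmoothLocally P (AlgSt.ofSch U) ↔ P U.left :=
  ⟨fun h => h U (AlgSt.ofOverCat U) (repByAlgSpWith_of_isEquivOver (isEquivOver_ofOverCat U)
      fun T => locP_atlas AlgSpLib.etLocal_smooth (AlgSp.repWith_id _ T)),
    fun h => (smoothLocally_sp_iff hP ⟨_, AlgSp.IsAlgSpace.yon_obj U⟩).2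
      ⟨U, 𝟙 _, AlgSp.repWith_id _ U, AlgSp.repWith_id _ U, h⟩⟩

theorem smLocal_noeth : SmLocal (fun T : Scheme.{u} => IsLocallyNoetherian T) := by
  intro U R hR
  obtain ⟨ι, Z, k, rfl⟩ := Presieve.exists_eq_ofArrows R
  obtain ⟨hs, hp⟩ := (Scheme.ofArrows_mem_precoverage_iff _).1 hR
  constructor
  · rintro h V g ⟨i⟩
    have := hp i
    exact LocallyOfFiniteType.isLocallyNoetherian (k i)
  · intro h
    choose i w hw using hs
    have h' : ∀ t : ↥U, IsLocallyNoetherian (Z (i t)) := fun t => h _ (Presieve.ofArrows.mk (i t))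
    have hk : ∀ t : ↥U, Smooth (k (i t)) := fun t => hp (i t)
    have : Smooth (Sigma.desc fun t : ↥U => k (i t)) := IsZariskiLocalAtSource.sigmaDesc (P := @Smooth) hk
    have : Surjective (Sigma.desc fun t : ↥U => k (i t)) := ⟨fun t => ⟨Sigma.ι (fun t : ↥U => Z (i t)) t (w t), by
      show ((Sigma.ι (fun t : ↥U => Z (i t)) t) ≫ Sigma.desc fun t : ↥U => k (i t)) (w t) = t
      rw [Sigma.ι_desc]
      exact hw t⟩⟩
    have : IsLocallyNoetherian (∐ fun t : ↥U => Z (i t)) := by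
      let 𝒰 := sigmaOpenCover fun t : ↥U => Z (i t)
      have : ∀ j, IsLocallyNoetherian (𝒰.X j) := fun j => h' _
      exact (isLocallyNoetherian_iff_openCover 𝒰).2 this
    exact AlgSpLib.isLocallyNoetherian_of_surjective (Sigma.desc fun t : ↥U => k (i t))

theorem smoothLocally_noeth_of_lft (h𝒳 : AS 𝒳) (h𝒴 : AS 𝒴) {f : 𝒳 ⥤ᵇ 𝒴}
    (hf : AlgSt.LocQ (AlgSp.LocP @LocallyOfFiniteType) f)
    (h : AlgSt.SmoothLocally (fun T ↦ IsLocallyNoetherian T) 𝒴) :
    AlgSt.SmoothLocally (fun T ↦ IsLocallyNoetherian T) 𝒳 := by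
  obtain ⟨V, y, hy, hys⟩ := h𝒴.atlas
  obtain ⟨W, e, k, he, -, ⟨i⟩, hx, hxs, -⟩ := exists_charts_over h𝒳 h𝒴 f y
  have : LocallyOfFiniteType k.left := AlgSp.locP_yon_map (good_of_locQ smST_lft h𝒳 h𝒴 hf hy W e k he i)
  have : IsLocallyNoetherian V.left := h V y hy
  exact smoothLocally_of_chart h𝒳 smLocal_noeth (hx hy) (ofChart_surjective h𝒳.isStack.1 (hxs hys))
    (LocallyOfFiniteType.isLocallyNoetherian k.left)

theorem locQ_lfp_of_noeth (h𝒳 : AS 𝒳) (h𝒴 : AS 𝒴) {f : 𝒳 ⥤ᵇ 𝒴}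
    (h : AlgSt.SmoothLocally (fun T ↦ IsLocallyNoetherian T) 𝒴)
    (hf : AlgSt.LocQ (AlgSp.LocP @LocallyOfFiniteType) f) : AlgSt.LocQ (AlgSp.LocP @LocallyOfFinitePresentation) f := by
  obtain ⟨V, y, hy, hys⟩ := h𝒴.atlas
  refine locQ_of_good h𝒳 h𝒴 hy hys fun W e k he i => ?_
  have : LocallyOfFiniteType k.left := AlgSp.locP_yon_map (good_of_locQ smST_lft h𝒳 h𝒴 hf hy W e k he i)
  have : IsLocallyNoetherian V.left := h V y hy
  exact (locP_yon_iff AlgSpLib.etLocal_lfp k).2 (LocallyOfFinitePresentation.iff_locallyOfFiniteType.2 ‹LocallyOfFiniteType k.left›)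

theorem exists_noetherianSpace_nhd_points (h : AS 𝒳) (hn : AlgSt.SmoothLocally (fun T ↦ IsLocallyNoetherian T) 𝒳)
    (p : AlgSt.Points 𝒳) : ∃ W : Set (AlgSt.Points 𝒳), IsOpen W ∧ p ∈ W ∧ NoetherianSpace ↥W := by
  obtain ⟨U, x, hx, hxs⟩ := h.atlas
  have : IsLocallyNoetherian U.left := hn U x hx
  obtain ⟨t, rfl⟩ := ofChart_surjective h.isStack.1 hxs p
  obtain ⟨_, ⟨O, hO, rfl⟩, ht, -⟩ :=
    U.left.isBasis_affineOpens.exists_subset_of_mem_open (Set.mem_univ t) isOpen_univ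
  have : IsNoetherianRing Γ(U.left, O) := IsLocallyNoetherian.component_noetherian ⟨O, hO⟩
  have : NoetherianSpace ↥(O : Set U.left) := noetherianSpace_of_isAffineOpen O hO
  refine ⟨AlgSt.Points.ofChart x '' O, isOpenMap_ofChart_smooth h.isStack.1 hx _ O.2, ⟨t, ht, rfl⟩, ?_⟩
  rw [Set.image_eq_range]
  exact NoetherianSpace.range (fun v : ↥(O : Set U.left) => AlgSt.Points.ofChart x v)
    ((continuous_ofChart h x).comp continuous_subtype_val)

theorem noetherianSpace_points_st (h : AS 𝒳) (hq : AlgSt.IsQuasiCompact 𝒳)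
    (hn : AlgSt.SmoothLocally (fun T ↦ IsLocallyNoetherian T) 𝒳) : NoetherianSpace (AlgSt.Points 𝒳) := by
  obtain ⟨U, x, hU, hx, hxs⟩ := hq
  have : IsLocallyNoetherian U.left := hn U x hx
  have : IsNoetherian U.left := {}
  have : NoetherianSpace ↥(Set.range (AlgSt.Points.ofChart x)) := NoetherianSpace.range _ (continuous_ofChart h x)
  rw [(ofChart_surjective h.isStack.1 hxs).range_eq] at this
  exact noetherian_univ_iff.1 this

/-- Images of finitely many irreducible components cover a closed set locally. -/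
theorem quasiSober_of_open_charts {X : Type*} [TopologicalSpace X]
    (h : ∀ p : X, ∃ (V : Type u) (_ : TopologicalSpace V) (_ : QuasiSober V) (_ : NoetherianSpace V) (φ : V → X),
      Continuous φ ∧ IsOpen (Set.range φ) ∧ p ∈ Set.range φ) : QuasiSober X := by
  refine ⟨fun {Z} hZ hZc => ?_⟩
  obtain ⟨p, hp⟩ := hZ.nonempty
  obtain ⟨V, _, _, _, φ, hφ, ho, hpφ⟩ := h p
  obtain ⟨T, hTf, hTc, hTi, hcov⟩ := NoetherianSpace.exists_finite_set_isClosed_irreducible (hZc.preimage hφ)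
  have hdense : Z ⊆ ⋃₀ ((fun C => closure (φ '' C)) '' T) := by
    refine (subset_closure_inter_of_isPreirreducible_of_isOpen hZ.isPreirreducible ho ⟨p, hp, hpφ⟩).trans
      (closure_minimal ?_ ((hTf.image _).isClosed_biUnion (f := id) (fun _ h => ?_) |> fun h => by
        rwa [Set.sUnion_eq_biUnion]))
    · rintro _ ⟨hz, v, rfl⟩
      have hv : v ∈ φ ⁻¹' Z := hz
      rw [hcov] at hv
      obtain ⟨C, hC, hvC⟩ := hv
      exact ⟨_, ⟨C, hC, rfl⟩, subset_closure ⟨v, hvC, rfl⟩⟩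
    · obtain ⟨C, -, rfl⟩ := h
      exact isClosed_closure
  obtain ⟨_, hD, hZC⟩ := (isIrreducible_iff_sUnion_isClosed.1 hZ) (hTf.image fun C => closure (φ '' C)).toFinset
    (fun D hD => by
      obtain ⟨C, -, rfl⟩ := (hTf.image _).mem_toFinset.1 hD
      exact isClosed_closure) (by rwa [Set.Finite.coe_toFinset])
  obtain ⟨C, hC, rfl⟩ := (hTf.image _).mem_toFinset.1 hD
  obtain ⟨η, hη⟩ := QuasiSober.sober (hTi C hC) (hTc C hC)
  refine ⟨φ η, subset_antisymm (closure_minimal (Set.singleton_subset_iff.2 ?_) hZc) (hZC.trans ?_)⟩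
  · show η ∈ φ ⁻¹' Z
    rw [hcov]
    exact ⟨C, hC, hη.mem⟩
  · refine closure_minimal ?_ isClosed_closure
    rintro _ ⟨v, hv, rfl⟩
    exact (hη.mem_closed_set_iff (isClosed_closure.preimage hφ)).1
      (show η ∈ φ ⁻¹' closure {φ η} from subset_closure rfl) hv

theorem quasiSober_points (h : AS 𝒳) (hn : AlgSt.SmoothLocally (fun T ↦ IsLocallyNoetherian T) 𝒳) :
    QuasiSober (AlgSt.Points 𝒳) := by
  refine quasiSober_of_open_charts fun p => ?_
  obtain ⟨U, x, hx, hxs⟩ := h.atlas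
  have : IsLocallyNoetherian U.left := hn U x hx
  obtain ⟨t, rfl⟩ := ofChart_surjective h.isStack.1 hxs p
  obtain ⟨_, ⟨O, hO, rfl⟩, ht, -⟩ :=
    U.left.isBasis_affineOpens.exists_subset_of_mem_open (Set.mem_univ t) isOpen_univ
  have : IsNoetherianRing Γ(U.left, O) := IsLocallyNoetherian.component_noetherian ⟨O, hO⟩
  refine ⟨↥(O : Set U.left), inferInstance, inferInstanceAs (QuasiSober ↥(Scheme.Opens.toScheme (X := U.left) O)),
    noetherianSpace_of_isAffineOpen O hO,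
    fun v => AlgSt.Points.ofChart x v.1, (continuous_ofChart h x).comp continuous_subtype_val, ?_, ⟨⟨t, ht⟩, rfl⟩⟩
  rw [show Set.range (fun v : ↥(O : Set U.left) => AlgSt.Points.ofChart x v.1) = AlgSt.Points.ofChart x '' O from
    Set.image_eq_range _ _ |>.symm]
  exact isOpenMap_ofChart_smooth h.isStack.1 hx _ O.2

theorem with_qc_of_imm (h𝒳 : AS 𝒳) (h𝒴 : AS 𝒴) {j : 𝒳 ⥤ᵇ 𝒴} (hj : AlgSt.IsImm j)
    (hn : AlgSt.SmoothLocally (fun T ↦ IsLocallyNoetherian T) 𝒴) :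
    AlgSt.RepByAlgSpWith AlgSp.IsQuasiCompactMor j := by
  obtain ⟨V, y, hy, hys⟩ := h𝒴.atlas
  have : IsLocallyNoetherian V.left := hn V y hy
  refine with_of_cover (respSrc_of_baseChange pbStable_qcMor) schDescent_qcMor (repByAlgSp1_of_with hj)
    (with_flat_of_smooth hy).1 (with_flat_of_smooth hy).2 hys ?_
  obtain ⟨F, e, he, ha⟩ := hj V y
  obtain ⟨i⟩ := spMapOfOver_iso (BasedFunctor.comp e (fpFst y j))
  have ha' : AlgSp.RepWith @IsImmersion (AlgSt.spMapOfOver (BasedFunctor.comp e (fpFst y j))) := ha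
  refine (repByAlgSpWith_iff_of_square (f' := AlgSt.ofSpMap (AlgSt.spMapOfOver (BasedFunctor.comp e (fpFst y j))))
    (f := fpFst y j) (a := e) (b := AlgSt.toOverCat V) he (isEquivOver_toOverCat V) i.symm).1
    (repByAlgSpWith_ofSpMap pbStable_qcMor (V := F) (Z := ⟨_, AlgSp.IsAlgSpace.yon_obj V⟩) _ ?_)
  refine isQuasiCompactMor_of_repWith (MorphismProperty.relative.of_exists fun T g => ⟨_, _, _, ha'.1.isPullback g, ?_⟩)
  obtain ⟨c, hc⟩ := (AlgSp.yon S).map_surjective g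
  have hi : IsImmersion (ha'.1.snd g).left := ha'.property_snd g
  have sq₀ := ha'.1.isPullback (𝟙 ((AlgSp.yon S).obj V))
  have hi₀ : IsImmersion (ha'.1.snd (𝟙 ((AlgSp.yon S).obj V))).left := ha'.property_snd _
  have hq : QuasiCompact (ha'.1.snd (𝟙 ((AlgSp.yon S).obj V))).left :=
    H8Top.quasiCompact_of_isImmersion _ fun v => by
      obtain ⟨_, ⟨O, hO, rfl⟩, hv, -⟩ :=
        V.left.isBasis_affineOpens.exists_subset_of_mem_open (Set.mem_univ v) isOpen_univ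
      have : IsNoetherianRing Γ(V.left, O) := IsLocallyNoetherian.component_noetherian ⟨O, hO⟩
      exact ⟨O, hv, noetherianSpace_of_isAffineOpen O hO⟩
  have hq' : AlgSp.RepWith @QuasiCompact (AlgSt.spMapOfOver (BasedFunctor.comp e (fpFst y j))) := by
    have := sq₀.isIso_fst_of_isIso
    have k : AlgSp.RepWith @QuasiCompact ((AlgSp.yon S).map (ha'.1.snd (𝟙 ((AlgSp.yon S).obj V)))) :=
      (AlgSp.repWith_yon_map_iff @QuasiCompact _).2 hq
    have e₀ := sq₀.w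
    rw [Category.comp_id] at e₀
    refine (MorphismProperty.cancel_left_of_respectsIso (AlgSp.RepWith @QuasiCompact) (ha'.1.fst (𝟙 _)) _).1 ?_
    rw [e₀]
    exact k
  exact hq'.property_snd g

end Groth.Agent.Stk19
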