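import Groth.Agent.Stk19.AlgSt.DiagWith
import Groth.Agent.Stk19.AlgSt.Props
import Groth.Agent.Stk19.AlgSt.Unram

/-! Separation conditions for morphisms of algebraic stacks. -/

set_option autoImplicit false
set_option backward.isDefEq.respectTransparency false
set_option backward.isDefEq.respectTransparency.types false

universe u

open CategoryTheory CategoryTheory.Limits AlgebraicGeometry Opposite FibCat Groth.Agent.Desc19

namespace Groth.Agent.Stk19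

variable {S : Scheme.{u}} {P R : MorphismProperty (AlgSp.Sp S)}
variable {𝒳 𝒴 𝒵 𝒳' 𝒴' : AlgSt.Cat S}

/-- Composition, for properties tested on schemes. -/
theorem repByAlgSpWith_comp_st (hPb : PbStable P) (hS : SchemeTested P) (hPc : CompStable P)
    (h𝒳 : IsFibGrpd 𝒳.p) (h𝒴 : IsFibGrpd 𝒴.p) {f : 𝒳 ⥤ᵇ 𝒴} {g : 𝒴 ⥤ᵇ 𝒵}
    (hf : AlgSt.RepByAlgSpWith P f) (hg : AlgSt.RepByAlgSpWith P g) :
    AlgSt.RepByAlgSpWith P (BasedFunctor.comp f g) :=
  repByAlgSpWith_comp_core hPc h𝒳 h𝒴 (repByAlgSp1_of_with hf) hg fun {U V W} z _ _ a _ he i =>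
    hS a fun T p => prop_of_chart (respSrc_of_baseChange hPb) (isAlgSpace_pullback_yon a p) z he i
      (IsPullback.of_hasPullback a p) (Iso.refl _) (hf T _)

/-- The diagonal of a composite, for properties tested on schemes. -/
theorem diag_comp_st (hPb : PbStable P) (hS : SchemeTested P) (hPc : CompStable P)
    (h𝒳 : IsFibGrpd 𝒳.p) (h𝒴 : IsFibGrpd 𝒴.p) {f : 𝒳 ⥤ᵇ 𝒴} {g : 𝒴 ⥤ᵇ 𝒵}
    (hf : AlgSt.RepByAlgSpWith P (FibCat.diag f)) (hg : AlgSt.RepByAlgSpWith P (FibCat.diag g)) :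
    AlgSt.RepByAlgSpWith P (FibCat.diag (BasedFunctor.comp f g)) :=
  repByAlgSpWith_of_iso (diagCompIso f g)
    (repByAlgSpWith_comp_st hPb hS hPc h𝒳 (fibGrpd_fp h𝒳 h𝒳 h𝒴 f f) hf (fpPush_with f hg))

/-- The comparison of fibre products is a base change of a diagonal. -/
theorem fpPush_with' (y : 𝒳' ⥤ᵇ 𝒴) (f : 𝒳 ⥤ᵇ 𝒴) {g : 𝒴 ⥤ᵇ 𝒵} (h : AlgSt.RepByAlgSpWith P (FibCat.diag g)) :
    AlgSt.RepByAlgSpWith P (fpPush y f g) :=
  (repByAlgSpWith_iff_of_square (f' := fpPush y f g) (f := fpFst (relPairMap y f g) (FibCat.diag g))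
    (a := relMagic y f g) (b := BasedFunctor.id _) (isEquivOver_relMagic y f g) (isEquivOver_id _)
    (Iso.refl _)).2 (repByAlgSpWith_fpFst _ h)

/-- The comparison of fibre products, with an explicit 2-isomorphism. -/
theorem fpComparison_with (f : 𝒳 ⥤ᵇ 𝒵) (g : 𝒴 ⥤ᵇ 𝒵) (t : 𝒵 ⥤ᵇ 𝒳')
    (e : BasedFunctor.comp (fpFst f g) (BasedFunctor.comp f t) ≅ BasedFunctor.comp (fpSnd f g) (BasedFunctor.comp g t))
    (he : ∀ x, e.hom.toNatTrans.app x = t.map x.obj.iso.hom) (h : AlgSt.RepByAlgSpWith P (FibCat.diag t)) :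
    AlgSt.RepByAlgSpWith P (fpLift (fpFst f g) (fpSnd f g) e) :=
  repByAlgSpWith_of_iso
    (isoMk (F := fpPush f g t) (G := fpLift (fpFst f g) (fpSnd f g) e) (fun x => fpIsoMk (Iso.refl _) (Iso.refl _) (by
        show t.map (f.map (𝟙 _)) ≫ e.hom.toNatTrans.app x = t.map x.obj.iso.hom ≫ t.map (g.map (𝟙 _))
        rw [he, CategoryTheory.Functor.map_id, CategoryTheory.Functor.map_id, CategoryTheory.Functor.map_id,
          CategoryTheory.Functor.map_id]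
        exact (Category.id_comp _).trans (Category.comp_id _).symm))
      (fun x => fpIsoMk_vert _ _ _ (IsHomLift.id rfl))
      (fun φ => fp_hom_ext ((Category.comp_id _).trans (Category.id_comp _).symm)
        ((Category.comp_id _).trans (Category.id_comp _).symm)))
    (fpPush_with' f g h)

/-- A graph is a base change of a diagonal. -/
theorem graph_with (p : 𝒳 ⥤ᵇ 𝒵) (q : 𝒴 ⥤ᵇ 𝒵) (g : 𝒳 ⥤ᵇ 𝒴)
    (e : BasedFunctor.comp (BasedFunctor.id 𝒳) p ≅ BasedFunctor.comp g q) (h : AlgSt.RepByAlgSpWith P (FibCat.diag q)) :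
    AlgSt.RepByAlgSpWith P (fpLift (BasedFunctor.id 𝒳) g e) := by
  have := id_full 𝒵
  have := id_faithful 𝒵
  let E : fp (BasedFunctor.comp g q) (BasedFunctor.comp (BasedFunctor.id 𝒴) q) ⥤ᵇ fp p q :=
    fpMap (F' := p) (G' := q) (BasedFunctor.id _) (BasedFunctor.id _) (BasedFunctor.id _) e.symm (Iso.refl _)
  refine (repByAlgSpWith_iff_of_square (f' := fpPush g (BasedFunctor.id 𝒴) q)
    (f := fpLift (BasedFunctor.id 𝒳) g e) (a := fpFst g (BasedFunctor.id 𝒴)) (b := E)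
    (isEquivOver_fpFst (isEquivOver_id _)) (isEquivOver_fpMap _ _ _ _ _ (isEquivOver_id _) (isEquivOver_id _)) ?_).1
    (fpPush_with' g _ h)
  exact isoMk (fun t => fpIsoMk (Iso.refl _) t.obj.iso.symm (by
      show p.map (𝟙 _) ≫ e.hom.toNatTrans.app t.obj.fst =
        (e.hom.toNatTrans.app t.obj.fst ≫ q.map t.obj.iso.hom ≫ 𝟙 _) ≫ q.map t.obj.iso.inv
      rw [p.toFunctor.map_id, Category.assoc, Category.assoc]
      erw [Category.id_comp, Category.id_comp, ← q.toFunctor.map_comp, Iso.hom_inv_id, q.toFunctor.map_id]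
      exact (Category.comp_id _).symm))
    (fun t => fpIsoMk_vert _ _ _ (IsHomLift.id rfl))
    (fun {s t} φ => fp_hom_ext ((Category.comp_id _).trans (Category.id_comp _).symm) (by
      have w : g.map φ.hom.fst ≫ t.obj.iso.hom = s.obj.iso.hom ≫ φ.hom.snd := φ.hom.w
      show φ.hom.snd ≫ t.obj.iso.inv = s.obj.iso.inv ≫ g.map φ.hom.fst
      rw [← cancel_epi s.obj.iso.hom, ← reassoc_of% w]
      simp))

/-- A section is a base change of a diagonal. -/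
theorem section_with (f : 𝒳 ⥤ᵇ 𝒴) (s : 𝒴 ⥤ᵇ 𝒳) (e : BasedFunctor.comp s f ≅ BasedFunctor.id 𝒴)
    (h : AlgSt.RepByAlgSpWith P (FibCat.diag f)) : AlgSt.RepByAlgSpWith P s :=
  (repByAlgSpWith_iff_of_square (f' := fpLift (BasedFunctor.id 𝒴) s (show BasedFunctor.comp (BasedFunctor.id 𝒴) (BasedFunctor.id 𝒴) ≅ BasedFunctor.comp s f from e.symm)) (f := s) (a := BasedFunctor.id 𝒴)
    (b := fpSnd (BasedFunctor.id 𝒴) f) (isEquivOver_id _)
    (isEquivOver_comp (isEquivOver_fpSwap _ _) (isEquivOver_fpFst (isEquivOver_id _))) (Iso.refl _)).1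
    (graph_with (BasedFunctor.id 𝒴) f s (show BasedFunctor.comp (BasedFunctor.id 𝒴) (BasedFunctor.id 𝒴) ≅ BasedFunctor.comp s f from e.symm) h)

/-- Descent of a property from a base change, through the graph. -/
theorem of_comp_graph (hPb : PbStable P) (hS : SchemeTested P) (hPc : CompStable P)
    (h𝒳 : IsFibGrpd 𝒳.p) (h𝒴 : IsFibGrpd 𝒴.p) (h𝒵 : IsFibGrpd 𝒵.p) {f : 𝒳 ⥤ᵇ 𝒴} {g : 𝒴 ⥤ᵇ 𝒵}
    (hΔ : AlgSt.RepByAlgSpWith P (FibCat.diag g)) (hfg : AlgSt.RepByAlgSpWith P (BasedFunctor.comp f g)) :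
    AlgSt.RepByAlgSpWith P f := by
  have h := repByAlgSpWith_comp_st hPb hS hPc h𝒳 (fibGrpd_fp h𝒳 h𝒴 h𝒵 (BasedFunctor.comp f g) g)
    (graph_with (BasedFunctor.comp f g) g f (Iso.refl _) hΔ) (repByAlgSpWith_fpSnd g hfg)
  exact h

section Spaces

variable {F G : AlgSp.Sp S}

theorem hom_eq_of_setoid {H K : 𝒳 ⥤ᵇ AlgSt.ofSp F} (α β : H ⟶ K) : α = β :=
  based_hom_ext fun a => Stk.EltObj.hom_ext ((based_app_map α a).trans (based_app_map β a).symm)

/-- Functors into a fibre product over a sheaf are determined by their projections. -/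
theorem nonempty_iso_fp {A : 𝒳' ⥤ᵇ AlgSt.ofSp F} {B : 𝒴' ⥤ᵇ AlgSt.ofSp F} {H K : 𝒳 ⥤ᵇ fp A B}
    (i₁ : BasedFunctor.comp H (fpFst A B) ≅ BasedFunctor.comp K (fpFst A B))
    (i₂ : BasedFunctor.comp H (fpSnd A B) ≅ BasedFunctor.comp K (fpSnd A B)) : Nonempty (H ≅ K) := by
  have := fpPairs_isEquivalence (F := A) (G := B) 𝒳
  exact ⟨(fpPairs A B 𝒳).preimageIso (CategoricalPullback.mkIso i₁ i₂ (hom_eq_of_setoid _ _))⟩

/-- A morphism of algebraic spaces with a property, as a functor. -/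
theorem repByAlgSpWith_ofSpMap (hPb : PbStable P) {V Z : AlgSp.Space S} (d : V.obj ⟶ Z.obj) (hd : P d) :
    AlgSt.RepByAlgSpWith P (AlgSt.ofSpMap d) := fun U y => by
  obtain ⟨E, hE, hE₁, -⟩ := exists_fp_equiv (a := 𝟙 Z.obj) (b := d) (fst := d) (snd := 𝟙 V.obj)
    (IsPullback.of_vert_isIso ⟨by simp⟩)
  have i : BasedFunctor.comp E (fpFst (AlgSt.ofSpMap (𝟙 Z.obj)) (AlgSt.ofSpMap d)) ≅ AlgSt.ofSpMap d := eqToIso hE₁
  obtain ⟨is⟩ := spHom_iso (BasedFunctor.comp (AlgSt.toOverCat U) y)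
  let s := spHom (BasedFunctor.comp (AlgSt.toOverCat U) y)
  have j : y ≅ BasedFunctor.comp (BasedFunctor.comp (AlgSt.ofOverCat U) (AlgSt.ofSpMap s)) (AlgSt.ofSpMap (𝟙 Z.obj)) :=
    (Stk.restr (AlgSt.ofOverCat U) _).mapIso is
  obtain ⟨E₀, hE₀, k₀⟩ := exists_chart_rep (AlgSt.ofSpMap (𝟙 Z.obj)) hE i (IsPullback.of_hasPullback d s) j
  refine ⟨⟨_, isAlgSpace_pullback_yon d s⟩, E₀, hE₀, ?_⟩
  rw [k₀]
  exact hPb V.property Z.property (isAlgSpace_pullback_yon d s) (AlgSp.IsAlgSpace.yon_obj U) d s _ _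
    (IsPullback.of_hasPullback d s) hd

/-- The diagonal of a morphism of algebraic spaces. -/
theorem diag_ofSpMap (hPb : PbStable P) {V Z : AlgSp.Space S} (a : V.obj ⟶ Z.obj) (h : P (pullback.diagonal a)) :
    AlgSt.RepByAlgSpWith P (FibCat.diag (AlgSt.ofSpMap a)) := by
  obtain ⟨E, hE, hE₁, hE₂⟩ := exists_fp_equiv (IsPullback.of_hasPullback a a)
  have h₁ : BasedFunctor.comp (BasedFunctor.comp (AlgSt.ofSpMap (pullback.diagonal a)) E) (fpFst _ _) =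
      BasedFunctor.comp (FibCat.diag (AlgSt.ofSpMap a)) (fpFst _ _) := by
    show BasedFunctor.comp (AlgSt.ofSpMap (pullback.diagonal a)) (BasedFunctor.comp E (fpFst _ _)) = BasedFunctor.id _
    rw [hE₁, show BasedFunctor.comp (AlgSt.ofSpMap (pullback.diagonal a)) (AlgSt.ofSpMap (pullback.fst a a)) = AlgSt.ofSpMap (pullback.diagonal a ≫ pullback.fst a a) from rfl, pullback.diagonal_fst, ofSpMap_id]
  have h₂ : BasedFunctor.comp (BasedFunctor.comp (AlgSt.ofSpMap (pullback.diagonal a)) E) (fpSnd _ _) =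
      BasedFunctor.comp (FibCat.diag (AlgSt.ofSpMap a)) (fpSnd _ _) := by
    show BasedFunctor.comp (AlgSt.ofSpMap (pullback.diagonal a)) (BasedFunctor.comp E (fpSnd _ _)) = BasedFunctor.id _
    rw [hE₂, show BasedFunctor.comp (AlgSt.ofSpMap (pullback.diagonal a)) (AlgSt.ofSpMap (pullback.snd a a)) = AlgSt.ofSpMap (pullback.diagonal a ≫ pullback.snd a a) from rfl, pullback.diagonal_snd, ofSpMap_id]
  obtain ⟨i⟩ := nonempty_iso_fp (eqToIso h₁) (eqToIso h₂)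
  exact (repByAlgSpWith_iff_of_square (f' := AlgSt.ofSpMap (pullback.diagonal a))
    (f := FibCat.diag (AlgSt.ofSpMap a)) (a := BasedFunctor.id _) (b := E) (isEquivOver_id _) hE i).1
    (repByAlgSpWith_ofSpMap hPb (V := V) (Z := ⟨_, AlgSpLib.isAlgSpace_pullback (X := V) (Y := V) a a⟩) _ h)

/-- The diagonal of a functor representable by algebraic spaces. -/
theorem diag_of_with (hPb : PbStable P) {f : 𝒳 ⥤ᵇ 𝒴} (hf : AlgSt.RepByAlgSpWith R f)
    (h : ∀ (V Z : AlgSp.Space S) (a : V.obj ⟶ Z.obj), R a → P (pullback.diagonal a)) :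
    AlgSt.RepByAlgSpWith P (FibCat.diag f) := diag_of_fpFst fun T y => by
  obtain ⟨V, e, he, ha⟩ := hf T y
  obtain ⟨i⟩ := spMapOfOver_iso (BasedFunctor.comp e (fpFst y f))
  refine (diag_transport (f' := AlgSt.ofSpMap (AlgSt.spMapOfOver (BasedFunctor.comp e (fpFst y f))))
    (f := fpFst y f) (a := e) (b := AlgSt.toOverCat T) he (isEquivOver_toOverCat T) i.symm).1 ?_
  exact diag_ofSpMap hPb (Z := ⟨_, AlgSp.IsAlgSpace.yon_obj T⟩) _ (h V ⟨_, AlgSp.IsAlgSpace.yon_obj T⟩ _ ha)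

theorem diag_of_rep1 (hPb : PbStable P) {f : 𝒳 ⥤ᵇ 𝒴} (hf : AlgSt.RepByAlgSp1 f)
    (h : ∀ (V Z : AlgSp.Space S) (a : V.obj ⟶ Z.obj), P (pullback.diagonal a)) :
    AlgSt.RepByAlgSpWith P (FibCat.diag f) :=
  diag_of_with hPb (repByAlgSp1_iff_with_top.1 hf) fun V Z a _ => h V Z a

end Spaces

end Groth.Agent.Stk19
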