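import Groth.Agent.Stk19.AlgSt.Rep
import Groth.Agent.Stk19.Setoid
import Groth.Agent.Stk19.Yoneda
import Groth.Agent.AlgSpLib.Descent
import Groth.Prelude.Def_AlgSpRep

/-! Categories representable by algebraic spaces over a space. -/

set_option autoImplicit false
set_option backward.isDefEq.respectTransparency false
set_option backward.isDefEq.respectTransparency.types false

universe w v₄ u₄ v₃ u₃ v₂ u₂ v u

open CategoryTheory CategoryTheory.Limits AlgebraicGeometry Opposite FibCat Groth.Agent.Desc19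

namespace Groth.Agent.Stk19

section Skeleton

variable {C : Type u₂} [Category.{v} C]

/-- A category fibred in sets is the category of a presheaf. -/
theorem exists_psh_of_fibSet {𝒳 : BasedCategory.{v₃, u₃} C} (h : IsFibSet 𝒳.p) :
    ∃ (P : Cᵒᵖ ⥤ Type u₃) (E : 𝒳 ⥤ᵇ Stk.ofPsh P), IsEquivOver E := by
  have hl : ∀ {U : C} (x : {x : 𝒳.obj // 𝒳.p.obj x = U}) {V : C} (f : V ⟶ U),
      ∃ (y : 𝒳.obj) (φ : y ⟶ x.1) (e : 𝒳.p.obj y = V), 𝒳.p.map φ = eqToHom e ≫ f ≫ eqToHom x.2.symm :=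
    fun x _ f => fibGrpd_lift h.1 x.1 (f ≫ eqToHom x.2.symm)
  choose y φ e hφ using @hl
  have uniq : ∀ {U V : C} (x : {x : 𝒳.obj // 𝒳.p.obj x = U}) (f : V ⟶ U) (z : 𝒳.obj) (ψ : z ⟶ x.1)
      (ez : 𝒳.p.obj z = V), 𝒳.p.map ψ = eqToHom ez ≫ f ≫ eqToHom x.2.symm → y x f = z := fun {U V} x f z ψ ez hψ =>
    congrArg Sigma.fst (fibSet_lift_unique h (φ x f) ψ ((e x f).trans ez.symm) (by rw [hφ, hψ]; simp))
  let P : Cᵒᵖ ⥤ Type u₃ :=
    { obj := fun U => {x : 𝒳.obj // 𝒳.p.obj x = U.unop}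
      map := fun {U V} f => ↾fun x => ⟨y x f.unop, e x f.unop⟩
      map_id := fun U => by
        ext x
        exact uniq x _ x.1 (𝟙 _) x.2 (by simp)
      map_comp := fun {U V W} f g => by
        ext x
        exact uniq x _ (y ⟨y x f.unop, e x f.unop⟩ g.unop) (φ ⟨y x f.unop, e x f.unop⟩ g.unop ≫ φ x f.unop) (e _ _)
          (by rw [𝒳.p.map_comp, hφ, hφ]; simp) }
  let E : 𝒳 ⥤ᵇ Stk.ofPsh P :=
    { toFunctor :=
        { obj := fun a => ⟨𝒳.p.obj a, ⟨a, rfl⟩⟩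
          map := fun {a b} ψ => ⟨𝒳.p.map ψ, Subtype.ext (uniq ⟨b, rfl⟩ _ a ψ rfl (by simp))⟩
          map_id := fun a => Stk.EltObj.hom_ext (𝒳.p.map_id a)
          map_comp := fun ψ χ => Stk.EltObj.hom_ext (𝒳.p.map_comp ψ χ) }
      w := rfl }
  have := fibSet_faithful h
  refine ⟨P, E, EqvData.isEquivOver ⟨⟨fun {a b} k => ?_⟩, ⟨fun {a b} k k' hk => ?_⟩, fun η => ?_⟩⟩
  · let k0 : 𝒳.p.obj a ⟶ 𝒳.p.obj b := k.hom
    have hk : y ⟨b, rfl⟩ k0 = a := congrArg Subtype.val k.map_sec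
    refine ⟨eqToHom hk.symm ≫ φ ⟨b, rfl⟩ k0, Stk.EltObj.hom_ext ?_⟩
    show 𝒳.p.map (eqToHom hk.symm ≫ φ ⟨b, rfl⟩ k0) = k0
    rw [𝒳.p.map_comp, hφ, eqToHom_map]
    simp
  · exact 𝒳.p.map_injective (congrArg Stk.EltObj.Hom.hom hk :)
  · obtain ⟨U, s⟩ := η
    change {x : 𝒳.obj // 𝒳.p.obj x = U} at s
    obtain ⟨x, hx⟩ := s
    subst hx
    exact ⟨x, Iso.refl _, IsHomLift.id rfl⟩

/-- A category fibred in setoids is equivalent to the category of a presheaf. -/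
theorem exists_psh_of_setoid {𝒳 : BasedCategory.{v₃, u₃} C} (h : IsFibSetoid 𝒳.p) :
    ∃ (P : Cᵒᵖ ⥤ Type u₃) (E : 𝒳 ⥤ᵇ Stk.ofPsh P), IsEquivOver E := by
  obtain ⟨𝒵, F, hZ, hF⟩ := exists_fibSet_skeleton h
  obtain ⟨P, E, hE⟩ := exists_psh_of_fibSet hZ
  exact ⟨P, BasedFunctor.comp F E, isEquivOver_comp hF hE⟩

end Skeleton

variable {S : Scheme.{u}} {𝒳 : BasedCategory.{v₂, u₂} (Over S)} {𝒴 : BasedCategory.{v₃, u₃} (Over S)}
  {𝒵 : BasedCategory.{v₄, u₄} (Over S)}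

theorem faithful_of_repByAlgSp1 {f : 𝒳 ⥤ᵇ 𝒴} (h𝒳 : IsFibGrpd 𝒳.p) (h𝒴 : IsFibGrpd 𝒴.p)
    (hf : AlgSt.RepByAlgSp1 f) : f.toFunctor.Faithful := by
  refine faithful_of_fiberFunctor f h𝒳 h𝒴 fun U => ⟨fun {a b} k l hkl => ?_⟩
  have hk := k.2
  have hl := l.2
  obtain ⟨G, i, hi⟩ := exists_classifying h𝒴 (f.obj a.1) (U := U) ((f.w_obj a.1).trans a.2)
  have ek : f.map k.1 = f.map l.1 := congrArg Subtype.val hkl
  have := fibGrpd_isIso_vert h𝒳 (R := U) k.1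
  have hki : 𝒴.p.IsHomLift (𝟙 U) (f.map k.1) := BasedFunctor.preserves_isHomLift f (𝟙 U) k.1
  let s : (fp G f).obj := fpMk (Over.mk (𝟙 U)) a.1 i hi
  let t : (fp G f).obj := fpMk (Over.mk (𝟙 U)) b.1 (i ≪≫ f.toFunctor.mapIso (asIso k.1)) (vert_comp 𝒴.p _ _ hi hki)
  let K : s ⟶ t := fpHom (𝟙 _) k.1 (by
    show G.map (𝟙 _) ≫ i.hom ≫ f.map k.1 = i.hom ≫ f.map k.1
    simp)
  let L : s ⟶ t := fpHom (𝟙 _) l.1 (by
    show G.map (𝟙 _) ≫ i.hom ≫ f.map k.1 = i.hom ≫ f.map l.1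
    rw [ek]; simp)
  have hv : ∀ (m : s ⟶ t), m.hom.fst = 𝟙 _ → (fp G f).p.IsHomLift (𝟙 U) m := fun m hm =>
    (vert_iff (fp G f).p _).2 ⟨rfl, rfl, by
      show (overCat U).p.map m.hom.fst = eqToHom _
      rw [hm]
      exact (overCat U).p.map_id _⟩
  let A : (fp G f).p.Fiber U := ⟨s, rfl⟩
  let B : (fp G f).p.Fiber U := ⟨t, rfl⟩
  have h0 := (setoid_of_repByAlgSp (hf U G)).2 U A B
  have := h0.elim (⟨K, hv K rfl⟩ : A ⟶ B) ⟨L, hv L rfl⟩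
  exact Subtype.ext (congrArg (fun m => m.1.hom.snd) this)

theorem setoid_of_rep1_over {q : 𝒳 ⥤ᵇ 𝒴} (h𝒳 : IsFibGrpd 𝒳.p) (h𝒴 : IsFibSetoid 𝒴.p)
    (hq : AlgSt.RepByAlgSp1 q) : IsFibSetoid 𝒳.p := by
  have := faithful_of_repByAlgSp1 h𝒳 h𝒴.1 hq
  refine ⟨h𝒳, fun U a b => ⟨fun k l => Subtype.ext (q.toFunctor.map_injective ?_)⟩⟩
  exact congrArg Subtype.val ((h𝒴.2 U _ _).elim ((fiberFunctor q U).map k) ((fiberFunctor q U).map l))

theorem repByAlgSp_ofPsh_iff (P : AlgSp.PSp S) : AlgSt.RepByAlgSp (Stk.ofPsh P) ↔ AlgSp.IsAlgSpaceP P := by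
  constructor
  · rintro ⟨F, e, he⟩
    have := isIso_pshHom he
    exact AlgSp.IsAlgSpaceP.of_iso ((AlgSp.isAlgSpaceP_obj_iff F.obj).2 F.property) (asIso (pshHom e))
  · rintro ⟨h, hP⟩
    exact repByAlgSp_ofSp ⟨⟨P, h⟩, hP⟩

theorem repBySp_of_repByAlgSp1 {P G : AlgSp.PSp S} (π : P ⟶ G) (hπ : AlgSt.RepByAlgSp1 (Stk.ofPshMap π)) :
    AlgSp.RepBySp π := by
  intro U ξ F' fst snd sq
  obtain ⟨E, hE, -, -⟩ := exists_fp_equiv_psh sq.flip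
  refine (repByAlgSp_ofPsh_iff F').1 (repByAlgSp_of_equiv' hE ?_)
  have := id_full (Stk.ofPsh G)
  have := id_faithful (Stk.ofPsh G)
  exact repByAlgSp_of_equiv
    (isEquivOver_fpMap (F := BasedFunctor.comp (AlgSt.ofOverCat U) (Stk.ofPshMap ξ)) (G := Stk.ofPshMap π)
      (F' := Stk.ofPshMap ξ) (G' := Stk.ofPshMap π) (AlgSt.ofOverCat U) (BasedFunctor.id _) (BasedFunctor.id _)
      (Iso.refl _) (Iso.refl _) (isEquivOver_ofOverCat U) (isEquivOver_id _))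
    (hπ U _)

theorem isSheaf_of_repBySp {P : AlgSp.PSp S} {Z : AlgSp.Sp S} (π : P ⟶ Z.obj) (hπ : AlgSp.RepBySp π) :
    Presheaf.IsSheaf (AlgSp.J S) P := by
  rw [isSheaf_iff_isSheaf_of_type]
  intro T R hR x hx
  have hZ : Presieve.IsSheaf (AlgSp.J S) Z.obj := (isSheaf_iff_isSheaf_of_type _ _).1 Z.property
  let xZ : Presieve.FamilyOfElements Z.obj R.arrows := fun V f hf => π.app _ (x f hf)
  have hxZ : xZ.Compatible := by
    intro Y₁ Y₂ W g₁ g₂ f₁ f₂ h₁ h₂ hw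
    show Z.obj.map g₁.op (π.app _ (x f₁ h₁)) = Z.obj.map g₂.op (π.app _ (x f₂ h₂))
    rw [← NatTrans.naturality_apply, ← NatTrans.naturality_apply, hx g₁ g₂ h₁ h₂ hw]
  obtain ⟨z, hz, hzu⟩ := hZ R hR xZ hxZ
  let ξ : (AlgSp.pyon S).obj T ⟶ Z.obj :=
    { app := fun V => ↾fun g => Z.obj.map g.down.op z
      naturality := fun V W g => by
        ext k
        exact Z.obj.map_comp_apply k.down.op g z }
  obtain ⟨hF', -⟩ := hπ ξ (pullback.fst π ξ) (pullback.snd π ξ) (IsPullback.of_hasPullback π ξ)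
  have hF : Presieve.IsSheaf (AlgSp.J S) (pullback π ξ) := (isSheaf_iff_isSheaf_of_type _ _).1 hF'
  have hV : ∀ V : (Over S)ᵒᵖ, IsPullback ((pullback.fst π ξ).app V) ((pullback.snd π ξ).app V) (π.app V) (ξ.app V) :=
    fun V => (IsPullback.of_hasPullback π ξ).map ((evaluation _ _).obj V)
  have hw : ∀ ⦃V : Over S⦄ (f : V ⟶ T) (hf : R f),
      ∃ w : (pullback π ξ).obj (op V), (pullback.fst π ξ).app _ w = x f hf ∧ (pullback.snd π ξ).app _ w = ⟨f⟩ :=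
    fun V f hf => Types.exists_of_isPullback (hV (op V)) (x f hf) ⟨f⟩ (hz f hf).symm
  choose w hw1 hw2 using hw
  have hwc : Presieve.FamilyOfElements.Compatible (P := pullback π ξ) (R := R.arrows) w := by
    intro Y₁ Y₂ W g₁ g₂ f₁ f₂ h₁ h₂ hh
    refine Types.ext_of_isPullback (hV (op W)) ?_ ?_
    · rw [NatTrans.naturality_apply, NatTrans.naturality_apply, hw1, hw1, hx g₁ g₂ h₁ h₂ hh]
    · rw [NatTrans.naturality_apply, NatTrans.naturality_apply, hw2, hw2]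
      exact congrArg ULift.up hh
  obtain ⟨t, ht, htu⟩ := hF R hR w hwc
  have hid : (pullback.snd π ξ).app (op T) t = ⟨𝟙 T⟩ := by
    refine (Presieve.IsSheafFor.isSeparatedFor
      ((isSheaf_iff_isSheaf_of_type _ _).1 ((AlgSp.yon S).obj T).property R hR)).ext fun V f hf => ?_
    show ((AlgSp.pyon S).obj T).map f.op _ = ((AlgSp.pyon S).obj T).map f.op _
    rw [← NatTrans.naturality_apply, ht f hf, hw2]
    exact congrArg ULift.up (Category.comp_id f).symm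
  refine ⟨(pullback.fst π ξ).app (op T) t, fun V f hf => ?_, fun t' ht' => ?_⟩
  · show P.map f.op _ = _
    rw [← NatTrans.naturality_apply, ht f hf, hw1]
  · have hπt : π.app (op T) t' = ξ.app (op T) ⟨𝟙 T⟩ := by
      refine Eq.trans (hzu _ fun V f hf => ?_) (Functor.map_id_apply Z.obj (op T) z).symm
      show Z.obj.map f.op (π.app _ t') = π.app _ (x f hf)
      rw [← NatTrans.naturality_apply, ht' f hf]
    obtain ⟨t'', h1, h2⟩ := Types.exists_of_isPullback (hV (op T)) t' ⟨𝟙 T⟩ hπt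
    rw [← h1]
    refine congrArg _ (htu t'' fun V f hf => ?_)
    refine Types.ext_of_isPullback (hV (op V)) ?_ ?_
    · rw [NatTrans.naturality_apply, h1, hw1, ht' f hf]
    · rw [NatTrans.naturality_apply, h2, hw2]
      exact congrArg ULift.up (Category.comp_id f)

/-- A sheaf which is relatively an algebraic space over an algebraic space is one. -/
theorem isAlgSpace_of_repBySp {F Z : AlgSp.Sp S} (hZ : AlgSp.IsAlgSpace Z) (a : F ⟶ Z)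
    (h : ∀ ⦃U : Over S⦄ (ξ : (AlgSp.yon S).obj U ⟶ Z), AlgSp.IsAlgSpace (pullback a ξ)) :
    AlgSp.IsAlgSpace F where
  diag := by
    rw [AlgSpLib.representable_diag_iff]
    intro U g
    have sq := IsPullback.of_hasPullback a (g ≫ a)
    let s : (AlgSp.yon S).obj U ⟶ pullback a (g ≫ a) := pullback.lift g (𝟙 _) (by simp)
    have hs : AlgSp.Representable s := (h (g ≫ a)).representable_from_yon s
    have hp : AlgSp.Representable (pullback.fst a (g ≫ a)) :=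
      MorphismProperty.of_isPullback sq.flip (hZ.representable_from_yon (g ≫ a))
    have e : g = s ≫ pullback.fst a (g ≫ a) := (pullback.lift_fst _ _ _).symm
    rw [e]
    exact MorphismProperty.comp_mem _ _ _ hs hp
  atlas := by
    obtain ⟨W, p, hpe, hps⟩ := hZ.atlas
    obtain ⟨V, q, hqe, hqs⟩ := (h p).atlas
    have sq := IsPullback.of_hasPullback a p
    exact ⟨V, q ≫ pullback.fst a p, AlgSpLib.RepWith.comp hqe (AlgSpLib.RepWith.baseChange sq.flip hpe),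
      AlgSpLib.RepWith.comp hqs (AlgSpLib.RepWith.baseChange sq.flip hps)⟩

theorem isAlgSpaceP_of_repBySp {P Z : AlgSp.PSp S} (π : P ⟶ Z) (hπ : AlgSp.RepBySp π)
    (hZ : AlgSp.IsAlgSpaceP Z) : AlgSp.IsAlgSpaceP P := by
  obtain ⟨hZs, hZa⟩ := hZ
  let Z' : AlgSp.Sp S := ⟨Z, hZs⟩
  have hP := isSheaf_of_repBySp (Z := Z') π hπ
  refine ⟨hP, isAlgSpace_of_repBySp hZa (F := ⟨P, hP⟩) (ObjectProperty.homMk π) fun U ξ => ?_⟩
  obtain ⟨_, hA⟩ := hπ ξ.hom _ _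
    ((IsPullback.of_hasPullback (ObjectProperty.homMk π : (⟨P, hP⟩ : AlgSp.Sp S) ⟶ Z') ξ).map (sheafToPresheaf _ _))
  exact hA

/-- The key representability criterion: representable over a space is a space. -/
theorem repByAlgSp_of_rep1_over {𝒲 : AlgSt.Cat S} (q : 𝒲 ⥤ᵇ 𝒴) (h𝒲 : IsFibGrpd 𝒲.p)
    (h𝒴 : AlgSt.RepByAlgSp 𝒴) (hq : AlgSt.RepByAlgSp1 q) : AlgSt.RepByAlgSp 𝒲 := by
  have hs := setoid_of_rep1_over h𝒲 (setoid_of_repByAlgSp h𝒴) hq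
  obtain ⟨Z, eZ, heZ⟩ := h𝒴
  obtain ⟨P, E, hE⟩ := exists_psh_of_setoid hs
  obtain ⟨E', hE', -, -⟩ := exists_inverse hE
  obtain ⟨e', -, -, ⟨c⟩⟩ := exists_inverse heZ
  obtain ⟨i⟩ := pshHom_iso (BasedFunctor.comp (BasedFunctor.comp E' q) e')
  refine repByAlgSp_of_equiv' hE ((repByAlgSp_ofPsh_iff P).2
    (isAlgSpaceP_of_repBySp (pshHom (BasedFunctor.comp (BasedFunctor.comp E' q) e')) ?_
      ((AlgSp.isAlgSpaceP_obj_iff Z.obj).2 Z.property)))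
  refine repBySp_of_repByAlgSp1 _ ((repByAlgSp1_iff_of_square (f := q) (a := E') (b := eZ) hE' heZ ?_).2 hq)
  exact (postB _ eZ).mapIso i.symm ≪≫ (Stk.restr (BasedFunctor.comp E' q) _).mapIso c

theorem repByAlgSp_fp_of_rep1 {𝒳 𝒴 𝒵 : AlgSt.Cat S} (f : 𝒳 ⥤ᵇ 𝒴) (g : 𝒵 ⥤ᵇ 𝒴) (h𝒳 : IsFibGrpd 𝒳.p) (h𝒴 : IsFibGrpd 𝒴.p)
    (hZ : AlgSt.RepByAlgSp 𝒵) (hf : AlgSt.RepByAlgSp1 f) : AlgSt.RepByAlgSp (fp g f) :=
  repByAlgSp_of_rep1_over (fpFst g f) (fibGrpd_fp (fibGrpd_of_repByAlgSp hZ) h𝒳 h𝒴 g f) hZ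
    (repByAlgSp1_fpFst g hf)

theorem repByAlgSp1_comp {𝒳 𝒴 𝒵 : AlgSt.Cat S} {f : 𝒳 ⥤ᵇ 𝒴} {g : 𝒴 ⥤ᵇ 𝒵} (h𝒳 : IsFibGrpd 𝒳.p) (h𝒴 : IsFibGrpd 𝒴.p)
    (hf : AlgSt.RepByAlgSp1 f) (hg : AlgSt.RepByAlgSp1 g) : AlgSt.RepByAlgSp1 (BasedFunctor.comp f g) := fun U y =>
  repByAlgSp_of_equiv (isEquivOver_fpCompFactor y f g) (repByAlgSp_fp_of_rep1 f (fpSnd y g) h𝒳 h𝒴 (hg U y) hf)

end Groth.Agent.Stk19
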