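import Groth.Agent.Stk19.AlgSt.Sp
import Groth.Agent.Stk19.RepDiag
import Groth.Agent.AlgSpLib.Basic

/-! Representability by algebraic spaces: invariance, base change, composition with equivalences. -/

set_option autoImplicit false
set_option backward.isDefEq.respectTransparency false
set_option backward.isDefEq.respectTransparency.types false

universe v₆ u₆ v₅ u₅ v₄ u₄ v₃ u₃ v₂ u₂ u

open CategoryTheory CategoryTheory.Limits AlgebraicGeometry Opposite FibCat Groth.Agent.Desc19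

namespace Groth.Agent.Stk19

variable {S : Scheme.{u}} {𝒳 : BasedCategory.{v₂, u₂} (Over S)} {𝒴 : BasedCategory.{v₃, u₃} (Over S)}
  {𝒵 : BasedCategory.{v₄, u₄} (Over S)} {𝒳' : BasedCategory.{v₅, u₅} (Over S)} {𝒴' : BasedCategory.{v₆, u₆} (Over S)}
  {P : MorphismProperty (AlgSp.Sp S)}

theorem repByAlgSp_of_equiv {E : 𝒳 ⥤ᵇ 𝒴} (hE : IsEquivOver E) (h : AlgSt.RepByAlgSp 𝒳) : AlgSt.RepByAlgSp 𝒴 := by
  obtain ⟨F, e, he⟩ := h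
  exact ⟨F, BasedFunctor.comp e E, isEquivOver_comp he hE⟩

theorem repByAlgSp_of_equiv' {E : 𝒳 ⥤ᵇ 𝒴} (hE : IsEquivOver E) (h : AlgSt.RepByAlgSp 𝒴) : AlgSt.RepByAlgSp 𝒳 := by
  obtain ⟨G, hG, -, -⟩ := exists_inverse hE
  exact repByAlgSp_of_equiv hG h

theorem repByAlgSp_iff_of_equiv {E : 𝒳 ⥤ᵇ 𝒴} (hE : IsEquivOver E) : AlgSt.RepByAlgSp 𝒳 ↔ AlgSt.RepByAlgSp 𝒴 :=
  ⟨repByAlgSp_of_equiv hE, repByAlgSp_of_equiv' hE⟩

theorem repByAlgSp_ofSp (F : AlgSp.Space S) : AlgSt.RepByAlgSp (AlgSt.ofSp F.obj) :=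
  ⟨F, BasedFunctor.id _, isEquivOver_id _⟩

theorem repByAlgSp_overCat (U : Over S) : AlgSt.RepByAlgSp (overCat U) :=
  ⟨⟨_, AlgSp.IsAlgSpace.yon_obj U⟩, AlgSt.toOverCat U, isEquivOver_toOverCat U⟩

theorem setoid_of_repByAlgSp (h : AlgSt.RepByAlgSp 𝒳) : IsFibSetoid 𝒳.p := by
  obtain ⟨F, e, he⟩ := h
  exact (setoid_iff_of_equiv he).1 (setoid_ofSp _)

theorem fibGrpd_of_repByAlgSp (h : AlgSt.RepByAlgSp 𝒳) : IsFibGrpd 𝒳.p := (setoid_of_repByAlgSp h).1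

theorem isStack_of_repByAlgSp (h : AlgSt.RepByAlgSp 𝒳) : Stk.IsStack (AlgSp.J S) 𝒳 := by
  obtain ⟨F, e, he⟩ := h
  exact (isStack_iff_of_equiv _ he).1 (isStack_ofSp _)

/-- Two representations differ by an isomorphism of sheaves. -/
theorem exists_iso_of_two_rep {F F' : AlgSp.Sp S} (e : AlgSt.ofSp F ⥤ᵇ 𝒳) (e' : AlgSt.ofSp F' ⥤ᵇ 𝒳)
    (he : IsEquivOver e) (he' : IsEquivOver e') :
    ∃ σ : F' ≅ F, Nonempty (e' ≅ BasedFunctor.comp (AlgSt.ofSpMap σ.hom) e) := by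
  obtain ⟨g, hg, -, ⟨c⟩⟩ := exists_inverse he
  have := isIso_spHom (isEquivOver_comp he' hg)
  obtain ⟨i⟩ := spHom_iso (BasedFunctor.comp e' g)
  refine ⟨asIso (spHom (BasedFunctor.comp e' g)), ⟨?_⟩⟩
  exact (Stk.restr e' 𝒳).mapIso c.symm ≪≫ (postB _ e).mapIso i

variable (P) in
/-- The property transfers along isomorphisms of the source algebraic space. -/
def RespSrc : Prop :=
  ∀ ⦃X X' : AlgSp.Sp S⦄ ⦃U : Over S⦄, AlgSp.IsAlgSpace X → AlgSp.IsAlgSpace X' → ∀ (σ : X' ≅ X)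
    (a : X ⟶ (AlgSp.yon S).obj U), P a → P (σ.hom ≫ a)

theorem respSrc_of_respectsIso [P.RespectsIso] : RespSrc P := fun _ _ _ _ _ σ a ha =>
  MorphismProperty.RespectsIso.precomp P σ.hom a ha

theorem respSrc_of_baseChange
    (hPb : ∀ ⦃X₁ Y₁ X₂ Y₂ : AlgSp.Sp S⦄, AlgSp.IsAlgSpace X₁ → AlgSp.IsAlgSpace Y₁ → AlgSp.IsAlgSpace X₂ →
      AlgSp.IsAlgSpace Y₂ → ∀ (a : X₁ ⟶ Y₁) (b : Y₂ ⟶ Y₁) (a' : X₂ ⟶ Y₂) (b' : X₂ ⟶ X₁),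
      IsPullback b' a' a b → P a → P a') : RespSrc P := fun _ _ U h h' σ a ha =>
  hPb h (AlgSp.IsAlgSpace.yon_obj U) h' (AlgSp.IsAlgSpace.yon_obj U) a (𝟙 _) (σ.hom ≫ a) σ.hom
    (IsPullback.of_horiz_isIso ⟨(Category.comp_id _).symm⟩) ha

/-- The property of a representation. -/
theorem repWith_any (hP : RespSrc P) {U : Over S} {q : 𝒳 ⥤ᵇ overCat U} {F F' : AlgSp.Space S}
    {e : AlgSt.ofSp F.obj ⥤ᵇ 𝒳} (he : IsEquivOver e) (h : P (AlgSt.spMapOfOver (BasedFunctor.comp e q)))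
    (e' : AlgSt.ofSp F'.obj ⥤ᵇ 𝒳) (he' : IsEquivOver e') : P (AlgSt.spMapOfOver (BasedFunctor.comp e' q)) := by
  obtain ⟨σ, ⟨i⟩⟩ := exists_iso_of_two_rep e e' he he'
  have k : AlgSt.spMapOfOver (BasedFunctor.comp e' q) = σ.hom ≫ AlgSt.spMapOfOver (BasedFunctor.comp e q) :=
    (spMapOfOver_congr (Φ := BasedFunctor.comp e' q) (Ψ := BasedFunctor.comp (AlgSt.ofSpMap σ.hom) (BasedFunctor.comp e q))
      ((postB _ q).map i.hom)).trans (spMapOfOver_ofSpMap_comp _ _)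
  rw [k]
  exact hP F.property F'.property σ _ h

theorem repByAlgSp1_of_with {f : 𝒳 ⥤ᵇ 𝒴} (h : AlgSt.RepByAlgSpWith P f) : AlgSt.RepByAlgSp1 f := fun U y => by
  obtain ⟨F, e, he, -⟩ := h U y
  exact ⟨F, e, he⟩

theorem repByAlgSpWith_mono {Q : MorphismProperty (AlgSp.Sp S)} {f : 𝒳 ⥤ᵇ 𝒴}
    (hPQ : ∀ ⦃X : AlgSp.Sp S⦄ ⦃U : Over S⦄ (a : X ⟶ (AlgSp.yon S).obj U), AlgSp.IsAlgSpace X → P a → Q a)
    (h : AlgSt.RepByAlgSpWith P f) : AlgSt.RepByAlgSpWith Q f := fun U y => by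
  obtain ⟨F, e, he, hP⟩ := h U y
  exact ⟨F, e, he, hPQ _ F.property hP⟩

theorem repByAlgSpWith_and {Q : MorphismProperty (AlgSp.Sp S)} {f : 𝒳 ⥤ᵇ 𝒴} (hQ : RespSrc Q)
    (h : AlgSt.RepByAlgSpWith P f) (h' : AlgSt.RepByAlgSpWith Q f) : AlgSt.RepByAlgSpWith (P ⊓ Q) f := fun U y => by
  obtain ⟨F, e, he, hp⟩ := h U y
  obtain ⟨F', e', he', hq⟩ := h' U y
  exact ⟨F, e, he, hp, repWith_any hQ he' hq e he⟩

/-- Transport of a witness along an equivalence commuting with the projections. -/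
theorem witness_transfer {U : Over S} {q : 𝒳 ⥤ᵇ overCat U} {q' : 𝒳' ⥤ᵇ overCat U} {E : 𝒳 ⥤ᵇ 𝒳'}
    (hE : IsEquivOver E) (i : BasedFunctor.comp E q' ≅ q)
    (h : ∃ (F : AlgSp.Space S) (e : AlgSt.ofSp F.obj ⥤ᵇ 𝒳), IsEquivOver e ∧ P (AlgSt.spMapOfOver (BasedFunctor.comp e q))) :
    ∃ (F : AlgSp.Space S) (e : AlgSt.ofSp F.obj ⥤ᵇ 𝒳'), IsEquivOver e ∧ P (AlgSt.spMapOfOver (BasedFunctor.comp e q')) := by
  obtain ⟨F, e, he, hp⟩ := h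
  refine ⟨F, BasedFunctor.comp e E, isEquivOver_comp he hE, ?_⟩
  have k : AlgSt.spMapOfOver (BasedFunctor.comp (BasedFunctor.comp e E) q') = AlgSt.spMapOfOver (BasedFunctor.comp e q) :=
    spMapOfOver_congr (Φ := BasedFunctor.comp (BasedFunctor.comp e E) q') (Ψ := BasedFunctor.comp e q)
      ((Stk.restr e _).map i.hom)
  rw [k]
  exact hp

theorem witness_transfer' {U : Over S} {q : 𝒳 ⥤ᵇ overCat U} {q' : 𝒳' ⥤ᵇ overCat U} {E : 𝒳 ⥤ᵇ 𝒳'}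
    (hE : IsEquivOver E) (i : BasedFunctor.comp E q' ≅ q)
    (h : ∃ (F : AlgSp.Space S) (e : AlgSt.ofSp F.obj ⥤ᵇ 𝒳'), IsEquivOver e ∧ P (AlgSt.spMapOfOver (BasedFunctor.comp e q'))) :
    ∃ (F : AlgSp.Space S) (e : AlgSt.ofSp F.obj ⥤ᵇ 𝒳), IsEquivOver e ∧ P (AlgSt.spMapOfOver (BasedFunctor.comp e q)) := by
  obtain ⟨G, hG, -, ⟨c⟩⟩ := exists_inverse hE
  exact witness_transfer hG ((Stk.restr G _).mapIso i.symm ≪≫ (postB _ q').mapIso c) h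

/-- Transport along a square of equivalences. -/
theorem repByAlgSpWith_iff_of_square {f : 𝒳 ⥤ᵇ 𝒴} {f' : 𝒳' ⥤ᵇ 𝒴'} {a : 𝒳' ⥤ᵇ 𝒳} {b : 𝒴' ⥤ᵇ 𝒴}
    (ha : IsEquivOver a) (hb : IsEquivOver b) (e : BasedFunctor.comp f' b ≅ BasedFunctor.comp a f) :
    AlgSt.RepByAlgSpWith P f' ↔ AlgSt.RepByAlgSpWith P f := by
  constructor
  · intro h U y
    obtain ⟨y', ⟨iy⟩⟩ := exists_factor_inverse hb y
    obtain ⟨E, hE, hE'⟩ := exists_baseChange_equiv ha hb e y'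
    obtain ⟨E', hE₂, hE₂', -⟩ := exists_congr (F := BasedFunctor.comp y' b) (G := f) iy (Iso.refl f)
    refine witness_transfer (isEquivOver_comp hE hE₂) (eqToIso ?_) (h U y')
    show BasedFunctor.comp E (BasedFunctor.comp E' (fpFst y f)) = fpFst y' f'
    rw [hE₂', hE']
  · intro h U y'
    obtain ⟨E, hE, hE'⟩ := exists_baseChange_equiv ha hb e y'
    exact witness_transfer' hE (eqToIso hE') (h U (BasedFunctor.comp y' b))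

theorem repByAlgSp1_iff_with_top {f : 𝒳 ⥤ᵇ 𝒴} : AlgSt.RepByAlgSp1 f ↔ AlgSt.RepByAlgSpWith ⊤ f :=
  ⟨fun h U y => (h U y).elim fun F ⟨e, he⟩ => ⟨F, e, he, trivial⟩, repByAlgSp1_of_with⟩

theorem repByAlgSp1_iff_of_square {f : 𝒳 ⥤ᵇ 𝒴} {f' : 𝒳' ⥤ᵇ 𝒴'} {a : 𝒳' ⥤ᵇ 𝒳} {b : 𝒴' ⥤ᵇ 𝒴}
    (ha : IsEquivOver a) (hb : IsEquivOver b) (e : BasedFunctor.comp f' b ≅ BasedFunctor.comp a f) :
    AlgSt.RepByAlgSp1 f' ↔ AlgSt.RepByAlgSp1 f := by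
  rw [repByAlgSp1_iff_with_top, repByAlgSp1_iff_with_top]
  exact repByAlgSpWith_iff_of_square ha hb e

theorem repByAlgSpWith_of_iso {f f' : 𝒳 ⥤ᵇ 𝒴} (e : f ≅ f') (h : AlgSt.RepByAlgSpWith P f) :
    AlgSt.RepByAlgSpWith P f' :=
  (repByAlgSpWith_iff_of_square (a := BasedFunctor.id 𝒳) (b := BasedFunctor.id 𝒴) (f' := f') (f := f)
    (isEquivOver_id _) (isEquivOver_id _) e.symm).2 h

theorem repByAlgSp1_of_iso {f f' : 𝒳 ⥤ᵇ 𝒴} (e : f ≅ f') (h : AlgSt.RepByAlgSp1 f) : AlgSt.RepByAlgSp1 f' :=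
  repByAlgSp1_of_with (repByAlgSpWith_of_iso e (repByAlgSp1_iff_with_top.1 h))

/-- An equivalence is representable by algebraic spaces, by isomorphisms. -/
theorem repByAlgSpWith_of_isEquivOver {f : 𝒳 ⥤ᵇ 𝒴} (hf : IsEquivOver f) (hP : ∀ U : Over S, P (𝟙 ((AlgSp.yon S).obj U))) :
    AlgSt.RepByAlgSpWith P f := fun U y => by
  refine witness_transfer' (q' := BasedFunctor.id (overCat U)) (isEquivOver_fpFst (F := y) hf) (Iso.refl _) ?_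
  exact ⟨⟨_, AlgSp.IsAlgSpace.yon_obj U⟩, AlgSt.toOverCat U, isEquivOver_toOverCat U, by
    rw [show BasedFunctor.comp (AlgSt.toOverCat U) (BasedFunctor.id (overCat U)) = AlgSt.toOverCat U from rfl,
      spMapOfOver_toOverCat]
    exact hP U⟩

theorem repByAlgSp1_of_isEquivOver {f : 𝒳 ⥤ᵇ 𝒴} (hf : IsEquivOver f) : AlgSt.RepByAlgSp1 f :=
  repByAlgSp1_of_with (repByAlgSpWith_of_isEquivOver (P := ⊤) hf fun _ => trivial)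

theorem repByAlgSpWith_fpFst {f : 𝒳 ⥤ᵇ 𝒴} (g : 𝒵 ⥤ᵇ 𝒴) (h : AlgSt.RepByAlgSpWith P f) :
    AlgSt.RepByAlgSpWith P (fpFst g f) := fun U y =>
  witness_transfer' (isEquivOver_fpPaste y g f) (eqToIso (fpPaste_fst y g f)) (h U (BasedFunctor.comp y g))

theorem repByAlgSp1_fpFst {f : 𝒳 ⥤ᵇ 𝒴} (g : 𝒵 ⥤ᵇ 𝒴) (h : AlgSt.RepByAlgSp1 f) : AlgSt.RepByAlgSp1 (fpFst g f) :=
  repByAlgSp1_of_with (repByAlgSpWith_fpFst g (repByAlgSp1_iff_with_top.1 h))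

theorem fpSwap_fst (F : 𝒳 ⥤ᵇ 𝒵) (G : 𝒴 ⥤ᵇ 𝒵) :
    BasedFunctor.comp (fpSwap F G) (fpFst G F) = fpSnd F G := rfl

theorem repByAlgSpWith_fpSnd {f : 𝒳 ⥤ᵇ 𝒴} (g : 𝒵 ⥤ᵇ 𝒴) (h : AlgSt.RepByAlgSpWith P f) :
    AlgSt.RepByAlgSpWith P (fpSnd f g) :=
  (repByAlgSpWith_iff_of_square (f' := fpSnd f g) (f := fpFst g f) (a := fpSwap f g) (b := BasedFunctor.id 𝒵)
    (isEquivOver_fpSwap f g) (isEquivOver_id _) (Iso.refl _)).2 (repByAlgSpWith_fpFst g h)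

theorem repByAlgSp1_fpSnd {f : 𝒳 ⥤ᵇ 𝒴} (g : 𝒵 ⥤ᵇ 𝒴) (h : AlgSt.RepByAlgSp1 f) : AlgSt.RepByAlgSp1 (fpSnd f g) :=
  repByAlgSp1_of_with (repByAlgSpWith_fpSnd g (repByAlgSp1_iff_with_top.1 h))

/-- The fibre product of two spaces over a space is a space. -/
theorem repByAlgSp_fp {A : 𝒳 ⥤ᵇ 𝒵} {B : 𝒴 ⥤ᵇ 𝒵} (h𝒳 : AlgSt.RepByAlgSp 𝒳) (h𝒴 : AlgSt.RepByAlgSp 𝒴)
    (h𝒵 : AlgSt.RepByAlgSp 𝒵) : AlgSt.RepByAlgSp (fp A B) := by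
  obtain ⟨F, ef, hef⟩ := h𝒳
  obtain ⟨G, eg, heg⟩ := h𝒴
  obtain ⟨H, eh, heh⟩ := h𝒵
  obtain ⟨eh', heh', -, ⟨c⟩⟩ := exists_inverse heh
  obtain ⟨i₁⟩ := spHom_iso (BasedFunctor.comp (BasedFunctor.comp ef A) eh')
  obtain ⟨i₂⟩ := spHom_iso (BasedFunctor.comp (BasedFunctor.comp eg B) eh')
  obtain ⟨E, hE, -, -⟩ := exists_fp_equiv
    (IsPullback.of_hasPullback (spHom (BasedFunctor.comp (BasedFunctor.comp ef A) eh'))
      (spHom (BasedFunctor.comp (BasedFunctor.comp eg B) eh')))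
  obtain ⟨_, _, -⟩ := EqvData.of_isEquivOver heh
  let j₁ : BasedFunctor.comp (AlgSt.ofSpMap (spHom (BasedFunctor.comp (BasedFunctor.comp ef A) eh'))) eh ≅
      BasedFunctor.comp ef A :=
    (postB _ eh).mapIso i₁.symm ≪≫ (Stk.restr (BasedFunctor.comp ef A) _).mapIso c
  let j₂ : BasedFunctor.comp (AlgSt.ofSpMap (spHom (BasedFunctor.comp (BasedFunctor.comp eg B) eh'))) eh ≅
      BasedFunctor.comp eg B :=
    (postB _ eh).mapIso i₂.symm ≪≫ (Stk.restr (BasedFunctor.comp eg B) _).mapIso c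
  exact ⟨⟨_, AlgSpLib.isAlgSpace_pullback (Z := H) (X := F) (Y := G) _ _⟩, _,
    isEquivOver_comp hE (isEquivOver_fpMap ef eg eh j₁ j₂ hef heg)⟩

theorem repByAlgSp1_of_repByAlgSp (f : 𝒳 ⥤ᵇ 𝒴) (h𝒳 : AlgSt.RepByAlgSp 𝒳) (h𝒴 : AlgSt.RepByAlgSp 𝒴) :
    AlgSt.RepByAlgSp1 f := fun U _ => repByAlgSp_fp (repByAlgSp_overCat U) h𝒳 h𝒴

end Groth.Agent.Stk19
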